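import Mathlib.GroupTheory.Subgroup.Center
import Mathlib.Algebra.Group.Subgroup.Lattice
import Mathlib.Algebra.Group.Subgroup.Map
import Mathlib.SetTheory.Cardinal.Finite
import Mathlib.Algebra.Group.Nat.Even
import Mathlib.Tactic
import Mathlib
import Cfsg.Agent.TwoFusion.PSL3Inv
set_option linter.all false

-- part: TypeLFive/LThreeDef
section
/-!
The facts (b), (d) about `PSL₃(q)`, `PSU₃(q)` (`q` odd) and `M₁₁` which the core step (K) of type
`L₅` (S0511) uses.  `Y p t` is the subgroup generated by the elements of order dividing `p` which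
commute with `t`: for `p` the characteristic it is the `SL₂(q)` inside the centraliser of the
involution `t` (and `SL(2,3)` inside `GL(2,3)` for `M₁₁`, `p = 3`).
-/

namespace Cfsg.Agent.TypeLFive.LThreeDef

variable {K : Type*} [Group K]

/-- The subgroup generated by the `p`-elements (exponent `p`) commuting with `t`. -/
def Y (p : ℕ) (t : K) : Subgroup K := Subgroup.closure {x | x * t = t * x ∧ x ^ p = 1}

/-- The facts (b), (d) of `L₃^ε(q)`, `M₁₁`. -/
structure Facts (K : Type*) [Group K] (p : ℕ) : Prop where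
  /-- `O(C_K(t)) ≤ Z(C_K(t))`. -/
  cent : ∀ t : K, t ≠ 1 → t * t = 1 → ∀ N : Subgroup K, Odd (Nat.card N) →
    (∀ n ∈ N, n * t = t * n) → (∀ g, g * t = t * g → ∀ n ∈ N, g * n * g⁻¹ ∈ N) →
    ∀ n ∈ N, ∀ g, g * t = t * g → n * g = g * n
  /-- `O(Y_t) = 1`. -/
  odd : ∀ t : K, t ≠ 1 → t * t = 1 → ∀ N : Subgroup K, N ≤ Y p t → Odd (Nat.card N) →
    (∀ g ∈ Y p t, ∀ n ∈ N, g * n * g⁻¹ ∈ N) → N = ⊥
  /-- `K = ⟨Y_w : w ∈ F#⟩` for every four-group `F = {1, t, u, t u}`. -/
  gen : ∀ t u : K, t ≠ 1 → t * t = 1 → u ≠ 1 → u * u = 1 → t ≠ u → t * u = u * t →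
    Y p t ⊔ Y p u ⊔ Y p (t * u) = ⊤

theorem Y_le_cent {p : ℕ} {t x : K} (hx : x ∈ Y p t) : x * t = t * x := by
  refine Subgroup.closure_induction (p := fun x _ => x * t = t * x) (fun x hx => hx.1) ?_ ?_ ?_ hx
  · rw [one_mul, mul_one]
  · intro a b _ _ ha hb
    rw [mul_assoc, hb, ← mul_assoc, ha, mul_assoc]
  · intro a _ ha
    rw [inv_mul_eq_iff_eq_mul, ← mul_assoc, ha, mul_inv_cancel_right]

theorem mem_Y {p : ℕ} {t x : K} (h : x * t = t * x) (hp : x ^ p = 1) : x ∈ Y p t :=
  Subgroup.subset_closure ⟨h, hp⟩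

variable {K' : Type*} [Group K']

theorem map_Y (e : K ≃* K') (p : ℕ) (t : K) : (Y p t).map e.toMonoidHom = Y p (e t) := by
  unfold Y
  rw [MonoidHom.map_closure]
  congr 1
  ext x
  constructor
  · rintro ⟨y, ⟨h1, h2⟩, rfl⟩
    refine ⟨?_, ?_⟩
    · have := congrArg e h1
      simpa using this
    · have := congrArg e h2
      simpa using this
  · rintro ⟨h1, h2⟩
    refine ⟨e.symm x, ⟨?_, ?_⟩, by simp⟩
    · apply e.injective
      simpa using h1
    · apply e.injective
      simpa using h2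

theorem mem_Y_iff (e : K ≃* K') (p : ℕ) (t : K) (x : K) : e x ∈ Y p (e t) ↔ x ∈ Y p t := by
  rw [← map_Y e]
  constructor
  · rintro ⟨y, hy, hyx⟩
    have : y = x := e.injective hyx
    rwa [← this]
  · intro h
    exact ⟨x, h, rfl⟩

/-- `Y_t` is invariant under every automorphism which fixes `t`. -/
theorem Y_char (e : K ≃* K) {p : ℕ} {t : K} (ht : e t = t) {x : K} (hx : x ∈ Y p t) :
    e x ∈ Y p t := by
  have := (mem_Y_iff e p t x).2 hx
  rwa [ht] at this

/-- `Y_t` is normalised by the centraliser of `t`. -/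
theorem conj_mem_Y {p : ℕ} {t g x : K} (hg : g * t = t * g) (hx : x ∈ Y p t) :
    g * x * g⁻¹ ∈ Y p t := by
  have h := Y_char (MulAut.conj g) (p := p) (t := t) (by
    rw [MulAut.conj_apply, hg, mul_inv_cancel_right]) hx
  simpa using h

theorem Facts.congr {p : ℕ} (h : Facts K p) (e : K ≃* K') : Facts K' p := by
  have cardN : ∀ N : Subgroup K', Nat.card (N.comap e.toMonoidHom) = Nat.card N := by
    intro N
    exact Nat.card_congr ((e.symm.subgroupMap N).symm.toEquiv.trans (Equiv.refl _) |>.symm.symm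
      |> fun f => (Equiv.subtypeEquiv e.toEquiv (by intro a; rfl)))
  refine ⟨?_, ?_, ?_⟩
  · intro t h1 h2 N hN hc hn n hnN g hg
    have e1 : ∀ x : K', e (e.symm x) = x := fun x => e.apply_symm_apply x
    have key := h.cent (e.symm t) (by simpa using h1) (by
        rw [← map_mul, h2, map_one]) (N.comap e.toMonoidHom) (by rw [cardN]; exact hN)
      (by
        intro m hm
        apply e.injective
        have := hc (e m) hm
        simpa using this)
      (by
        intro a ha m hm
        have ha' : e a * t = t * e a := by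
          have := congrArg e ha
          simpa using this
        have := hn (e a) ha' (e m) hm
        simpa using this)
      (e.symm n) (by simpa using hnN) (e.symm g) (by
        rw [← map_mul, hg, map_mul])
    have := congrArg e key
    simpa using this
  · intro t h1 h2 N hle hN hn
    have key := h.odd (e.symm t) (by simpa using h1) (by
        rw [← map_mul, h2, map_one]) (N.comap e.toMonoidHom) (by
        intro x hx
        rw [← mem_Y_iff e, e.apply_symm_apply]
        exact hle hx) (by rw [cardN]; exact hN)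
      (by
        intro g hg m hm
        rw [← mem_Y_iff e, e.apply_symm_apply] at hg
        have := hn (e g) hg (e m) hm
        simpa using this)
    rw [eq_bot_iff]
    intro x hx
    have hx' : e.symm x ∈ N.comap e.toMonoidHom := by simpa using hx
    rw [key] at hx'
    have := Subgroup.mem_bot.1 hx'
    rw [Subgroup.mem_bot]
    have h2 := congrArg e this
    simpa using h2
  · intro t u h1 h2 h3 h4 h5 h6
    have key := h.gen (e.symm t) (e.symm u) (by simpa using h1) (by
        rw [← map_mul, h2, map_one]) (by simpa using h3) (by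
        rw [← map_mul, h4, map_one]) (by simpa using h5) (by
        rw [← map_mul, h6, map_mul])
    have h7 := congrArg (Subgroup.map e.toMonoidHom) key
    rw [Subgroup.map_sup, Subgroup.map_sup, map_Y, map_Y, map_Y] at h7
    rw [← map_mul] at h7
    simp only [e.apply_symm_apply] at h7
    rw [h7]
    exact Subgroup.map_top_of_surjective _ e.surjective

end Cfsg.Agent.TypeLFive.LThreeDef
end

-- part: TypeLFive/LThreeQuot
section
/-!
`Facts` pass from `H` to `H ⧸ Z(H)` when `Z(H)` has exponent three (and is trivial if `p = 3`), and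
it is enough to check them on one standard four-group.
-/

set_option autoImplicit false

namespace Cfsg.Agent.TypeLFive.LThreeQuot

open Subgroup Cfsg.Agent.TypeLFive.LThreeDef

section quot

variable {H : Type*} [Group H]

/-- Involutions of `H / Z` lift to involutions. -/
theorem exists_lift (hz3 : ∀ z ∈ center H, z ^ 3 = 1) {t : H ⧸ center H} (ht1 : t ≠ 1)
    (ht : t * t = 1) : ∃ T : H, (QuotientGroup.mk T : H ⧸ center H) = t ∧ T * T = 1 ∧ T ≠ 1 := by
  obtain ⟨T₀, rfl⟩ := QuotientGroup.mk_surjective t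
  have hsq : T₀ ^ 2 ∈ center H := by
    rw [← QuotientGroup.eq_one_iff, QuotientGroup.mk_pow, pow_two]
    exact ht
  have h3 := hz3 _ hsq
  have hmk : (QuotientGroup.mk (T₀ * T₀ ^ 2) : H ⧸ center H) = QuotientGroup.mk T₀ := by
    rw [QuotientGroup.mk_mul, (QuotientGroup.eq_one_iff _).2 hsq, mul_one]
  refine ⟨T₀ * T₀ ^ 2, hmk, ?_, ?_⟩
  · rw [← h3, ← pow_succ', ← pow_add, ← pow_mul]
  · intro h
    apply ht1
    rw [← hmk, h]
    rfl

/-- Elements commuting modulo the centre with an involution commute with it. -/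
theorem comm_of_mk (hz3 : ∀ z ∈ center H, z ^ 3 = 1) {T X : H} (hT : T * T = 1)
    (h : (QuotientGroup.mk X : H ⧸ center H) * QuotientGroup.mk T =
      QuotientGroup.mk T * QuotientGroup.mk X) : X * T = T * X := by
  rw [← QuotientGroup.mk_mul, ← QuotientGroup.mk_mul, QuotientGroup.eq] at h
  set z := (X * T)⁻¹ * (T * X) with hz
  have hz3' := hz3 _ h
  have hzc : ∀ Y : H, Y * z = z * Y := fun Y => Subgroup.mem_center_iff.1 h Y
  have h1 : T * X = X * T * z := by rw [hz]; group
  have h3 : z * z = 1 := by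
    have h4 : X = X * (z * z) := by
      calc X = T * T * X := by rw [hT, one_mul]
        _ = T * (X * T * z) := by rw [mul_assoc, h1]
        _ = (T * X) * T * z := by group
        _ = X * T * z * T * z := by rw [h1]
        _ = X * T * (z * T) * z := by group
        _ = X * T * (T * z) * z := by rw [hzc T]
        _ = X * (T * T) * (z * z) := by group
        _ = X * (z * z) := by rw [hT, mul_one]
    exact (mul_eq_left.1 h4.symm)
  have hz1 : z = 1 := by
    rw [pow_succ, pow_two, h3, one_mul] at hz3'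
    exact hz3'
  rw [hz1, mul_one] at h1
  exact h1.symm

/-- An element with `x ^ p` central can be corrected to have `x ^ p = 1`. -/
theorem exists_pow_eq_one {p : ℕ} (hp : p.Prime) (hz3 : ∀ z ∈ center H, z ^ 3 = 1)
    (hp3 : p = 3 → center H = ⊥) {x : H} (hx : x ^ p ∈ center H) :
    ∃ z ∈ center H, (x * z) ^ p = 1 := by
  by_cases h3 : p = 3
  · rw [hp3 h3, Subgroup.mem_bot] at hx
    exact ⟨1, one_mem _, by rw [mul_one, hx]⟩
  · have hcop : Nat.Coprime p 3 := (Nat.coprime_primes hp Nat.prime_three).2 h3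
    -- `a` with `1 + p a ≡ 0 mod 3`
    have h1 : p % 3 = 1 ∨ p % 3 = 2 := by
      have h2 : p % 3 ≠ 0 := by
        intro h0
        have : 3 ∣ p := Nat.dvd_of_mod_eq_zero h0
        have h4 := Nat.Coprime.eq_one_of_dvd hcop.symm this
        omega
      omega
    have hcomm : ∀ a : ℕ, Commute x ((x ^ p) ^ a) := fun a => by
      rw [← pow_mul]
      exact Commute.self_pow x _
    have key : ∀ a : ℕ, 3 ∣ 1 + a * p → (x * (x ^ p) ^ a) ^ p = 1 := by
      rintro a ⟨b, hb⟩
      rw [(hcomm a).mul_pow, ← pow_mul, ← pow_succ', add_comm, hb, pow_mul, hz3 _ hx, one_pow]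
    rcases h1 with h1 | h1
    · refine ⟨(x ^ p) ^ 2, Subgroup.pow_mem _ hx _, key 2 ?_⟩
      omega
    · refine ⟨(x ^ p) ^ 1, Subgroup.pow_mem _ hx _, key 1 ?_⟩
      omega

theorem Y_mk {p : ℕ} (hp : p.Prime) (hz3 : ∀ z ∈ center H, z ^ 3 = 1)
    (hp3 : p = 3 → center H = ⊥) {T : H} (hT : T * T = 1) :
    Y p (QuotientGroup.mk T : H ⧸ center H) = (Y p T).map (QuotientGroup.mk' (center H)) := by
  unfold Y
  rw [MonoidHom.map_closure]
  congr 1
  ext x
  constructor
  · obtain ⟨X, rfl⟩ := QuotientGroup.mk_surjective x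
    rintro ⟨h1, h2⟩
    have h3 := comm_of_mk hz3 hT h1
    rw [← QuotientGroup.mk_pow, QuotientGroup.eq_one_iff] at h2
    obtain ⟨z, hz, hz1⟩ := exists_pow_eq_one hp hz3 hp3 h2
    refine ⟨X * z, ⟨?_, hz1⟩, ?_⟩
    · have hzT := Subgroup.mem_center_iff.1 hz T
      rw [mul_assoc, ← hzT, ← mul_assoc, h3, mul_assoc]
    · change (QuotientGroup.mk (X * z) : H ⧸ center H) = _
      rw [QuotientGroup.mk_mul, (QuotientGroup.eq_one_iff z).2 hz, mul_one]
  · rintro ⟨X, ⟨h1, h2⟩, rfl⟩
    refine ⟨?_, ?_⟩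
    · change (QuotientGroup.mk X : H ⧸ center H) * QuotientGroup.mk T = _
      rw [← QuotientGroup.mk_mul, h1]
      rfl
    · change (QuotientGroup.mk X : H ⧸ center H) ^ p = 1
      rw [← QuotientGroup.mk_pow, h2]
      rfl

/-- The order of the preimage. -/
theorem odd_card_comap [Finite H] (hz3 : ∀ z ∈ center H, z ^ 3 = 1)
    {N : Subgroup (H ⧸ center H)} (hN : Odd (Nat.card N)) :
    Odd (Nat.card (N.comap (QuotientGroup.mk' (center H)))) := by
  have hZ : Odd (Nat.card (center H)) := by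
    by_contra hcon
    rw [Nat.not_odd_iff_even] at hcon
    obtain ⟨z, hz⟩ := exists_prime_orderOf_dvd_card' 2 hcon.two_dvd
    have h1 := hz3 z.1 z.2
    have h2 : z ^ 2 = 1 := by rw [← hz]; exact pow_orderOf_eq_one z
    have h3 : z ^ 3 = 1 := Subtype.ext h1
    rw [pow_succ, h2, one_mul] at h3
    rw [h3, orderOf_one] at hz
    omega
  set M := N.comap (QuotientGroup.mk' (center H)) with hM
  have h1 : Nat.card M = Nat.card (center H) * Nat.card N := by
    have hle : (QuotientGroup.mk' (center H)).ker ≤ M := by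
      intro x hx
      rw [hM, Subgroup.mem_comap, MonoidHom.mem_ker.1 hx]
      exact one_mem _
    have h2 := Subgroup.card_mul_index ((QuotientGroup.mk' (center H)).ker.subgroupOf M)
    have h3 : Nat.card ((QuotientGroup.mk' (center H)).ker.subgroupOf M) = Nat.card (center H) := by
      rw [Nat.card_congr (Subgroup.subgroupOfEquivOfLe hle).toEquiv, QuotientGroup.ker_mk']
    have h4 : ((QuotientGroup.mk' (center H)).ker.subgroupOf M).index = Nat.card N := by
      have h5 : M.map (QuotientGroup.mk' (center H)) = N :=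
        Subgroup.map_comap_eq_self_of_surjective (QuotientGroup.mk'_surjective _) N
      have h6 : (QuotientGroup.mk' (center H)).ker.subgroupOf M =
          ((QuotientGroup.mk' (center H)).comp M.subtype).ker := by
        ext x
        rw [Subgroup.mem_subgroupOf, MonoidHom.mem_ker, MonoidHom.mem_ker]
        rfl
      rw [h6, Subgroup.index_ker, MonoidHom.range_comp, Subgroup.range_subtype, h5]
    rw [← h2, h3, h4]
  rw [h1]
  exact hZ.mul hN

/-- `Facts` pass to the central quotient. -/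
theorem facts_quot [Finite H] {p : ℕ} (hp : p.Prime) (hz3 : ∀ z ∈ center H, z ^ 3 = 1)
    (hp3 : p = 3 → center H = ⊥) (hH : Facts H p) : Facts (H ⧸ center H) p := by
  have hsurj : ∀ x : H ⧸ center H, ∃ X : H, QuotientGroup.mk' (center H) X = x := fun x =>
    QuotientGroup.mk'_surjective _ x
  refine ⟨?_, ?_, ?_⟩
  · intro t ht1 ht N hN hNc hNn n hn g hg
    obtain ⟨T, rfl, hTT, hT1⟩ := exists_lift hz3 ht1 ht
    obtain ⟨n, rfl⟩ := hsurj n
    obtain ⟨g, rfl⟩ := hsurj g
    have key := hH.cent T hT1 hTT (N.comap (QuotientGroup.mk' (center H)))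
      (odd_card_comap hz3 hN) (by
        intro m hm
        exact comm_of_mk hz3 hTT (hNc _ hm)) (by
        intro a ha m hm
        rw [Subgroup.mem_comap, map_mul, map_mul, map_inv]
        refine hNn _ ?_ _ hm
        change (QuotientGroup.mk a : H ⧸ center H) * QuotientGroup.mk T = _
        rw [← QuotientGroup.mk_mul, ha]
        rfl) n hn g (comm_of_mk hz3 hTT hg)
    rw [← map_mul, ← map_mul, key]
  · intro t ht1 ht N hNY hN hNn
    obtain ⟨T, rfl, hTT, hT1⟩ := exists_lift hz3 ht1 ht
    rw [Y_mk hp hz3 hp3 hTT] at hNY hNn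
    have key := hH.odd T hT1 hTT (N.comap (QuotientGroup.mk' (center H)) ⊓ Y p T) inf_le_right
      (by
        obtain ⟨k, hk⟩ := Subgroup.card_dvd_of_le
          (inf_le_left : N.comap (QuotientGroup.mk' (center H)) ⊓ Y p T ≤ _)
        have h1 := odd_card_comap hz3 hN
        rw [hk] at h1
        exact (Nat.odd_mul.1 h1).1)
      (by
        intro g hg n hn
        refine ⟨?_, Subgroup.mul_mem _ (Subgroup.mul_mem _ hg hn.2) (Subgroup.inv_mem _ hg)⟩
        have h2 := hNn (QuotientGroup.mk' (center H) g) ⟨g, hg, rfl⟩ _ hn.1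
        change QuotientGroup.mk' (center H) (g * n * g⁻¹) ∈ N
        rw [map_mul, map_mul, map_inv]
        exact h2)
    rw [eq_bot_iff]
    intro n hn
    obtain ⟨x, hx, hxn⟩ := hNY hn
    have h0 : x ∈ N.comap (QuotientGroup.mk' (center H)) := by
      rw [Subgroup.mem_comap, hxn]; exact hn
    have h1 : x ∈ N.comap (QuotientGroup.mk' (center H)) ⊓ Y p T := ⟨h0, hx⟩
    rw [key, Subgroup.mem_bot] at h1
    rw [← hxn, h1, map_one]
    exact one_mem _
  · intro t u ht1 ht hu1 hu htu hc
    obtain ⟨T, rfl, hTT, hT1⟩ := exists_lift hz3 ht1 ht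
    obtain ⟨U, rfl, hUU, hU1⟩ := exists_lift hz3 hu1 hu
    have hTU := comm_of_mk hz3 hUU hc
    have key := hH.gen T U hT1 hTT hU1 hUU (by rintro rfl; exact htu rfl) hTU
    have hTUs : (T * U) * (T * U) = 1 := by
      calc (T * U) * (T * U) = T * (U * T) * U := by group
        _ = T * (T * U) * U := by rw [hTU]
        _ = (T * T) * (U * U) := by group
        _ = 1 := by rw [hTT, hUU, one_mul]
    rw [← QuotientGroup.mk_mul, Y_mk hp hz3 hp3 hTT, Y_mk hp hz3 hp3 hUU, Y_mk hp hz3 hp3 hTUs,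
      ← Subgroup.map_sup, ← Subgroup.map_sup, key]
    exact Subgroup.map_top_of_surjective _ (QuotientGroup.mk'_surjective _)

end quot

section std

variable {H : Type*} [Group H]

/-- It is enough to check `Facts` on one four-group, if all four-groups are conjugate (as ordered
pairs of involutions). -/
theorem facts_std {p : ℕ} (t₀ u₀ : H)
    (hconj1 : ∀ t : H, t ≠ 1 → t * t = 1 → ∃ g : H, g * t * g⁻¹ = t₀)
    (hconj2 : ∀ t u : H, t ≠ 1 → t * t = 1 → u ≠ 1 → u * u = 1 → t ≠ u → t * u = u * t →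
      ∃ g : H, g * t * g⁻¹ = t₀ ∧ g * u * g⁻¹ = u₀)
    (cent : ∀ N : Subgroup H, Odd (Nat.card N) →
      (∀ n ∈ N, n * t₀ = t₀ * n) → (∀ g, g * t₀ = t₀ * g → ∀ n ∈ N, g * n * g⁻¹ ∈ N) →
      ∀ n ∈ N, ∀ g, g * t₀ = t₀ * g → n * g = g * n)
    (odd : ∀ N : Subgroup H, N ≤ Y p t₀ → Odd (Nat.card N) →
      (∀ g ∈ Y p t₀, ∀ n ∈ N, g * n * g⁻¹ ∈ N) → N = ⊥)
    (gen : Y p t₀ ⊔ Y p u₀ ⊔ Y p (t₀ * u₀) = ⊤) : Facts H p := by
  have hcomm : ∀ {g t x : H}, g * t * g⁻¹ = t₀ → x * t = t * x →
      (g * x * g⁻¹) * t₀ = t₀ * (g * x * g⁻¹) := by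
    intro g t x hg hx
    rw [← hg]
    calc g * x * g⁻¹ * (g * t * g⁻¹) = g * (x * t) * g⁻¹ := by group
      _ = g * (t * x) * g⁻¹ := by rw [hx]
      _ = _ := by group
  have hcomm' : ∀ {g t x : H}, g * t * g⁻¹ = t₀ → x * t₀ = t₀ * x →
      (g⁻¹ * x * g) * t = t * (g⁻¹ * x * g) := by
    intro g t x hg hx
    have ht' : t = g⁻¹ * t₀ * g := by rw [← hg]; group
    rw [ht']
    calc g⁻¹ * x * g * (g⁻¹ * t₀ * g) = g⁻¹ * (x * t₀) * g := by group
      _ = g⁻¹ * (t₀ * x) * g := by rw [hx]
      _ = _ := by group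
  have cardN : ∀ (g : H) (N : Subgroup H), Nat.card (N.map (MulAut.conj g).toMonoidHom) =
      Nat.card N := fun g N =>
    (Nat.card_congr (N.equivMapOfInjective _ (MulAut.conj g).injective).toEquiv).symm
  refine ⟨?_, ?_, ?_⟩
  · intro t h1 h2 N hN hNc hNn n hn a ha
    obtain ⟨g, hg⟩ := hconj1 t h1 h2
    have key := cent (N.map (MulAut.conj g).toMonoidHom) (by rw [cardN]; exact hN) (by
      rintro _ ⟨m, hm, rfl⟩
      exact hcomm hg (hNc m hm)) (by
      rintro b hb _ ⟨m, hm, rfl⟩
      refine ⟨(g⁻¹ * b * g) * m * (g⁻¹ * b * g)⁻¹, hNn _ (hcomm' hg hb) m hm, ?_⟩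
      change g * _ * g⁻¹ = b * (g * m * g⁻¹) * b⁻¹
      group) (g * n * g⁻¹) ⟨n, hn, rfl⟩ (g * a * g⁻¹) (hcomm hg ha)
    have h3 : g * (n * a) * g⁻¹ = g * (a * n) * g⁻¹ := by
      calc g * (n * a) * g⁻¹ = (g * n * g⁻¹) * (g * a * g⁻¹) := by group
        _ = (g * a * g⁻¹) * (g * n * g⁻¹) := key
        _ = _ := by group
    exact mul_left_cancel (mul_right_cancel h3)
  · intro t h1 h2 N hNY hN hNn
    obtain ⟨g, hg⟩ := hconj1 t h1 h2
    have hY : (Y p t).map (MulAut.conj g).toMonoidHom = Y p t₀ := by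
      rw [map_Y, MulAut.conj_apply, hg]
    have key := odd (N.map (MulAut.conj g).toMonoidHom) (by
        rw [← hY]; exact Subgroup.map_mono hNY) (by rw [cardN]; exact hN) (by
      rw [← hY]
      rintro _ ⟨b, hb, rfl⟩ _ ⟨m, hm, rfl⟩
      refine ⟨b * m * b⁻¹, hNn b hb m hm, ?_⟩
      change g * (b * m * b⁻¹) * g⁻¹ = (g * b * g⁻¹) * (g * m * g⁻¹) * (g * b * g⁻¹)⁻¹
      group)
    exact (Subgroup.map_eq_bot_iff_of_injective _ (MulAut.conj g).injective).1 key
  · intro t u h1 h2 h3 h4 h5 h6
    obtain ⟨g, hg1, hg2⟩ := hconj2 t u h1 h2 h3 h4 h5 h6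
    have hY1 : (Y p t).map (MulAut.conj g).toMonoidHom = Y p t₀ := by
      rw [map_Y, MulAut.conj_apply, hg1]
    have hY2 : (Y p u).map (MulAut.conj g).toMonoidHom = Y p u₀ := by
      rw [map_Y, MulAut.conj_apply, hg2]
    have hY3 : (Y p (t * u)).map (MulAut.conj g).toMonoidHom = Y p (t₀ * u₀) := by
      rw [map_Y, map_mul, MulAut.conj_apply, MulAut.conj_apply, hg1, hg2]
    have h7 : (Y p t ⊔ Y p u ⊔ Y p (t * u)).map (MulAut.conj g).toMonoidHom = ⊤ := by
      rw [Subgroup.map_sup, Subgroup.map_sup, hY1, hY2, hY3, gen]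
    have h8 := congrArg (Subgroup.comap (MulAut.conj g).toMonoidHom) h7
    rw [Subgroup.comap_map_eq_self_of_injective (MulAut.conj g).injective, Subgroup.comap_top] at h8
    exact h8

end std

end Cfsg.Agent.TypeLFive.LThreeQuot
end

-- part: TypeLFive/LThreeFrame
section
/-!
Commuting involutions of determinant one of `GL₃(F)`, `2 ≠ 0`, are simultaneously diagonalisable.
-/

set_option autoImplicit false

open scoped MatrixGroups Matrix

namespace Cfsg.Agent.TypeLFive.LThreeFrame

variable {F : Type*} [Field F]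

/-- `diag(1,-1,-1)`. -/
def D0 (F : Type*) [Field F] : Matrix (Fin 3) (Fin 3) F := !![1, 0, 0; 0, -1, 0; 0, 0, -1]

/-- `diag(-1,1,-1)`. -/
def D1 (F : Type*) [Field F] : Matrix (Fin 3) (Fin 3) F := !![-1, 0, 0; 0, 1, 0; 0, 0, -1]

/-- `diag(-1,-1,1)`. -/
def D2 (F : Type*) [Field F] : Matrix (Fin 3) (Fin 3) F := !![-1, 0, 0; 0, -1, 0; 0, 0, 1]

theorem D0_mul_D1 : D0 F * D1 F = D2 F := by
  ext i j
  fin_cases i <;> fin_cases j <;> simp [D0, D1, D2, Matrix.mul_apply, Fin.sum_univ_three]

theorem D0_sq : D0 F * D0 F = 1 := by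
  ext i j
  fin_cases i <;> fin_cases j <;> simp [D0, Matrix.mul_apply, Fin.sum_univ_three]

theorem D1_sq : D1 F * D1 F = 1 := by
  ext i j
  fin_cases i <;> fin_cases j <;> simp [D1, Matrix.mul_apply, Fin.sum_univ_three]

theorem D0_det : (D0 F).det = 1 := by
  rw [Matrix.det_fin_three]; simp [D0]

theorem D1_det : (D1 F).det = 1 := by
  rw [Matrix.det_fin_three]; simp [D1]

theorem D2_det : (D2 F).det = 1 := by
  rw [Matrix.det_fin_three]; simp [D2]

/-- A matrix commuting with `D0` is block diagonal. -/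
theorem block (h2 : (2 : F) ≠ 0) {X : Matrix (Fin 3) (Fin 3) F} (hX : X * D0 F = D0 F * X) :
    X 0 1 = 0 ∧ X 0 2 = 0 ∧ X 1 0 = 0 ∧ X 2 0 = 0 := by
  have hz : ∀ x : F, -x = x → x = 0 := by
    intro x hx
    have : (2 : F) * x = 0 := by linear_combination -hx
    exact (mul_eq_zero.1 this).resolve_left h2
  refine ⟨?_, ?_, ?_, ?_⟩
  · have := congrFun (congrFun hX 0) 1
    simp only [Matrix.mul_apply, Fin.sum_univ_three] at this
    apply hz
    simpa [D0] using this
  · have := congrFun (congrFun hX 0) 2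
    simp only [Matrix.mul_apply, Fin.sum_univ_three] at this
    apply hz
    simpa [D0] using this
  · have := congrFun (congrFun hX 1) 0
    simp only [Matrix.mul_apply, Fin.sum_univ_three] at this
    apply hz
    simpa [D0] using this.symm
  · have := congrFun (congrFun hX 2) 0
    simp only [Matrix.mul_apply, Fin.sum_univ_three] at this
    apply hz
    simpa [D0] using this.symm

/-- An involution of determinant one commuting with `D0` and different from it can be diagonalised
by a matrix commuting with `D0`. -/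
theorem exists_diag (h2 : (2 : F) ≠ 0) {X : Matrix (Fin 3) (Fin 3) F}
    (hX : X * D0 F = D0 F * X) (hXX : X * X = 1) (hd : X.det = 1) (h1 : X ≠ 1) (h0 : X ≠ D0 F) :
    ∃ B : Matrix (Fin 3) (Fin 3) F, B.det ≠ 0 ∧ D0 F * B = B * D0 F ∧ X * B = B * D1 F := by
  obtain ⟨h01, h02, h10, h20⟩ := block h2 hX
  set x := X 0 0 with hx
  set a := X 1 1 with ha
  set b := X 1 2 with hb
  set c := X 2 1 with hc
  set d := X 2 2 with hd'
  have e00 := congrFun (congrFun hXX 0) 0
  have e11 := congrFun (congrFun hXX 1) 1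
  have e12 := congrFun (congrFun hXX 1) 2
  have e21 := congrFun (congrFun hXX 2) 1
  have e22 := congrFun (congrFun hXX 2) 2
  simp only [Matrix.mul_apply, Fin.sum_univ_three] at e00 e11 e12 e21 e22
  rw [← hx, h01, h02, h10, h20] at e00
  rw [h10, ← ha, ← hb, ← hc] at e11
  rw [h10, ← ha, ← hb, ← hd'] at e12
  rw [h20, ← ha, ← hc, ← hd'] at e21
  rw [h20, ← hc, ← hb, ← hd'] at e22
  simp only [zero_mul, mul_zero, add_zero, zero_add, Matrix.one_apply_eq, Matrix.one_apply,
    Fin.reduceEq, if_false] at e00 e11 e12 e21 e22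
  rw [Matrix.det_fin_three, ← hx, h01, h02, h10, h20, ← ha, ← hb, ← hc, ← hd'] at hd
  have hXe : X = !![x, 0, 0; 0, a, b; 0, c, d] := by
    ext i j
    fin_cases i <;> fin_cases j <;> simp [h01, h02, h10, h20, hx, ha, hb, hc, hd']
  have hsum : a + d = 0 := by
    by_contra hne
    have hb0 : b = 0 := by
      have : b * (a + d) = 0 := by linear_combination e12
      exact (mul_eq_zero.1 this).resolve_right hne
    have hc0 : c = 0 := by
      have : c * (a + d) = 0 := by linear_combination e21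
      exact (mul_eq_zero.1 this).resolve_right hne
    have had : a = d := by
      have : (a - d) * (a + d) = 0 := by linear_combination e11 - e22
      exact sub_eq_zero.1 ((mul_eq_zero.1 this).resolve_right hne)
    have ha1 : (a - 1) * (a + 1) = 0 := by rw [hb0] at e11; linear_combination e11
    have hx1 : x = 1 := by
      rw [hb0, ← had] at hd
      rw [hb0] at e11
      linear_combination hd - x * e11
    rcases mul_eq_zero.1 ha1 with h | h
    · apply h1
      have ha1 : a = 1 := by linear_combination h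
      rw [hXe, hx1, hb0, hc0, ← had, ha1]
      ext i j
      fin_cases i <;> fin_cases j <;> simp
    · apply h0
      have ha1 : a = -1 := by linear_combination h
      rw [hXe, hx1, hb0, hc0, ← had, ha1]
      rfl
  have hda : d = -a := by linear_combination hsum
  have hx1 : x = -1 := by
    rw [hda] at hd
    linear_combination -hd - x * e11
  rw [hXe, hx1, hda]
  by_cases hc0 : c = 0
  · rw [hc0] at e11 ⊢
    by_cases hb0 : b = 0
    · rw [hb0]
      have ha1 : (a - 1) * (a + 1) = 0 := by rw [hb0] at e11; linear_combination e11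
      rcases mul_eq_zero.1 ha1 with h | h
      · have ha1 : a = 1 := by linear_combination h
        rw [ha1]
        refine ⟨1, by simp, by rw [mul_one, one_mul], ?_⟩
        rw [mul_one, one_mul]
        rfl
      · have ha1 : a = -1 := by linear_combination h
        rw [ha1, neg_neg]
        refine ⟨!![1, 0, 0; 0, 0, 1; 0, 1, 0], ?_, ?_, ?_⟩
        · rw [Matrix.det_fin_three]; simp
        · ext i j
          fin_cases i <;> fin_cases j <;> simp [D0, Matrix.mul_apply, Fin.sum_univ_three]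
        · ext i j
          fin_cases i <;> fin_cases j <;> simp [D1, Matrix.mul_apply, Fin.sum_univ_three]
    · refine ⟨!![1, 0, 0; 0, b, b; 0, 1 - a, -1 - a], ?_, ?_, ?_⟩
      · rw [Matrix.det_fin_three]
        simp only [Matrix.of_apply, Matrix.cons_val', Matrix.cons_val_zero, Matrix.cons_val_one,
          Matrix.cons_val, Matrix.cons_val_fin_one]
        intro h
        have : (2 : F) * b = 0 := by linear_combination -h
        rcases mul_eq_zero.1 this with h | h
        · exact h2 h
        · exact hb0 h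
      · ext i j
        fin_cases i <;> fin_cases j <;> simp [D0, Matrix.mul_apply, Fin.sum_univ_three]
      · ext i j
        fin_cases i <;> fin_cases j <;> simp [D1, Matrix.mul_apply, Fin.sum_univ_three] <;>
          first | ring1 | linear_combination e11 | linear_combination (-1 : F) * e11
  · refine ⟨!![1, 0, 0; 0, 1 + a, a - 1; 0, c, c], ?_, ?_, ?_⟩
    · rw [Matrix.det_fin_three]
      simp only [Matrix.of_apply, Matrix.cons_val', Matrix.cons_val_zero, Matrix.cons_val_one,
        Matrix.cons_val, Matrix.cons_val_fin_one]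
      intro h
      have : (2 : F) * c = 0 := by linear_combination h
      rcases mul_eq_zero.1 this with h | h
      · exact h2 h
      · exact hc0 h
    · ext i j
      fin_cases i <;> fin_cases j <;> simp [D0, Matrix.mul_apply, Fin.sum_univ_three]
    · ext i j
      fin_cases i <;> fin_cases j <;> simp [D1, Matrix.mul_apply, Fin.sum_univ_three] <;>
        first | ring1 | linear_combination e11 | linear_combination (-1 : F) * e11

/-- Commuting involutions of determinant one have a common frame. -/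
theorem exists_frame (h2 : (2 : F) ≠ 0) {T U : Matrix (Fin 3) (Fin 3) F} (hT : T * T = 1)
    (hTd : T.det = 1) (hT1 : T ≠ 1) (hU : U * U = 1) (hUd : U.det = 1) (hU1 : U ≠ 1)
    (hTU : T ≠ U) (hc : T * U = U * T) :
    ∃ P : Matrix (Fin 3) (Fin 3) F, P.det ≠ 0 ∧ T * P = P * D0 F ∧ U * P = P * D1 F := by
  obtain ⟨P, hP, hTP⟩ := TwoFusion.PSL3Inv.exists_conj h2 hT hTd hT1
  change T * P = P * D0 F at hTP
  have hPu : IsUnit P.det := by rw [hP]; exact isUnit_one
  have hPi : P⁻¹ * P = 1 := Matrix.nonsing_inv_mul P hPu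
  have hPi' : P * P⁻¹ = 1 := Matrix.mul_nonsing_inv P hPu
  have hD : P⁻¹ * T * P = D0 F := by
    rw [mul_assoc, hTP, ← mul_assoc, hPi, one_mul]
  have hTe : T = P * D0 F * P⁻¹ := by
    rw [← hTP, mul_assoc, hPi', mul_one]
  have conj_mul : ∀ A B : Matrix (Fin 3) (Fin 3) F,
      (P⁻¹ * A * P) * (P⁻¹ * B * P) = P⁻¹ * (A * B) * P := by
    intro A B
    calc (P⁻¹ * A * P) * (P⁻¹ * B * P) = P⁻¹ * A * (P * P⁻¹) * B * P := by
          simp only [mul_assoc]
      _ = P⁻¹ * (A * B) * P := by rw [hPi']; simp only [mul_assoc, mul_one, one_mul]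
  have inj : ∀ A B : Matrix (Fin 3) (Fin 3) F, P⁻¹ * A * P = P⁻¹ * B * P → A = B := by
    intro A B h
    have h3 : P * (P⁻¹ * A * P) * P⁻¹ = P * (P⁻¹ * B * P) * P⁻¹ := by rw [h]
    have h4 : ∀ C : Matrix (Fin 3) (Fin 3) F, P * (P⁻¹ * C * P) * P⁻¹ = C := by
      intro C
      calc P * (P⁻¹ * C * P) * P⁻¹ = (P * P⁻¹) * C * (P * P⁻¹) := by simp only [mul_assoc]
        _ = C := by rw [hPi', one_mul, mul_one]
    rwa [h4, h4] at h3
  obtain ⟨B, hB, hB0, hB1⟩ := exists_diag h2 (X := P⁻¹ * U * P)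
    (by rw [← hD, conj_mul, conj_mul, hc])
    (by rw [conj_mul, hU, mul_one, hPi])
    (by rw [Matrix.det_mul, Matrix.det_mul, hUd, mul_one, ← Matrix.det_mul, hPi, Matrix.det_one])
    (by
      intro h
      apply hU1
      apply inj
      rw [h, mul_one, hPi])
    (by
      intro h
      apply hTU
      apply inj
      rw [h, hD])
  refine ⟨P * B, ?_, ?_, ?_⟩
  · rw [Matrix.det_mul, hP, one_mul]; exact hB
  · rw [← mul_assoc, hTP, mul_assoc, hB0, mul_assoc]
  · have h3 : U * P = P * (P⁻¹ * U * P) := by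
      rw [← mul_assoc, ← mul_assoc, hPi', one_mul]
    rw [← mul_assoc, h3, mul_assoc, hB1, mul_assoc]

end Cfsg.Agent.TypeLFive.LThreeFrame
end
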