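import Mathlib
import Cfsg.Agent.TwoFusion.QDBasic
import Cfsg.Agent.TwoFusion.WreathedBasic
import Cfsg.Agent.S1217
import Cfsg.Prelude.Def_CaseTheorems
import Cfsg.Agent.TwoFusion.WreathedOddAut
import Cfsg.Agent.S0542
import Cfsg.Prelude.Def_TwoFusion
import Cfsg.Agent.TwoFusion.TransferIndex
import Cfsg.Agent.Lib.Cores
import Cfsg.Agent.TwoFusion.SimpleOddIndex
import Cfsg.Agent.TwoFusion.SylowTypeTransfer
import Cfsg.Agent.SylowSp4.Extremal
import Cfsg.Agent.Lib.GoldschmidtFusion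
import Cfsg.Agent.S0215
import Cfsg.Agent.Lib.LocalCore
import Cfsg.Agent.ClassificationK.GTwoModelConf_m3
import Cfsg.Agent.TypeLFive.LThreeFacts_mg
import Cfsg.Agent.SylowLFive.Frame_m3
import Cfsg.Agent.Lib.NormalAbelian
import Cfsg.Agent.SylowSp4.ExtTransfer
import Cfsg.Agent.TwoFusion.OneClass
import Cfsg.Agent.StdL3.OneParity
import Cfsg.Agent.TwoFusion.CyclicAut
import Cfsg.Agent.Classification.QDW.AutSylow
import Cfsg.Agent.FastGrp
import Cfsg.Agent.Prune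
set_option linter.all false

section
prune_inst 0x7fbcfcfbacf8adddffff7e7ffe9ddffc39909ffff6dff94bffe869ff0bdf03060be1fb8f0de010fc0ef6e29410b87813fb7eceffea6bd87ffffd1ff41ffbee1fe5f7b50851d698340fbc2fff83f07f8e7f3fffffffffffffffffffffffffffbeffffffffffff

-- part: TypeLFive/Model
section
set_option linter.all false
open scoped Cfsg.Agent.FastGrp

/-!
# The model of a Sylow 2-subgroup of type `PSL(5, q)`, `q` odd: `S = W ≀ 2` inside `G`

`Wr S f w`: `f : W × W →* G` is injective, `w` is an involution swapping the two factors and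
`S` is the disjoint union of `range f` and `range f * w`.
-/

set_option autoImplicit false

namespace Cfsg.Agent.TypeLFive.Model

open Cfsg.Agent.TwoFusion.QDBasic Cfsg.Agent.TwoFusion.WreathedBasic

/-- `S` is the wreath product of `W` (embedded twice by `f`) by the involution `w`. -/
structure Wr {G W : Type*} [Group G] [Group W] (S : Subgroup G) (f : W × W →* G) (w : G) :
    Prop where
  inj : Function.Injective f
  mem : ∀ p, f p ∈ S
  w_mem : w ∈ S
  w_w : w * w = 1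
  w_f : ∀ x y, w * f (x, y) = f (y, x) * w
  w_ne : ∀ p, f p ≠ w
  cases : ∀ s ∈ S, (∃ x y, s = f (x, y)) ∨ (∃ x y, s = f (x, y) * w)

section basic

variable {G W : Type*} [Group G] [Group W] {S : Subgroup G} {f : W × W →* G} {w : G}

namespace Wr

theorem w_inv (h : Wr S f w) : w⁻¹ = w := inv_eq_of_mul_eq_one_left h.w_w

theorem w_ne_one (h : Wr S f w) : w ≠ 1 := by
  intro h1
  exact h.w_ne 1 (by rw [map_one, h1])

theorem f_eq_iff (h : Wr S f w) (p q : W × W) : f p = f q ↔ p = q := h.inj.eq_iff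

theorem f_eq_one_iff (h : Wr S f w) (p : W × W) : f p = 1 ↔ p = 1 := by
  rw [← map_one f, h.inj.eq_iff]

theorem f_ne_fw (h : Wr S f w) (p q : W × W) : f p ≠ f q * w := by
  intro h1
  apply h.w_ne (q⁻¹ * p)
  rw [map_mul, map_inv, h1, inv_mul_cancel_left]

theorem fw_eq_iff (h : Wr S f w) (p q : W × W) : f p * w = f q * w ↔ p = q := by
  rw [mul_left_inj, h.inj.eq_iff]

/-- `w f(x,y) w⁻¹ = f(y,x)`. -/
theorem w_conj (h : Wr S f w) (x y : W) : w * f (x, y) * w⁻¹ = f (y, x) := by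
  rw [h.w_f, mul_inv_cancel_right]

theorem w_conj' (h : Wr S f w) (x y : W) : w * f (x, y) * w = f (y, x) := by
  rw [h.w_f, mul_assoc, h.w_w, mul_one]

theorem fw_mul_f (h : Wr S f w) (x y a b : W) :
    f (x, y) * w * f (a, b) = f (x * b, y * a) * w := by
  rw [mul_assoc, h.w_f, ← mul_assoc, ← map_mul, Prod.mk_mul_mk]

theorem fw_mul_fw (h : Wr S f w) (x y a b : W) :
    f (x, y) * w * (f (a, b) * w) = f (x * b, y * a) := by
  rw [← mul_assoc, h.fw_mul_f, mul_assoc, h.w_w, mul_one]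

theorem f_mul_fw (_h : Wr S f w) (x y a b : W) :
    f (x, y) * (f (a, b) * w) = f (x * a, y * b) * w := by
  rw [← mul_assoc, ← map_mul, Prod.mk_mul_mk]

theorem f_mul_f (_h : Wr S f w) (x y a b : W) : f (x, y) * f (a, b) = f (x * a, y * b) := by
  rw [← map_mul, Prod.mk_mul_mk]

theorem fw_inv (h : Wr S f w) (x y : W) : (f (x, y) * w)⁻¹ = f (y⁻¹, x⁻¹) * w := by
  apply inv_eq_of_mul_eq_one_left
  rw [h.fw_mul_fw, inv_mul_cancel, inv_mul_cancel]
  exact map_one f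

theorem fw_sq (h : Wr S f w) (x y : W) : f (x, y) * w * (f (x, y) * w) = f (x * y, y * x) :=
  h.fw_mul_fw x y x y

/-- `f(x,y) w` is an involution iff `y = x⁻¹`. -/
theorem fw_sq_eq_one_iff (h : Wr S f w) (x y : W) :
    f (x, y) * w * (f (x, y) * w) = 1 ↔ y = x⁻¹ := by
  rw [h.fw_sq, h.f_eq_one_iff, Prod.mk_eq_one]
  constructor
  · rintro ⟨h1, -⟩; exact (inv_eq_of_mul_eq_one_right h1).symm
  · rintro rfl; simp

/-- the involutions outside `T` are `T`-conjugate to `w`: `f(x,1) w f(x,1)⁻¹ = f(x, x⁻¹) w`. -/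
theorem f_conj_w (h : Wr S f w) (x y : W) : f (x, y) * w * (f (x, y))⁻¹ =
    f (x * y⁻¹, y * x⁻¹) * w := by
  rw [← map_inv, Prod.inv_mk, h.fw_mul_f]

theorem fw_mem (h : Wr S f w) (p : W × W) : f p * w ∈ S := S.mul_mem (h.mem p) h.w_mem

theorem range_le (h : Wr S f w) : f.range ≤ S := by
  rintro _ ⟨p, rfl⟩
  exact h.mem p

theorem fw_not_mem_range (h : Wr S f w) (p : W × W) : f p * w ∉ f.range := by
  rintro ⟨q, hq⟩
  exact h.f_ne_fw q p hq

/-- equality of an element of `S` with commuting: `f(x,y) w` commutes with `f(a,b)`. -/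
theorem fw_comm_f_iff (h : Wr S f w) (x y a b : W) :
    f (x, y) * w * f (a, b) = f (a, b) * (f (x, y) * w) ↔ x * b = a * x ∧ y * a = b * y := by
  rw [h.fw_mul_f, h.f_mul_fw, h.fw_eq_iff, Prod.mk.injEq]

theorem f_comm_f_iff (h : Wr S f w) (x y a b : W) :
    f (x, y) * f (a, b) = f (a, b) * f (x, y) ↔ x * a = a * x ∧ y * b = b * y := by
  rw [h.f_mul_f, h.f_mul_f, h.f_eq_iff, Prod.mk.injEq]

theorem f_comm_w_iff (h : Wr S f w) (x y : W) : f (x, y) * w = w * f (x, y) ↔ x = y := by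
  rw [h.w_f, h.fw_eq_iff, Prod.mk.injEq]
  constructor
  · rintro ⟨h1, -⟩; exact h1
  · rintro rfl; exact ⟨rfl, rfl⟩

/-- transport along an automorphism of `W × W` commuting with the swap. -/
theorem comp (h : Wr S f w) (φ : W × W ≃* W × W)
    (hφ : ∀ x y, φ (y, x) = ((φ (x, y)).2, (φ (x, y)).1)) :
    Wr S (f.comp φ.toMonoidHom) w where
  inj := h.inj.comp φ.injective
  mem p := h.mem _
  w_mem := h.w_mem
  w_w := h.w_w
  w_f x y := by
    have h1 := h.w_f (φ (x, y)).1 (φ (x, y)).2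
    simp only [MonoidHom.comp_apply, MulEquiv.coe_toMonoidHom]
    rw [hφ x y]
    exact h1
  w_ne p := h.w_ne _
  cases s hs := by
    rcases h.cases s hs with ⟨x, y, rfl⟩ | ⟨x, y, rfl⟩
    · left
      refine ⟨(φ.symm (x, y)).1, (φ.symm (x, y)).2, ?_⟩
      simp
    · right
      refine ⟨(φ.symm (x, y)).1, (φ.symm (x, y)).2, ?_⟩
      simp

theorem comp_range (φ : W × W ≃* W × W) : (f.comp φ.toMonoidHom).range = f.range := by
  ext g
  constructor
  · rintro ⟨p, rfl⟩; exact ⟨φ p, rfl⟩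
  · rintro ⟨p, rfl⟩; exact ⟨φ.symm p, by simp⟩

/-- conjugating the whole model by an element of `G`. -/
theorem conj (h : Wr S f w) (g : G) :
    Wr (S.map (MulAut.conj g).toMonoidHom) ((MulAut.conj g).toMonoidHom.comp f)
      (g * w * g⁻¹) where
  inj := (MulAut.conj g).injective.comp h.inj
  mem p := ⟨f p, h.mem p, rfl⟩
  w_mem := ⟨w, h.w_mem, rfl⟩
  w_w := by
    have := h.w_w
    calc g * w * g⁻¹ * (g * w * g⁻¹) = g * (w * w) * g⁻¹ := by group
      _ = 1 := by rw [this]; group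
  w_f x y := by
    simp only [MonoidHom.comp_apply, MulEquiv.coe_toMonoidHom, MulAut.conj_apply]
    calc g * w * g⁻¹ * (g * f (x, y) * g⁻¹) = g * (w * f (x, y)) * g⁻¹ := by group
      _ = g * (f (y, x) * w) * g⁻¹ := by rw [h.w_f]
      _ = g * f (y, x) * g⁻¹ * (g * w * g⁻¹) := by group
  w_ne p hp := by
    simp only [MonoidHom.comp_apply, MulEquiv.coe_toMonoidHom, MulAut.conj_apply] at hp
    exact h.w_ne p (mul_left_cancel (mul_right_cancel hp))
  cases s hs := by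
    obtain ⟨t, ht, rfl⟩ := hs
    rcases h.cases t ht with ⟨x, y, rfl⟩ | ⟨x, y, rfl⟩
    · exact Or.inl ⟨x, y, rfl⟩
    · refine Or.inr ⟨x, y, ?_⟩
      simp only [MonoidHom.comp_apply, MulEquiv.coe_toMonoidHom, MulAut.conj_apply]
      group

/-! ### orders -/

theorem card_range (h : Wr S f w) : Nat.card f.range = Nat.card W * Nat.card W := by
  rw [← Nat.card_prod]
  exact (Nat.card_congr (MonoidHom.ofInjective h.inj).toEquiv).symm

end Wr

/-- The twist `(x, y) ↦ (x μ(y), y μ(x))` by a hom `μ : W → Z(W)`. -/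
def twistHom (μ : W →* W) (hμ : ∀ x y, μ x * y = y * μ x) : W × W →* W × W where
  toFun p := (p.1 * μ p.2, p.2 * μ p.1)
  map_one' := by simp
  map_mul' p q := by
    ext
    · simp only [Prod.fst_mul, Prod.snd_mul, map_mul]
      calc p.1 * q.1 * (μ p.2 * μ q.2) = p.1 * (q.1 * μ p.2) * μ q.2 := by group
        _ = p.1 * (μ p.2 * q.1) * μ q.2 := by rw [hμ]
        _ = p.1 * μ p.2 * (q.1 * μ q.2) := by group
    · simp only [Prod.fst_mul, Prod.snd_mul, map_mul]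
      calc p.2 * q.2 * (μ p.1 * μ q.1) = p.2 * (q.2 * μ p.1) * μ q.1 := by group
        _ = p.2 * (μ p.1 * q.2) * μ q.1 := by rw [hμ]
        _ = p.2 * μ p.1 * (q.2 * μ q.1) := by group

theorem twistHom_apply (μ : W →* W) (hμ : ∀ x y, μ x * y = y * μ x) (x y : W) :
    twistHom μ hμ (x, y) = (x * μ y, y * μ x) := rfl

theorem twistHom_injective (μ : W →* W) (hμ : ∀ x y, μ x * y = y * μ x)
    (hinj : ∀ x, μ (μ x) = x → x = 1) : Function.Injective (twistHom μ hμ) := by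
  rw [injective_iff_map_eq_one]
  rintro ⟨x, y⟩ hxy
  rw [twistHom_apply, Prod.mk_eq_one] at hxy
  obtain ⟨h1, h2⟩ := hxy
  have hx : x = μ y⁻¹ := by rw [map_inv]; exact eq_inv_of_mul_eq_one_left h1
  have hy : y = μ x⁻¹ := by rw [map_inv]; exact eq_inv_of_mul_eq_one_left h2
  have hx1 : x = 1 := by
    apply hinj
    conv_rhs => rw [hx, hy]
    simp
  have hy1 : y = 1 := by rw [hy, hx1]; simp
  rw [hx1, hy1]; rfl

/-- The twist as an automorphism. -/
noncomputable def twistEquiv [Finite W] (μ : W →* W) (hμ : ∀ x y, μ x * y = y * μ x)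
    (hinj : ∀ x, μ (μ x) = x → x = 1) : W × W ≃* W × W :=
  MulEquiv.ofBijective (twistHom μ hμ)
    (Finite.injective_iff_bijective.1 (twistHom_injective μ hμ hinj))

/-- Twisting the model: `f' (x, y) = f (x μ(y), y μ(x))`. -/
theorem Wr.twist [Finite W] (h : Wr S f w) (μ : W →* W) (hμ : ∀ x y, μ x * y = y * μ x)
    (hinj : ∀ x, μ (μ x) = x → x = 1) : Wr S (f.comp (twistHom μ hμ)) w :=
  h.comp (twistEquiv μ hμ hinj) (fun _ _ => rfl)

end basic

end Cfsg.Agent.TypeLFive.Model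
end

-- part: TypeLFive/KModel
section
prune_inst 0x420104430212200000000000602003c22c6000090000b000041200a400e81080040020620a6a03000900020842034004813000040424000000e000400011c0180008000000000a000000006000000000000000000000000000000000000000000000000000
set_option linter.all false
open scoped Cfsg.Agent.FastGrp

-- part: TypeLFive/Wreath
section
/-!
# The wreath product structure `S = W ≀ Z₂`

`Wr S f w`: `f : W → W → G` is an injective homomorphism `W × W → G`, `w` is an involution swapping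
the two factors, and `S = f(W × W)⟨w⟩`.
-/

set_option autoImplicit false

namespace Cfsg.Agent.TypeLFive.Wreath

/-- `S` is the wreath product `W ≀ ⟨w⟩`, with base `f W W`. -/
structure Wr {G : Type*} [Group G] {W : Type*} [Group W] (S : Subgroup G) (f : W → W → G)
    (w : G) : Prop where
  f_mul : ∀ a b a' b', f a b * f a' b' = f (a * a') (b * b')
  f_inj : ∀ a b, f a b = 1 → a = 1 ∧ b = 1
  w_w : w * w = 1
  w_f : ∀ a b, w * f a b = f b a * w
  w_ne : ∀ a b, w ≠ f a b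
  mem_iff : ∀ g, g ∈ S ↔ (∃ a b, g = f a b) ∨ ∃ a b, g = f a b * w

namespace Wr

variable {G : Type*} [Group G] {W : Type*} [Group W] {S : Subgroup G} {f : W → W → G} {w : G}

theorem f_one (h : Wr S f w) : f 1 1 = 1 := by
  have h1 := h.f_mul 1 1 1 1
  rw [one_mul] at h1
  exact mul_eq_left.1 h1

theorem f_inv (h : Wr S f w) (a b : W) : (f a b)⁻¹ = f a⁻¹ b⁻¹ := by
  rw [inv_eq_iff_mul_eq_one, h.f_mul, mul_inv_cancel, mul_inv_cancel, h.f_one]

theorem f_injective (h : Wr S f w) {a b a' b' : W} (he : f a b = f a' b') : a = a' ∧ b = b' := by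
  have h1 : f (a'⁻¹ * a) (b'⁻¹ * b) = 1 := by
    rw [← h.f_mul, ← h.f_inv, he, inv_mul_cancel]
  obtain ⟨h2, h3⟩ := h.f_inj _ _ h1
  exact ⟨(inv_mul_eq_one.1 h2).symm, (inv_mul_eq_one.1 h3).symm⟩

theorem f_mem (h : Wr S f w) (a b : W) : f a b ∈ S := (h.mem_iff _).2 (Or.inl ⟨a, b, rfl⟩)

theorem w_mem (h : Wr S f w) : w ∈ S :=
  (h.mem_iff _).2 (Or.inr ⟨1, 1, by rw [h.f_one, one_mul]⟩)

theorem w_inv (h : Wr S f w) : w⁻¹ = w := inv_eq_of_mul_eq_one_left h.w_w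

theorem w_conj (h : Wr S f w) (a b : W) : w * f a b * w⁻¹ = f b a := by
  rw [h.w_f]; group

/-- the base group -/
def T (h : Wr S f w) : Subgroup G where
  carrier := {g | ∃ a b, g = f a b}
  one_mem' := ⟨1, 1, h.f_one.symm⟩
  mul_mem' := by
    rintro _ _ ⟨a, b, rfl⟩ ⟨a', b', rfl⟩
    exact ⟨a * a', b * b', h.f_mul _ _ _ _⟩
  inv_mem' := by
    rintro _ ⟨a, b, rfl⟩
    exact ⟨a⁻¹, b⁻¹, h.f_inv _ _⟩

theorem mem_T (h : Wr S f w) (g : G) : g ∈ h.T ↔ ∃ a b, g = f a b := Iff.rfl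

/-- transport by a conjugation -/
theorem conj (h : Wr S f w) (g : G) :
    Wr (S.map (MulAut.conj g).toMonoidHom) (fun a b => g * f a b * g⁻¹) (g * w * g⁻¹) where
  f_mul a b a' b' := by
    rw [← h.f_mul]; group
  f_inj a b hab := by
    apply h.f_inj
    have h1 : f a b = g⁻¹ * (g * f a b * g⁻¹) * g := by group
    have hab' : g * f a b * g⁻¹ = 1 := hab
    rw [h1, hab']; group
  w_w := by
    have h1 : g * w * g⁻¹ * (g * w * g⁻¹) = g * (w * w) * g⁻¹ := by group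
    rw [h1, h.w_w]; group
  w_f a b := by
    have h1 : g * w * g⁻¹ * (g * f a b * g⁻¹) = g * (w * f a b) * g⁻¹ := by group
    rw [h1, h.w_f]; group
  w_ne a b := by
    intro hc
    apply h.w_ne a b
    exact mul_left_cancel (mul_right_cancel hc)
  mem_iff x := by
    simp only [Subgroup.mem_map, MulEquiv.coe_toMonoidHom, MulAut.conj_apply]
    constructor
    · rintro ⟨y, hy, rfl⟩
      rcases (h.mem_iff y).1 hy with ⟨a, b, rfl⟩ | ⟨a, b, rfl⟩
      · exact Or.inl ⟨a, b, rfl⟩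
      · exact Or.inr ⟨a, b, by group⟩
    · rintro (⟨a, b, rfl⟩ | ⟨a, b, rfl⟩)
      · exact ⟨f a b, h.f_mem a b, rfl⟩
      · exact ⟨f a b * w, S.mul_mem (h.f_mem a b) h.w_mem, by group⟩

/-- transport by an isomorphism of the two subgroups -/
theorem of_equiv {H : Type*} [Group H] {P : Subgroup H} (h : Wr S f w) (e : S ≃* P) :
    Wr P (fun a b => ((e ⟨f a b, h.f_mem a b⟩ : P) : H)) ((e ⟨w, h.w_mem⟩ : P) : H) where
  f_mul a b a' b' := by
    rw [← Subgroup.coe_mul, ← map_mul]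
    congr 2
    exact Subtype.ext (h.f_mul _ _ _ _)
  f_inj a b hab := by
    apply h.f_inj
    have h1 : e ⟨f a b, h.f_mem a b⟩ = 1 := Subtype.ext hab
    have h2 := (MulEquiv.map_eq_one_iff e).1 h1
    exact congrArg Subtype.val h2
  w_w := by
    rw [← Subgroup.coe_mul, ← map_mul]
    have h1 : (⟨w, h.w_mem⟩ * ⟨w, h.w_mem⟩ : S) = 1 := Subtype.ext h.w_w
    rw [h1, map_one]; rfl
  w_f a b := by
    rw [← Subgroup.coe_mul, ← Subgroup.coe_mul, ← map_mul, ← map_mul]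
    congr 2
    exact Subtype.ext (h.w_f _ _)
  w_ne a b := by
    intro hc
    apply h.w_ne a b
    have h1 := e.injective (Subtype.ext hc : e ⟨w, h.w_mem⟩ = e ⟨f a b, h.f_mem a b⟩)
    exact congrArg Subtype.val h1
  mem_iff x := by
    constructor
    · intro hx
      obtain ⟨y, hy⟩ := e.surjective ⟨x, hx⟩
      have hx' : x = ((e y : P) : H) := by rw [hy]
      rcases (h.mem_iff y).1 y.2 with ⟨a, b, hab⟩ | ⟨a, b, hab⟩
      · refine Or.inl ⟨a, b, ?_⟩
        rw [hx']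
        congr 2
        exact Subtype.ext hab
      · refine Or.inr ⟨a, b, ?_⟩
        rw [hx', ← Subgroup.coe_mul, ← map_mul]
        congr 2
        exact Subtype.ext hab
    · rintro (⟨a, b, rfl⟩ | ⟨a, b, rfl⟩)
      · exact (e _).2
      · rw [← Subgroup.coe_mul]
        exact (e _ * e _).2

/-- twist by a homomorphism `μ : W → Z(W)` -/
theorem twist (h : Wr S f w) (μ : W →* W) (hz : ∀ a b, μ a * b = b * μ a)
    (hi : ∀ a b, a * μ b = 1 → b * μ a = 1 → a = 1 ∧ b = 1)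
    (hs : ∀ a b, ∃ a' b', a' * μ b' = a ∧ b' * μ a' = b) :
    Wr S (fun a b => f (a * μ b) (b * μ a)) w where
  f_mul a b a' b' := by
    rw [h.f_mul, map_mul, map_mul]
    congr 1
    · calc a * μ b * (a' * μ b') = a * (μ b * a') * μ b' := by group
        _ = a * (a' * μ b) * μ b' := by rw [hz]
        _ = _ := by group
    · calc b * μ a * (b' * μ a') = b * (μ a * b') * μ a' := by group
        _ = b * (b' * μ a) * μ a' := by rw [hz]
        _ = _ := by group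
  f_inj a b hab := by
    obtain ⟨h1, h2⟩ := h.f_inj _ _ hab
    exact hi a b h1 h2
  w_w := h.w_w
  w_f a b := h.w_f _ _
  w_ne a b := h.w_ne _ _
  mem_iff g := by
    rw [h.mem_iff]
    constructor
    · rintro (⟨a, b, rfl⟩ | ⟨a, b, rfl⟩)
      · obtain ⟨a', b', h1, h2⟩ := hs a b
        exact Or.inl ⟨a', b', by rw [h1, h2]⟩
      · obtain ⟨a', b', h1, h2⟩ := hs a b
        exact Or.inr ⟨a', b', by rw [h1, h2]⟩
    · rintro (⟨a, b, rfl⟩ | ⟨a, b, rfl⟩)
      · exact Or.inl ⟨_, _, rfl⟩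
      · exact Or.inr ⟨_, _, rfl⟩

theorem f_mul_w_ne (h : Wr S f w) (a b a' b' : W) : f a b * w ≠ f a' b' := by
  intro hc
  apply h.w_ne (a⁻¹ * a') (b⁻¹ * b')
  rw [← h.f_mul, ← h.f_inv, ← hc, inv_mul_cancel_left]

/-- `|S| = 2 |W|²` -/
theorem card_eq (h : Wr S f w) : Nat.card S = 2 * Nat.card W ^ 2 := by
  let F : (W × W) ⊕ (W × W) → S := Sum.elim (fun p => ⟨f p.1 p.2, h.f_mem _ _⟩)
    (fun p => ⟨f p.1 p.2 * w, S.mul_mem (h.f_mem _ _) h.w_mem⟩)
  have hF : Function.Bijective F := by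
    constructor
    · rintro (⟨a, b⟩ | ⟨a, b⟩) (⟨a', b'⟩ | ⟨a', b'⟩) he
      · have h1 : f a b = f a' b' := congrArg Subtype.val he
        obtain ⟨h2, h3⟩ := h.f_injective h1
        rw [h2, h3]
      · exact absurd (congrArg Subtype.val he).symm (h.f_mul_w_ne _ _ _ _)
      · exact absurd (congrArg Subtype.val he) (h.f_mul_w_ne _ _ _ _)
      · have h1 : f a b * w = f a' b' * w := congrArg Subtype.val he
        obtain ⟨h2, h3⟩ := h.f_injective (mul_right_cancel h1)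
        rw [h2, h3]
    · rintro ⟨x, hx⟩
      rcases (h.mem_iff x).1 hx with ⟨a, b, rfl⟩ | ⟨a, b, rfl⟩
      · exact ⟨Sum.inl (a, b), rfl⟩
      · exact ⟨Sum.inr (a, b), rfl⟩
  rw [← Nat.card_congr (Equiv.ofBijective F hF)]
  rcases finite_or_infinite W with hW | hW
  · rw [Nat.card_sum, Nat.card_prod]; ring
  · rw [Nat.card_eq_zero_of_infinite, Nat.card_eq_zero_of_infinite]; norm_num

end Wr

end Cfsg.Agent.TypeLFive.Wreath
end

-- part: TypeLFive/KSide
section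
/-!
# The Sylow 2-subgroups of `PSL(5,F)`, `F` finite of odd order

They are wreath products `W ≀ Z₂` of a Sylow 2-subgroup `W` of `GL(2,F)` (semidihedral or wreathed).
-/

set_option autoImplicit false

namespace Cfsg.Agent.TypeLFive.KSide

open Matrix Cfsg.Agent.TypeLFive.Wreath

universe u

variable {F : Type u} [Field F]

abbrev I : Type := (Fin 2 ⊕ Fin 2) ⊕ Fin 1

/-- the index equivalence -/
def ix : I ≃ Fin 5 := (Equiv.sumCongr finSumFinEquiv (Equiv.refl (Fin 1))).trans finSumFinEquiv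

/-- block diagonal matrices -/
def bl (A B : Matrix (Fin 2) (Fin 2) F) (c : F) : Matrix I I F :=
  fromBlocks (fromBlocks A 0 0 B) 0 0 (Matrix.of fun _ _ => c)

/-- the swap -/
def sw (c : F) : Matrix I I F :=
  fromBlocks (fromBlocks 0 1 1 0) 0 0 (Matrix.of fun _ _ => c)

theorem one_mul_one (c d : F) : (Matrix.of fun (_ _ : Fin 1) => c) * (Matrix.of fun (_ _ : Fin 1) => d) =
    Matrix.of fun _ _ => c * d := by
  ext i j
  simp [Matrix.mul_apply]

theorem bl_mul (A B A' B' : Matrix (Fin 2) (Fin 2) F) (c c' : F) :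
    bl A B c * bl A' B' c' = bl (A * A') (B * B') (c * c') := by
  simp [bl, fromBlocks_multiply, one_mul_one]

theorem sw_mul (c c' : F) : sw c * sw c' = bl 1 1 (c * c') := by
  simp [bl, sw, fromBlocks_multiply, one_mul_one]

theorem sw_bl (A B : Matrix (Fin 2) (Fin 2) F) (c d : F) : sw d * bl A B c = bl B A c * sw d := by
  simp [bl, sw, fromBlocks_multiply, one_mul_one, mul_comm]

theorem bl_one : bl (1 : Matrix (Fin 2) (Fin 2) F) 1 1 = 1 := by
  have : (Matrix.of fun (_ _ : Fin 1) => (1 : F)) = 1 := by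
    ext i j
    rw [Subsingleton.elim i j]
    simp
  rw [bl, this, fromBlocks_one, fromBlocks_one]

theorem det_bl (A B : Matrix (Fin 2) (Fin 2) F) (c : F) : (bl A B c).det = A.det * B.det * c := by
  rw [bl, det_fromBlocks_zero₂₁, det_fromBlocks_zero₂₁]
  congr 1
  simp

/-- the determinant of the block swap -/
def dsw (F : Type u) [Field F] : F :=
  (fromBlocks (0 : Matrix (Fin 2) (Fin 2) F) 1 1 (0 : Matrix (Fin 2) (Fin 2) F)).det

theorem dsw_sq : dsw F * dsw F = 1 := by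
  rw [dsw, ← det_mul, fromBlocks_multiply]
  simp

theorem det_sw (F : Type u) [Field F] : (sw (dsw F)).det = 1 := by
  rw [sw, det_fromBlocks_zero₂₁]
  have : (Matrix.of fun (_ _ : Fin 1) => dsw F).det = dsw F := by simp
  rw [this]
  exact dsw_sq

theorem bl_inj {A B A' B' : Matrix (Fin 2) (Fin 2) F} {c c' : F} (h : bl A B c = bl A' B' c') :
    A = A' ∧ B = B' := by
  have h1 := (fromBlocks_inj.1 h).1
  exact ⟨(fromBlocks_inj.1 h1).1, (fromBlocks_inj.1 h1).2.2.2⟩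

theorem sw_ne (A B : Matrix (Fin 2) (Fin 2) F) (c d : F) (x : F) : sw d ≠ x • bl A B c := by
  intro h
  have h1 := congrFun (congrFun h (Sum.inl (Sum.inl 0))) (Sum.inl (Sum.inr 0))
  simp [sw, bl] at h1

/-- the element of `SL(5,F)` -/
def fs (a b : GL (Fin 2) F) : _root_.Matrix.SpecialLinearGroup (Fin 5) F :=
  ⟨Matrix.reindex ix ix (bl a.1 b.1 (a.1.det * b.1.det)⁻¹), by
    rw [Matrix.det_reindex_self, det_bl]
    have ha : a.1.det ≠ 0 := by
      have := (Matrix.isUnit_iff_isUnit_det _).1 a.isUnit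
      exact this.ne_zero
    have hb : b.1.det ≠ 0 := by
      have := (Matrix.isUnit_iff_isUnit_det _).1 b.isUnit
      exact this.ne_zero
    exact mul_inv_cancel₀ (mul_ne_zero ha hb)⟩

def ws : _root_.Matrix.SpecialLinearGroup (Fin 5) F :=
  ⟨Matrix.reindex ix ix (sw (dsw F)), by rw [Matrix.det_reindex_self, det_sw]⟩

theorem fs_mul (a b a' b' : GL (Fin 2) F) : fs a b * fs a' b' = fs (a * a') (b * b') := by
  apply Subtype.ext
  show Matrix.reindex ix ix _ * Matrix.reindex ix ix _ = Matrix.reindex ix ix _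
  simp only [Matrix.reindex_apply, Matrix.submatrix_mul_equiv, bl_mul]
  congr 2
  rw [Units.val_mul, Units.val_mul, det_mul, det_mul, ← mul_inv]
  congr 1
  ring

theorem ws_sq : (ws : _root_.Matrix.SpecialLinearGroup (Fin 5) F) * ws = 1 := by
  apply Subtype.ext
  show Matrix.reindex ix ix _ * Matrix.reindex ix ix _ = 1
  simp only [Matrix.reindex_apply, Matrix.submatrix_mul_equiv, sw_mul, dsw_sq, bl_one,
    Matrix.submatrix_one_equiv]

theorem ws_fs (a b : GL (Fin 2) F) : ws * fs a b = fs b a * ws := by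
  apply Subtype.ext
  show Matrix.reindex ix ix _ * Matrix.reindex ix ix _ =
    Matrix.reindex ix ix _ * Matrix.reindex ix ix _
  simp only [Matrix.reindex_apply, Matrix.submatrix_mul_equiv, sw_bl, mul_comm (det b.1)]

theorem fs_one : fs (1 : GL (Fin 2) F) 1 = 1 := by
  have h := fs_mul (1 : GL (Fin 2) F) 1 1 1
  rw [one_mul] at h
  exact mul_eq_left.1 h

/-- elements of the centre are scalar -/
theorem scalar_of_center {A : _root_.Matrix.SpecialLinearGroup (Fin 5) F}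
    (hA : A ∈ Subgroup.center (_root_.Matrix.SpecialLinearGroup (Fin 5) F)) :
    ∃ c : F, c ^ 5 = 1 ∧ (A : Matrix (Fin 5) (Fin 5) F) = c • 1 := by
  rw [Matrix.SpecialLinearGroup.mem_center_iff] at hA
  obtain ⟨c, hc, h⟩ := hA
  refine ⟨c, by simpa using hc, ?_⟩
  rw [← h]
  ext i j
  simp [Matrix.scalar_apply, Matrix.diagonal_apply, Matrix.one_apply, Matrix.smul_apply]

/-- a central element of order dividing a power of two is trivial -/
theorem center_two {A : _root_.Matrix.SpecialLinearGroup (Fin 5) F}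
    (hA : A ∈ Subgroup.center (_root_.Matrix.SpecialLinearGroup (Fin 5) F)) {k : ℕ} (hk : A ^ 2 ^ k = 1) :
    A = 1 := by
  obtain ⟨c, hc, h⟩ := scalar_of_center hA
  have h1 : c ^ 2 ^ k = 1 := by
    have h2 : ((A : Matrix (Fin 5) (Fin 5) F)) ^ 2 ^ k = 1 := by
      rw [← Matrix.SpecialLinearGroup.coe_pow, hk, Matrix.SpecialLinearGroup.coe_one]
    rw [h, smul_pow, one_pow] at h2
    have h3 := congrFun (congrFun h2 0) 0
    simpa using h3
  have h4 : orderOf c ∣ 1 := by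
    have hcop : Nat.Coprime 5 (2 ^ k) := Nat.Coprime.pow_right k (by decide)
    rw [← hcop]
    exact Nat.dvd_gcd (orderOf_dvd_of_pow_eq_one hc) (orderOf_dvd_of_pow_eq_one h1)
  have h5 : c = 1 := orderOf_eq_one_iff.1 (Nat.dvd_one.1 h4)
  apply Subtype.ext
  rw [h, h5, one_smul]
  rfl

section Card

theorem card_GL_eq [Finite F] {n : ℕ} (hn : n ≠ 0) :
    Nat.card (GL (Fin n) F) = Nat.card Fˣ * Nat.card (_root_.Matrix.SpecialLinearGroup (Fin n) F) := by
  have : Nonempty (Fin n) := ⟨⟨0, Nat.pos_of_ne_zero hn⟩⟩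
  have h1 := Subgroup.card_eq_card_quotient_mul_card_subgroup
    (MonoidHom.ker (GeneralLinearGroup.det : GL (Fin n) F →* Fˣ))
  have h2 : Nat.card (GL (Fin n) F ⧸ MonoidHom.ker (GeneralLinearGroup.det : GL (Fin n) F →* Fˣ))
      = Nat.card Fˣ :=
    Nat.card_congr (QuotientGroup.quotientKerEquivOfSurjective _
      GeneralLinearGroup.det_surjective).toEquiv
  have h3 : Nat.card (MonoidHom.ker (GeneralLinearGroup.det : GL (Fin n) F →* Fˣ)) =
      Nat.card (_root_.Matrix.SpecialLinearGroup (Fin n) F) := by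
    refine Nat.card_congr ⟨fun g => ⟨g.1.1, ?_⟩, fun g => ⟨SpecialLinearGroup.toGL g, ?_⟩, ?_, ?_⟩
    · have := g.2
      rw [MonoidHom.mem_ker] at this
      simpa using congrArg Units.val this
    · rw [MonoidHom.mem_ker]
      ext
      simp
    · intro g
      exact Subtype.ext (Units.ext rfl)
    · intro g
      exact Subtype.ext rfl
  rw [h1, h2, h3]

/-- `|SL(5,q)| = 2 |GL(2,q)|² · odd` -/
theorem card_SL_five [Fintype F] (hF : Odd (Fintype.card F)) : ∃ m : ℕ, Odd m ∧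
    Nat.card (_root_.Matrix.SpecialLinearGroup (Fin 5) F) = 2 * Nat.card (GL (Fin 2) F) ^ 2 * m := by
  set q := Fintype.card F with hq
  have hq2 : 2 ≤ q := by
    have := Fintype.one_lt_card (α := F)
    omega
  have h5 := card_GL_eq (F := F) (n := 5) (by norm_num)
  rw [Matrix.card_GL_field, Nat.card_units] at h5
  have h2 : Nat.card (GL (Fin 2) F) = (q ^ 2 - 1) * (q ^ 2 - q) := by
    rw [Matrix.card_GL_field, ← hq]
    simp only [Fin.prod_univ_two, _root_.Fin.isValue, _root_.Fin.coe_ofNat_eq_mod, _root_.Nat.zero_mod, _root_.pow_zero, _root_.Nat.mod_succ, _root_.pow_one]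
  have hqq : Nat.card F = q := Nat.card_eq_fintype_card
  rw [hqq, ← hq] at h5
  have h6 : ∏ i : Fin 5, (q ^ 5 - q ^ (i : ℕ)) = (q ^ 5 - 1) * ((q ^ 5 - q ^ 1) *
      ((q ^ 5 - q ^ 2) * ((q ^ 5 - q ^ 3) * (q ^ 5 - q ^ 4)))) := by
    simp only [Fin.prod_univ_succ, Fin.succ, _root_.Fin.isValue, _root_.Fin.coe_ofNat_eq_mod, _root_.Nat.zero_mod, _root_.pow_zero, _root_.Nat.reduceAdd, _root_.zero_add, _root_.pow_one, _root_.Finset.univ_unique, _root_.Fin.default_eq_zero, _root_.Fin.val_eq_zero, _root_.Fin.mk_one, _root_.Nat.mod_succ, _root_.Finset.prod_const, _root_.Finset.card_singleton]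
  rw [h6] at h5
  obtain ⟨a, ha⟩ := hF
  have ha1 : 1 ≤ a := by omega
  obtain ⟨b, rfl⟩ : ∃ b, a = b + 1 := ⟨a - 1, by omega⟩
  -- q = 2 b + 3
  have hq3 : q = 2 * b + 3 := by omega
  refine ⟨q ^ 8 * (q ^ 2 + q + 1) * (q ^ 4 + q ^ 3 + q ^ 2 + q + 1) * ((q ^ 2 + 1) / 2), ?_, ?_⟩
  · have hodd : Odd q := ⟨b + 1, by omega⟩
    have e1 : Even (q ^ 2 + q) := by
      rw [pow_two]
      exact (hodd.mul hodd).add_odd hodd
    have e2 : Even (q ^ 4 + q ^ 3 + q ^ 2 + q) := by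
      have : q ^ 4 + q ^ 3 + q ^ 2 + q = (q ^ 2 + q) * (q ^ 2 + 1) := by ring
      rw [this]
      exact e1.mul_right _
    have e3 : (q ^ 2 + 1) / 2 = 2 * (b ^ 2 + 3 * b + 2) + 1 := by
      have : q ^ 2 + 1 = 2 * (2 * (b ^ 2 + 3 * b + 2) + 1) := by rw [hq3]; ring
      rw [this]
      exact Nat.mul_div_cancel_left _ (by norm_num)
    refine ((hodd.pow.mul (e1.add_odd odd_one)).mul (e2.add_odd odd_one)).mul ?_
    rw [e3]
    exact ⟨_, rfl⟩
  · have e3 : (q ^ 2 + 1) / 2 = 2 * (b ^ 2 + 3 * b + 2) + 1 := by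
      have : q ^ 2 + 1 = 2 * (2 * (b ^ 2 + 3 * b + 2) + 1) := by rw [hq3]; ring
      rw [this]
      exact Nat.mul_div_cancel_left _ (by norm_num)
    have hpos : 0 < q - 1 := by omega
    apply Nat.eq_of_mul_eq_mul_left hpos
    rw [← h5, h2, e3]
    have hle : ∀ i j : ℕ, i ≤ j → q ^ i ≤ q ^ j := fun i j hij =>
      Nat.pow_le_pow_right (by omega) hij
    have c0 : ((q ^ 5 - 1 : ℕ) : ℤ) = (q : ℤ) ^ 5 - 1 := by
      rw [Nat.cast_sub (by have := hle 0 5 (by norm_num); simpa using this)]; push_cast; ring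
    have c1 : ((q ^ 5 - q ^ 1 : ℕ) : ℤ) = (q : ℤ) ^ 5 - q := by
      rw [Nat.cast_sub (hle 1 5 (by norm_num))]; push_cast; ring
    have c2 : ((q ^ 5 - q ^ 2 : ℕ) : ℤ) = (q : ℤ) ^ 5 - q ^ 2 := by
      rw [Nat.cast_sub (hle 2 5 (by norm_num))]; push_cast; ring
    have c3 : ((q ^ 5 - q ^ 3 : ℕ) : ℤ) = (q : ℤ) ^ 5 - q ^ 3 := by
      rw [Nat.cast_sub (hle 3 5 (by norm_num))]; push_cast; ring
    have c4 : ((q ^ 5 - q ^ 4 : ℕ) : ℤ) = (q : ℤ) ^ 5 - q ^ 4 := by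
      rw [Nat.cast_sub (hle 4 5 (by norm_num))]; push_cast; ring
    have d0 : ((q ^ 2 - 1 : ℕ) : ℤ) = (q : ℤ) ^ 2 - 1 := by
      rw [Nat.cast_sub (by have := hle 0 2 (by norm_num); simpa using this)]; push_cast; ring
    have d1 : ((q ^ 2 - q : ℕ) : ℤ) = (q : ℤ) ^ 2 - q := by
      rw [Nat.cast_sub (by have := hle 1 2 (by norm_num); simpa using this)]; push_cast; ring
    have d2 : ((q - 1 : ℕ) : ℤ) = (q : ℤ) - 1 := by
      rw [Nat.cast_sub (by omega)]; push_cast; ring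
    have hb : (2 * (2 * ((b : ℤ) ^ 2 + 3 * b + 2) + 1)) = (q : ℤ) ^ 2 + 1 := by
      rw [hq3]; push_cast; ring
    have key : ((q ^ 5 - 1 : ℕ) : ℤ) * ((q ^ 5 - q ^ 1 : ℕ) * ((q ^ 5 - q ^ 2 : ℕ) *
        ((q ^ 5 - q ^ 3 : ℕ) * (q ^ 5 - q ^ 4 : ℕ)))) =
        ((q - 1 : ℕ) : ℤ) * (2 * (((q ^ 2 - 1 : ℕ) : ℤ) * (q ^ 2 - q : ℕ)) ^ 2 *
          ((q : ℤ) ^ 8 * (q ^ 2 + q + 1) * (q ^ 4 + q ^ 3 + q ^ 2 + q + 1) *
            (2 * ((b : ℤ) ^ 2 + 3 * b + 2) + 1))) := by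
      rw [c0, c1, c2, c3, c4, d0, d1, d2]
      have e : ((q : ℤ) - 1) * (2 * (((q : ℤ) ^ 2 - 1) * (q ^ 2 - q)) ^ 2 *
          ((q : ℤ) ^ 8 * (q ^ 2 + q + 1) * (q ^ 4 + q ^ 3 + q ^ 2 + q + 1) *
            (2 * ((b : ℤ) ^ 2 + 3 * b + 2) + 1))) = ((q : ℤ) - 1) * ((((q : ℤ) ^ 2 - 1) *
          (q ^ 2 - q)) ^ 2 * ((q : ℤ) ^ 8 * (q ^ 2 + q + 1) * (q ^ 4 + q ^ 3 + q ^ 2 + q + 1) *
            (2 * (2 * ((b : ℤ) ^ 2 + 3 * b + 2) + 1)))) := by ring
      rw [e, hb]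
      ring
    exact_mod_cast key

end Card

/-- the projection -/
abbrev pr (F : Type u) [Field F] : _root_.Matrix.SpecialLinearGroup (Fin 5) F →*
    Matrix.ProjectiveSpecialLinearGroup (Fin 5) F :=
  QuotientGroup.mk' (Subgroup.center (_root_.Matrix.SpecialLinearGroup (Fin 5) F))

variable (Q : Subgroup (GL (Fin 2) F))

/-- the embedding of `W × W` -/
def f0 (a b : Q) : Matrix.ProjectiveSpecialLinearGroup (Fin 5) F := pr F (fs a.1 b.1)

/-- the swap in `PSL(5,F)` -/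
def w0 (F : Type u) [Field F] : Matrix.ProjectiveSpecialLinearGroup (Fin 5) F := pr F ws

theorem f0_mul (a b a' b' : Q) : f0 Q a b * f0 Q a' b' = f0 Q (a * a') (b * b') := by
  rw [f0, f0, f0, ← map_mul, fs_mul]
  rfl

theorem w0_sq : w0 F * w0 F = 1 := by
  rw [w0, ← map_mul, ws_sq, map_one]

theorem w0_f0 (a b : Q) : w0 F * f0 Q a b = f0 Q b a * w0 F := by
  rw [w0, f0, f0, ← map_mul, ws_fs, map_mul]

theorem w0_ne (a b : Q) : w0 F ≠ f0 Q a b := by
  intro h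
  have h1 : (ws : _root_.Matrix.SpecialLinearGroup (Fin 5) F)⁻¹ * fs a.1 b.1 ∈
      Subgroup.center (_root_.Matrix.SpecialLinearGroup (Fin 5) F) := QuotientGroup.eq.1 h
  obtain ⟨c, hc, hcc⟩ := scalar_of_center h1
  have h2 : (fs a.1 b.1).1 = c • (ws : _root_.Matrix.SpecialLinearGroup (Fin 5) F).1 := by
    have h3 : fs a.1 b.1 = ws * (ws⁻¹ * fs a.1 b.1) := by rw [mul_inv_cancel_left]
    have h4 := congrArg Subtype.val h3
    rw [h4]
    show (ws : _root_.Matrix.SpecialLinearGroup (Fin 5) F).1 *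
      ((ws⁻¹ * fs a.1 b.1 : _root_.Matrix.SpecialLinearGroup (Fin 5) F) : Matrix (Fin 5) (Fin 5) F) = _
    rw [hcc, Matrix.mul_smul, Matrix.mul_one]
  have hc0 : c ≠ 0 := by
    rintro rfl
    norm_num at hc
  have h5 : sw (dsw F) = c⁻¹ • bl a.1.1 b.1.1 (a.1.1.det * b.1.1.det)⁻¹ := by
    have h6 : Matrix.reindex ix ix (bl a.1.1 b.1.1 (a.1.1.det * b.1.1.det)⁻¹) =
        c • Matrix.reindex ix ix (sw (dsw F)) := h2
    have h7 : bl a.1.1 b.1.1 (a.1.1.det * b.1.1.det)⁻¹ = c • sw (dsw F) := by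
      apply (Matrix.reindex ix ix).injective
      rw [h6]
      rfl
    rw [h7, smul_smul, inv_mul_cancel₀ hc0, one_smul]
  exact sw_ne _ _ _ _ _ h5

theorem f0_inj (hQ : IsPGroup 2 Q) (a b : Q) (h : f0 Q a b = 1) : a = 1 ∧ b = 1 := by
  have h1 : fs a.1 b.1 ∈ Subgroup.center (_root_.Matrix.SpecialLinearGroup (Fin 5) F) :=
    (QuotientGroup.eq_one_iff _).1 h
  obtain ⟨k, hk⟩ := hQ a
  obtain ⟨l, hl⟩ := hQ b
  have hpow : ∀ n : ℕ, (fs a.1 b.1) ^ n = fs (a.1 ^ n) (b.1 ^ n) := by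
    intro n
    induction n with
    | zero => rw [pow_zero, pow_zero, pow_zero, fs_one]
    | succ n ih => rw [pow_succ, ih, fs_mul, ← pow_succ, ← pow_succ]
  have h2 : (fs a.1 b.1) ^ 2 ^ (k + l) = 1 := by
    have ha : (a.1 : GL (Fin 2) F) ^ 2 ^ (k + l) = 1 := by
      have := congrArg Subtype.val hk
      rw [pow_add, pow_mul]
      have h3 : (a.1 : GL (Fin 2) F) ^ 2 ^ k = 1 := this
      rw [h3, one_pow]
    have hb : (b.1 : GL (Fin 2) F) ^ 2 ^ (k + l) = 1 := by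
      have := congrArg Subtype.val hl
      rw [pow_add, mul_comm, pow_mul]
      have h3 : (b.1 : GL (Fin 2) F) ^ 2 ^ l = 1 := this
      rw [h3, one_pow]
    rw [hpow, ha, hb, fs_one]
  have h3 := center_two h1 h2
  rw [← fs_one] at h3
  have h4 : Matrix.reindex ix ix (bl a.1.1 b.1.1 (a.1.1.det * b.1.1.det)⁻¹) =
      Matrix.reindex ix ix (bl 1 1 _) := congrArg Subtype.val h3
  obtain ⟨h5, h6⟩ := bl_inj ((Matrix.reindex ix ix).injective h4)
  exact ⟨Subtype.ext (Units.ext h5), Subtype.ext (Units.ext h6)⟩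

/-- the subgroup `W ≀ Z₂` of `PSL(5,F)` -/
def S0 : Subgroup (Matrix.ProjectiveSpecialLinearGroup (Fin 5) F) where
  carrier := {g | (∃ a b, g = f0 Q a b) ∨ ∃ a b, g = f0 Q a b * w0 F}
  one_mem' := by
    refine Or.inl ⟨1, 1, ?_⟩
    rw [f0]
    have : fs (((1 : Q) : GL (Fin 2) F)) ((1 : Q) : GL (Fin 2) F) = 1 := fs_one
    rw [this, map_one]
  mul_mem' := by
    rintro _ _ (⟨a, b, rfl⟩ | ⟨a, b, rfl⟩) (⟨a', b', rfl⟩ | ⟨a', b', rfl⟩)
    · exact Or.inl ⟨_, _, f0_mul Q _ _ _ _⟩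
    · exact Or.inr ⟨a * a', b * b', by rw [← mul_assoc, f0_mul]⟩
    · exact Or.inr ⟨a * b', b * a', by rw [mul_assoc, w0_f0, ← mul_assoc, f0_mul]⟩
    · refine Or.inl ⟨a * b', b * a', ?_⟩
      have h1 : f0 Q a b * w0 F * (f0 Q a' b' * w0 F) =
          f0 Q a b * ((w0 F * f0 Q a' b') * w0 F) := by group
      rw [h1, w0_f0, ← f0_mul, mul_assoc (f0 Q b' a'), w0_sq, mul_one]
  inv_mem' := by
    have hinv : ∀ a b : Q, (f0 Q a b)⁻¹ = f0 Q a⁻¹ b⁻¹ := by
      intro a b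
      rw [inv_eq_iff_mul_eq_one, f0_mul, mul_inv_cancel, mul_inv_cancel, f0]
      have : fs (((1 : Q) : GL (Fin 2) F)) ((1 : Q) : GL (Fin 2) F) = 1 := fs_one
      rw [this, map_one]
    rintro _ (⟨a, b, rfl⟩ | ⟨a, b, rfl⟩)
    · exact Or.inl ⟨_, _, hinv a b⟩
    · refine Or.inr ⟨b⁻¹, a⁻¹, ?_⟩
      rw [_root_.mul_inv_rev, hinv, inv_eq_of_mul_eq_one_left (by exact w0_sq), w0_f0]

theorem wr0 (hQ : IsPGroup 2 Q) : Wr (S0 Q) (f0 Q) (w0 F) where
  f_mul := f0_mul Q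
  f_inj := f0_inj Q hQ
  w_w := w0_sq
  w_f := w0_f0 Q
  w_ne := w0_ne Q
  mem_iff _ := Iff.rfl

theorem odd_index [Fintype F] (hF : Odd (Fintype.card F)) (P : Sylow 2 (GL (Fin 2) F)) :
    ¬ 2 ∣ (S0 (P : Subgroup (GL (Fin 2) F))).index := by
  have hwr := wr0 (P : Subgroup (GL (Fin 2) F)) P.isPGroup'
  obtain ⟨m, hm, hc⟩ := card_SL_five hF
  have h1 := hwr.card_eq
  have h2 := Subgroup.card_mul_index (S0 (P : Subgroup (GL (Fin 2) F)))
  have h3 : Nat.card (_root_.Matrix.SpecialLinearGroup (Fin 5) F) =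
      Nat.card (Matrix.ProjectiveSpecialLinearGroup (Fin 5) F) *
        Nat.card (Subgroup.center (_root_.Matrix.SpecialLinearGroup (Fin 5) F)) :=
    Subgroup.card_eq_card_quotient_mul_card_subgroup _
  have h4 := Subgroup.card_mul_index (P : Subgroup (GL (Fin 2) F))
  have h5 : ¬ 2 ∣ (P : Subgroup (GL (Fin 2) F)).index := P.not_dvd_index
  have hpos : 0 < Nat.card (P : Subgroup (GL (Fin 2) F)) := Nat.card_pos
  rw [← h2, h1, hc, ← h4] at h3
  have h6 : (P : Subgroup (GL (Fin 2) F)).index ^ 2 * m =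
      (S0 (P : Subgroup (GL (Fin 2) F))).index *
        Nat.card (Subgroup.center (_root_.Matrix.SpecialLinearGroup (Fin 5) F)) := by
    have h7 : 0 < 2 * Nat.card (P : Subgroup (GL (Fin 2) F)) ^ 2 := by positivity
    apply Nat.eq_of_mul_eq_mul_left h7
    calc _ = 2 * (Nat.card (P : Subgroup (GL (Fin 2) F)) *
          (P : Subgroup (GL (Fin 2) F)).index) ^ 2 * m := by ring
      _ = _ := h3
      _ = _ := by ring
  intro hd
  have h8 : 2 ∣ (P : Subgroup (GL (Fin 2) F)).index ^ 2 * m := by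
    rw [h6]; exact hd.mul_right _
  rcases (Nat.prime_two.dvd_mul).1 h8 with h9 | h9
  · exact h5 (Nat.prime_two.dvd_of_dvd_pow h9)
  · exact (Nat.not_even_iff_odd.2 hm) (even_iff_two_dvd.2 h9)

/-- **The Sylow 2-subgroups of `PSL(5,F)`.** -/
theorem exists_wr [Fintype F] (hF : Odd (Fintype.card F))
    (P : Sylow 2 (Matrix.ProjectiveSpecialLinearGroup (Fin 5) F)) {G : Type*} [Group G]
    {S : Subgroup G} (e : S ≃* (P : Subgroup (Matrix.ProjectiveSpecialLinearGroup (Fin 5) F))) :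
    ∃ (W : Type u) (_ : Group W) (_ : Finite W), IsPGroup 2 W ∧
      (Cfsg.IsQuasiDihedral W ∨ Cfsg.IsWreathed W) ∧ ∃ (f : W → W → G) (w : G), Wr S f w := by
  obtain ⟨Q⟩ : Nonempty (Sylow 2 (GL (Fin 2) F)) := inferInstance
  have hwr := wr0 (Q : Subgroup (GL (Fin 2) F)) Q.isPGroup'
  have hp : IsPGroup 2 (S0 (Q : Subgroup (GL (Fin 2) F))) := by
    obtain ⟨k, hk⟩ := (IsPGroup.iff_card).1 Q.isPGroup'
    apply IsPGroup.of_card (n := 2 * k + 1)
    rw [hwr.card_eq, hk]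
    ring
  have hidx := odd_index hF Q
  obtain ⟨g, hg⟩ := MulAction.exists_smul_eq
    (Matrix.ProjectiveSpecialLinearGroup (Fin 5) F) P (hp.toSylow hidx)
  have e1 : (P : Subgroup (Matrix.ProjectiveSpecialLinearGroup (Fin 5) F)) ≃*
      S0 (Q : Subgroup (GL (Fin 2) F)) := by
    have e2 := Sylow.equivSMul P g
    rw [hg] at e2
    exact e2
  refine ⟨↥(Q : Subgroup (GL (Fin 2) F)), inferInstance, inferInstance, Q.isPGroup', ?_, ?_⟩
  · have h1 := Cfsg.Agent.S1217.result Q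
    obtain ⟨k, hk⟩ := hF
    rcases Nat.even_or_odd k with ⟨l, hl⟩ | ⟨l, hl⟩
    · right; exact h1.2 (by omega)
    · left; exact h1.1 (by omega)
  · exact ⟨_, _, hwr.of_equiv (e.trans e1).symm⟩

end Cfsg.Agent.TypeLFive.KSide
end

-- part: TypeLFive/KModel
section
/-!
# Sylow 2-subgroups of type `PSL(5,q)` carry the model `Model.Wr` with coordinates
-/

set_option autoImplicit false

namespace Cfsg.Agent.TypeLFive.KModel

open Cfsg.Agent.TwoFusion.QDBasic Cfsg.Agent.TwoFusion.WreathedBasic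

universe u

/-- from the curried structure to `Model.Wr` -/
theorem toModel {G W : Type*} [Group G] [Group W] {S : Subgroup G} {f : W → W → G} {w : G}
    (h : Wreath.Wr S f w) : ∃ f' : W × W →* G, (∀ x y, f' (x, y) = f x y) ∧ Model.Wr S f' w := by
  let f' : W × W →* G :=
    { toFun := fun p => f p.1 p.2
      map_one' := h.f_one
      map_mul' := fun p q => (h.f_mul p.1 p.2 q.1 q.2).symm }
  refine ⟨f', fun _ _ => rfl, ?_⟩
  refine ⟨?_, fun p => h.f_mem _ _, h.w_mem, h.w_w, h.w_f, fun p => (h.w_ne _ _).symm, ?_⟩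
  · rw [injective_iff_map_eq_one]
    rintro ⟨x, y⟩ hxy
    obtain ⟨h1, h2⟩ := h.f_inj x y hxy
    rw [h1, h2]; rfl
  · intro s hs
    exact (h.mem_iff s).1 hs

/-- **The model in the Sylow 2-subgroup.** -/
theorem exists_model {F : Type u} [Field F] [Fintype F] (hF : Odd (Fintype.card F))
    (P : Sylow 2 (Matrix.ProjectiveSpecialLinearGroup (Fin 5) F)) {G : Type*} [Group G]
    {S : Subgroup G} (e : S ≃* (P : Subgroup (Matrix.ProjectiveSpecialLinearGroup (Fin 5) F))) :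
    ∃ (W : Type u) (_ : Group W) (_ : Finite W) (f : W × W →* G) (w : G),
      IsPGroup 2 W ∧ Model.Wr S f w ∧
      ((∃ (n : ℕ) (u : ZMod (2 ^ n) → W) (y : W), IsQDCoord n u y) ∨
        (∃ (n : ℕ) (u : ZMod (2 ^ n) → ZMod (2 ^ n) → W) (s : W), IsWCoord n u s)) := by
  obtain ⟨W, _, _, hp, hW, f, w, h⟩ := KSide.exists_wr hF P e
  obtain ⟨f', -, h'⟩ := toModel h
  refine ⟨W, inferInstance, inferInstance, f', w, hp, h', ?_⟩
  rcases hW with hW | hW
  · exact Or.inl (exists_qdcoord hW)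
  · exact Or.inr (exists_wcoord hW)

end Cfsg.Agent.TypeLFive.KModel
end

private theorem dce_9efebae83495 : _root_.True := by
  try have : _root_.True := by simp only [_root_.Cfsg.Agent.TypeLFive.KSide.f0.eq_1]
  try have : _root_.True := by simp only [_root_.Cfsg.Agent.TypeLFive.KSide.bl.eq_1]
  try have : _root_.True := by simp only [_root_.Cfsg.Agent.TypeLFive.KSide.w0.eq_1]
  try have : _root_.True := by simp only [_root_.Cfsg.Agent.TypeLFive.KSide.dsw.eq_1]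
  try have : _root_.True := by simp only [_root_.Cfsg.Agent.TypeLFive.KSide.sw.eq_1]
  exact _root_.True.intro
end

-- part: TypeLFive/CentWRFacts
section
prune_inst 0x420304420710020000018001020001c66d20000020048000018000d0204cf9e4020020821caa00d10101000442034004813100000420000000a000000011c01a08000100080480104040001801003180c00000000000000000000000000041000000000000
set_option linter.all false
open scoped Cfsg.Agent.FastGrp

-- part: TypeLFive/Out
section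
/-!
# The output of the fusion analysis (F) of S0511

Notation: `ζ` the involution of `Z(W)`, `e` a noncentral involution of `W`,
`t = f (ζ, 1)`, `t' = f (1, ζ)`, `z = f (ζ, ζ)`. The elementary abelian group `E` of order 16 is
`f '' (⟨e, ζ⟩ × ⟨e, ζ⟩)`; its five vectors of "even weight 4" are `f (zv ζ e i)`, `i : Fin 5`
(product 1), the ten involutions of "weight 2" are `f (zv ζ e i * zv ζ e j)`, `i ≠ j`.
-/

set_option autoImplicit false

namespace Cfsg.Agent.TypeLFive.Out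

open Cfsg.Agent.TypeLFive.Model
open Cfsg.Agent.TwoFusion.QDBasic Cfsg.Agent.TwoFusion.WreathedBasic

variable {G W : Type*} [Group G] [Group W]

/-- the five vectors `z_1, …, z_5` (`z_5 = z`): `t_12 = t`, `t_34 = t'`, `t_15 = (e, 1)`,
`t_25 = (eζ, 1)`, `t_35 = (1, e)`, `t_45 = (1, eζ)`. -/
def zv (ζ e : W) : Fin 5 → W × W :=
  ![(e * ζ, ζ), (e, ζ), (ζ, e * ζ), (ζ, e), (ζ, ζ)]

/-- The common output of (F) (after twisting `f`, such that `(e, 1)` is conjugate to `(ζ, 1)`). -/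
structure FusOut (S : Subgroup G) (f : W × W →* G) (w : G) (ζ e : W) : Prop where
  wr : Wr S f w
  /-- `t` is not conjugate to `z`. -/
  not_conj : ¬ IsConj (f (ζ, 1)) (f (ζ, ζ))
  /-- every permutation of the five vectors is induced by `N_G(E)`. -/
  perm : ∀ σ : Equiv.Perm (Fin 5), ∃ g : G, ∀ i, g * f (zv ζ e i) * g⁻¹ = f (zv ζ e (σ i))
  /-- `w` is conjugate to `t`. -/
  conj_w : IsConj (f (ζ, 1)) w
  /-- involutions `(x, y)` of `T` conjugate to `z`: both components `≠ 1`, one of them `= ζ`. -/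
  conj_z : ∀ x y : W, x * x = 1 → y * y = 1 → x ≠ 1 → y ≠ 1 → (x = ζ ∨ y = ζ) →
    IsConj (f (ζ, ζ)) (f (x, y))
  /-- all the other involutions of `T` are conjugate to `t`. -/
  conj_t : ∀ x y : W, x * x = 1 → y * y = 1 → ¬ (x = 1 ∧ y = 1) →
    ¬ (x ≠ 1 ∧ y ≠ 1 ∧ (x = ζ ∨ y = ζ)) → IsConj (f (ζ, 1)) (f (x, y))
  /-- `T` is a Sylow 2-subgroup of `C_G(t)`. -/
  sylow_t : ∀ R : Subgroup G, IsPGroup 2 R → f.range ≤ R →
    (∀ r ∈ R, r * f (ζ, 1) = f (ζ, 1) * r) → R = f.range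

/-- The 3-element `ρ₁` of the wreathed case (`W = Z_{2^n} ≀ 2`, coordinates `u a b`, `u a b * s`):
it centralises `Z(W₁) × W₂` and permutes `i → j → k = i j` in the quaternion group
`i = (u (-q) q, 1)`, `j = (u q q * s, 1)`, `q = 2 ^ (n - 2)`. -/
structure IsRho {n : ℕ} (f : W × W →* G) (u : ZMod (2 ^ n) → ZMod (2 ^ n) → W) (s : W) (ρ : G) :
    Prop where
  comm : ∀ a y, ρ * f (u a a, y) = f (u a a, y) * ρ
  i_j : ρ * f (u (-(2 ^ (n - 2))) (2 ^ (n - 2)), 1) * ρ⁻¹ =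
    f (u (2 ^ (n - 2)) (2 ^ (n - 2)) * s, 1)
  j_k : ρ * f (u (2 ^ (n - 2)) (2 ^ (n - 2)) * s, 1) * ρ⁻¹ =
    f (u (-(2 ^ (n - 2))) (2 ^ (n - 2)) * (u (2 ^ (n - 2)) (2 ^ (n - 2)) * s), 1)

/-- The output of (F) for `W = Z_{2^n} ≀ 2` (`ζ = u h h`, `e = u h 0`, `h = 2 ^ (n - 1)`;
`A = f '' {(u a b, u c d)} ≅ (Z_{2^n})^4`). -/
structure FusWR {n : ℕ} (S : Subgroup G) (f : W × W →* G) (w : G)
    (u : ZMod (2 ^ n) → ZMod (2 ^ n) → W) (s : W) : Prop where
  coord : IsWCoord n u s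
  out : FusOut S f w (u (2 ^ (n - 1)) (2 ^ (n - 1))) (u (2 ^ (n - 1)) 0)
  /-- `A` is weakly closed in `S`. -/
  weak : ∀ g : G, (∀ a b c d, g * f (u a b, u c d) * g⁻¹ ∈ S) →
    ∀ a b c d, ∃ a' b' c' d', g * f (u a b, u c d) * g⁻¹ = f (u a' b', u c' d')
  /-- every permutation is induced by an element normalising `A`. -/
  permA : ∀ σ : Equiv.Perm (Fin 5), ∃ g : G,
    (∀ a b c d, ∃ a' b' c' d', g * f (u a b, u c d) * g⁻¹ = f (u a' b', u c' d')) ∧
    ∀ i, g * f (zv (u (2 ^ (n - 1)) (2 ^ (n - 1))) (u (2 ^ (n - 1)) 0) i) * g⁻¹ =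
      f (zv (u (2 ^ (n - 1)) (2 ^ (n - 1))) (u (2 ^ (n - 1)) 0) (σ i))
  /-- `N_G(A) / C_G(A)` is faithful on `E = Ω₁(A)`. -/
  faithful : ∀ g : G,
    (∀ a b c d, ∃ a' b' c' d', g * f (u a b, u c d) * g⁻¹ = f (u a' b', u c' d')) →
    (∀ i, g * f (zv (u (2 ^ (n - 1)) (2 ^ (n - 1))) (u (2 ^ (n - 1)) 0) i) * g⁻¹ =
      f (zv (u (2 ^ (n - 1)) (2 ^ (n - 1))) (u (2 ^ (n - 1)) 0) i)) →
    ∀ a b c d, g * f (u a b, u c d) = f (u a b, u c d) * g
  rho : ∃ ρ : G, IsRho f u s ρ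

/-- The output of (F) for `W` semidihedral of order `2 ^ (n + 1)` (`ζ = u h`, `e = y`). -/
structure FusSD {n : ℕ} (S : Subgroup G) (f : W × W →* G) (w : G)
    (u : ZMod (2 ^ n) → W) (y : W) : Prop where
  coord : IsQDCoord n u y
  out : FusOut S f w (u (2 ^ (n - 1))) y

end Cfsg.Agent.TypeLFive.Out
end

-- part: TypeLFive/CentLin
section
/-!
# Linear algebra over `ZMod (2 ^ n)` for the action of the 3-cycle (345) on `A ≅ (Z_{2^n})^4`

Step (W1) of the wreathed half of (C), S0511.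
-/

set_option autoImplicit false

namespace Cfsg.Agent.TypeLFive.CentLin

open Cfsg.Agent.TwoFusion.QDBasic

/-- `(Z_{2^n})^4` -/
abbrev V (n : ℕ) : Type := (ZMod (2 ^ n) × ZMod (2 ^ n)) × (ZMod (2 ^ n) × ZMod (2 ^ n))

/-- swap of the first two coordinates -/
def sw1 {n : ℕ} (v : V n) : V n := ((v.1.2, v.1.1), v.2)

/-- swap of the last two coordinates -/
def sw2 {n : ℕ} (v : V n) : V n := (v.1, (v.2.2, v.2.1))

variable {n : ℕ}

/-- every nonzero element has a multiple equal to `2 ^ (n - 1)`. -/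
theorem exists_mul_eq_half (hn : 1 ≤ n) {a : ZMod (2 ^ n)} (ha : a ≠ 0) : ∃ r, r * a = 2 ^ (n - 1) := by
  classical
  have hex : ∃ k : ℕ, (2 : ZMod (2 ^ n)) ^ k * a = 0 := ⟨n, by rw [two_pow_eq_zero, zero_mul]⟩
  have h1 := Nat.find_spec hex
  have h0 : Nat.find hex ≠ 0 := by
    intro h0
    rw [h0, pow_zero, one_mul] at h1
    exact ha h1
  obtain ⟨l, hl⟩ := Nat.exists_eq_succ_of_ne_zero h0
  have h2 := Nat.find_min hex (m := l) (by omega)
  rw [hl, Nat.succ_eq_add_one, pow_succ', mul_assoc, two_mul_eq_zero_iff n hn] at h1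
  rcases h1 with h1 | h1
  · exact absurd h1 h2
  · exact ⟨_, h1⟩

/-- `m ^ 3 = 1` implies `m = 1`. -/
theorem eq_one_of_cube (hn : 1 ≤ n) {m : ZMod (2 ^ n)} (hm : m * (m * m) = 1) : m = 1 := by
  have h1 : IsUnit (m * m + m + 1) := by
    rcases even_or_odd' n m with ⟨b, hb⟩ | ⟨b, hb⟩
    · have : m * m + m + 1 = 2 * (2 * b * b + b) + 1 := by rw [hb]; ring
      rw [this]; exact isUnit_odd n _
    · have : m * m + m + 1 = 2 * (2 * b * b + 3 * b + 1) + 1 := by rw [hb]; ring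
      rw [this]; exact isUnit_odd n _
  have h2 : (m * m + m + 1) * (m - 1) = 0 := by linear_combination hm
  have h3 := (h1.mul_right_eq_zero).1 h2
  exact sub_eq_zero.1 h3

/-- The hypotheses on the action of the 3-cycle. -/
structure Cyc (α : V n →ₗ[ZMod (2 ^ n)] V n) : Prop where
  hn : 1 ≤ n
  s1 : ∀ v, α (sw1 v) = sw1 (α v)
  s2 : ∀ v, α (sw2 (α v)) = sw2 v
  cube : ∀ v, α (α (α v)) = v
  z0 : α ((0, 2 ^ (n - 1)), (2 ^ (n - 1), 2 ^ (n - 1))) = ((0, 2 ^ (n - 1)), (2 ^ (n - 1), 2 ^ (n - 1)))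
  z1 : α ((2 ^ (n - 1), 0), (2 ^ (n - 1), 2 ^ (n - 1))) = ((2 ^ (n - 1), 0), (2 ^ (n - 1), 2 ^ (n - 1)))
  z2 : α ((2 ^ (n - 1), 2 ^ (n - 1)), (0, 2 ^ (n - 1))) = ((2 ^ (n - 1), 2 ^ (n - 1)), (2 ^ (n - 1), 0))
  z3 : α ((2 ^ (n - 1), 2 ^ (n - 1)), (2 ^ (n - 1), 0)) =
    ((2 ^ (n - 1), 2 ^ (n - 1)), (2 ^ (n - 1), 2 ^ (n - 1)))

variable {α : V n →ₗ[ZMod (2 ^ n)] V n}

namespace Cyc

theorem hh (h : Cyc α) : (2 : ZMod (2 ^ n)) ^ (n - 1) + 2 ^ (n - 1) = 0 := by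
  rw [← two_mul, two_mul_half n h.hn]

theorem t (h : Cyc α) : α ((2 ^ (n - 1), 2 ^ (n - 1)), (0, 0)) = ((2 ^ (n - 1), 2 ^ (n - 1)), (0, 0)) := by
  have e : (((2 ^ (n - 1), 2 ^ (n - 1)), (0, 0)) : V n) = ((0, 2 ^ (n - 1)), (2 ^ (n - 1), 2 ^ (n - 1))) +
      ((2 ^ (n - 1), 0), (2 ^ (n - 1), 2 ^ (n - 1))) := by
    simp only [Prod.mk_add_mk, h.hh, zero_add, add_zero]
  rw [e, map_add, h.z0, h.z1]

theorem e4 (h : Cyc α) : α ((0, 0), (0, 2 ^ (n - 1))) = ((0, 0), (2 ^ (n - 1), 0)) := by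
  have e : (((0, 0), (0, 2 ^ (n - 1))) : V n) = ((2 ^ (n - 1), 2 ^ (n - 1)), (0, 2 ^ (n - 1))) +
      ((2 ^ (n - 1), 2 ^ (n - 1)), (0, 0)) := by
    simp only [Prod.mk_add_mk, h.hh, zero_add, add_zero]
  rw [e, map_add, h.z2, h.t]
  simp only [Prod.mk_add_mk, h.hh, zero_add, add_zero]

theorem e3 (h : Cyc α) : α ((0, 0), (2 ^ (n - 1), 0)) = ((0, 0), (2 ^ (n - 1), 2 ^ (n - 1))) := by
  have e : (((0, 0), (2 ^ (n - 1), 0)) : V n) = ((2 ^ (n - 1), 2 ^ (n - 1)), (2 ^ (n - 1), 0)) +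
      ((2 ^ (n - 1), 2 ^ (n - 1)), (0, 0)) := by
    simp only [Prod.mk_add_mk, h.hh, zero_add, add_zero]
  rw [e, map_add, h.z3, h.t]
  simp only [Prod.mk_add_mk, h.hh, zero_add, add_zero]

/-- `σ` centralises `W₁'`. -/
theorem anti (h : Cyc α) (x : ZMod (2 ^ n)) : α ((x, -x), (0, 0)) = ((x, -x), (0, 0)) := by
  set v := α ((1, 0), (0, 0)) with hv
  set m := v.1.1 - v.1.2 with hm
  have h1 : ∀ x : ZMod (2 ^ n), α ((x, -x), (0, 0)) = ((x * m, -(x * m)), (0, 0)) := by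
    intro x
    have e1 : (((x, -x), (0, 0)) : V n) = x • (((1, 0), (0, 0)) : V n) - x • sw1 (((1, 0), (0, 0)) : V n) := by
      simp [sw1]
    rw [e1, map_sub, map_smul, map_smul, h.s1, ← hv]
    ext <;> simp [sw1, hm] <;> ring
  have h3 := h.cube ((1, -1), (0, 0))
  rw [h1, h1, h1, one_mul, Prod.mk.injEq, Prod.mk.injEq] at h3
  have hm1 : m = 1 := eq_one_of_cube h.hn (by rw [← mul_assoc]; exact h3.1.1)
  rw [h1, hm1, mul_one]

/-- `(α - 1) v` is symmetric in the first two coordinates. -/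
theorem sub_sym (h : Cyc α) (v : V n) : (α v - v).1.1 = (α v - v).1.2 := by
  have h1 : α v - v = sw1 (α v - v) := by
    have e : v - sw1 v = ((v.1.1 - v.1.2, -(v.1.1 - v.1.2)), (0, 0)) := by
      ext <;> simp [sw1]
    have h2 := h.anti (v.1.1 - v.1.2)
    rw [← e, map_sub, h.s1] at h2
    have e2 : sw1 (α v - v) = sw1 (α v) - sw1 v := by ext <;> simp only [sw1, _root_.Cfsg.Agent.TypeLFive.CentLin.sw1, _root_.Prod.fst_sub, _root_.Prod.snd_sub, _root_.Prod.mk_sub_mk]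
    rw [e2]
    have h3 : α v - v - (sw1 (α v) - sw1 v) = 0 := by
      calc α v - v - (sw1 (α v) - sw1 v) = (α v - sw1 (α v)) - (v - sw1 v) := by abel
        _ = 0 := by rw [h2, sub_self]
    exact sub_eq_zero.1 h3
  have h2 := congrArg (fun w : V n => w.1.1) h1
  simpa only [sw1, _root_.Prod.fst_sub, _root_.Prod.snd_sub] using h2

theorem norm_sub (h : Cyc α) (v : V n) : (α v - v) + α (α v - v) + α (α (α v - v)) = 0 := by
  simp only [map_sub, h.cube]
  abel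

theorem norm_add (h : Cyc α) (v : V n) (a : ZMod (2 ^ n)) (hv : α v - v = ((a, a), (0, 0))) : a = 0 := by
  by_contra ha
  obtain ⟨r, hr⟩ := exists_mul_eq_half h.hn ha
  have h1 : α (r • v) - r • v = ((2 ^ (n - 1), 2 ^ (n - 1)), (0, 0)) := by
    rw [map_smul, ← smul_sub, hv]
    simp [hr]
  have h2 := h.norm_sub (r • v)
  rw [h1, h.t, h.t] at h2
  have h3 := congrArg (fun w : V n => w.1.1) h2
  simp only [Prod.mk_add_mk, Prod.fst_zero, h.hh, zero_add] at h3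
  exact half_ne_zero n h.hn h3

/-- The main statement: `[A, σ] = {((k (c + d), k (c + d)), (c, d))}` with `k` even. -/
theorem main (h : Cyc α) (hn2 : 2 ≤ n) : ∃ k : ZMod (2 ^ n), 2 ^ (n - 1) * k = 0 ∧
    (∀ v, (α v - v).1 = (k * ((α v - v).2.1 + (α v - v).2.2), k * ((α v - v).2.1 + (α v - v).2.2))) ∧
    (∀ c d : ZMod (2 ^ n), ∃ v, α v - v = ((k * (c + d), k * (c + d)), (c, d))) := by
  have hn := h.hn
  -- the columns
  have hs3 := h.sub_sym ((0, 0), (1, 0))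
  have hs4 := h.sub_sym ((0, 0), (0, 1))
  set v3 := α ((0, 0), (1, 0)) - ((0, 0), (1, 0)) with hv3
  set v4 := α ((0, 0), (0, 1)) - ((0, 0), (0, 1)) with hv4
  have m3 : (2 ^ (n - 1) : ZMod (2 ^ n)) • v3 = ((0, 0), (0, 2 ^ (n - 1))) := by
    have e : (2 ^ (n - 1) : ZMod (2 ^ n)) • (((0, 0), (1, 0)) : V n) = ((0, 0), (2 ^ (n - 1), 0)) := by simp
    rw [hv3, smul_sub, ← map_smul, e, h.e3]
    ext <;> simp only [_root_.Prod.mk_sub_mk, _root_.sub_self, _root_.sub_zero, _root_.Prod.fst_zero, _root_.Prod.snd_zero]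
  have m4 : (2 ^ (n - 1) : ZMod (2 ^ n)) • v4 = ((0, 0), (2 ^ (n - 1), 2 ^ (n - 1))) := by
    have e : (2 ^ (n - 1) : ZMod (2 ^ n)) • (((0, 0), (0, 1)) : V n) = ((0, 0), (0, 2 ^ (n - 1))) := by simp
    rw [hv4, smul_sub, ← map_smul, e, h.e4]
    have : -(2 ^ (n - 1) : ZMod (2 ^ n)) = 2 ^ (n - 1) := by linear_combination -h.hh
    ext <;> simp only [this, _root_.Prod.mk_sub_mk, _root_.sub_self, _root_.sub_zero, _root_.zero_sub, _root_.Prod.fst_zero, _root_.Prod.snd_zero]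
  have c3 : ∃ b, v3.2.1 = 2 * b := by
    rw [← half_mul_eq_zero_iff n hn]
    simpa only [_root_.Prod.smul_snd, _root_.Prod.smul_fst, _root_.smul_eq_mul] using congrArg (fun w : V n => w.2.1) m3
  have hodd : ∀ x : ZMod (2 ^ n), 2 ^ (n - 1) * x = 2 ^ (n - 1) → ∃ b, x = 2 * b + 1 := by
    intro x hx
    rcases even_or_odd' n x with ⟨b, hb⟩ | hb
    · exfalso
      have := (half_mul_eq_zero_iff n hn x).2 ⟨b, hb⟩
      rw [hx] at this
      exact half_ne_zero n hn this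
    · exact hb
  have d3 : ∃ b, v3.2.2 = 2 * b + 1 := hodd _ (by simpa only [_root_.Prod.smul_snd, _root_.smul_eq_mul] using congrArg (fun w : V n => w.2.2) m3)
  have c4 : ∃ b, v4.2.1 = 2 * b + 1 := hodd _ (by simpa only [_root_.Prod.smul_snd, _root_.Prod.smul_fst, _root_.smul_eq_mul] using congrArg (fun w : V n => w.2.1) m4)
  have d4 : ∃ b, v4.2.2 = 2 * b + 1 := hodd _ (by simpa only [_root_.Prod.smul_snd, _root_.smul_eq_mul] using congrArg (fun w : V n => w.2.2) m4)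
  obtain ⟨b1, hb1⟩ := c3
  obtain ⟨b2, hb2⟩ := d3
  obtain ⟨b3, hb3⟩ := c4
  obtain ⟨b4, hb4⟩ := d4
  -- the determinant
  have hD : IsUnit (v4.2.1 * v3.2.2 - v3.2.1 * v4.2.2) := by
    have : v4.2.1 * v3.2.2 - v3.2.1 * v4.2.2 =
        2 * (2 * b3 * b2 + b3 + b2 - b1 * (2 * b4 + 1)) + 1 := by
      rw [hb1, hb2, hb3, hb4]; ring
    rw [this]; exact isUnit_odd n _
  obtain ⟨D, hDv⟩ := hD
  have hDD : (v4.2.1 * v3.2.2 - v3.2.1 * v4.2.2) * ((D⁻¹ : (ZMod (2 ^ n))ˣ) : ZMod (2 ^ n)) = 1 := by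
    rw [← hDv]; exact D.mul_inv
  set Di := ((D⁻¹ : (ZMod (2 ^ n))ˣ) : ZMod (2 ^ n)) with hDi
  -- the image of `α - 1`
  have him : ∀ a b : ZMod (2 ^ n), ∃ v, α v - v = a • v3 + b • v4 := by
    intro a b
    refine ⟨a • (((0, 0), (1, 0)) : V n) + b • (((0, 0), (0, 1)) : V n), ?_⟩
    rw [map_add, map_smul, map_smul, hv3, hv4, smul_sub, smul_sub]
    abel
  obtain ⟨w1, hw1⟩ := him (-(Di * v4.2.2)) (Di * v3.2.2)
  obtain ⟨w2, hw2⟩ := him (Di * v4.2.1) (-(Di * v3.2.1))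
  have k1 : ∃ k, α w1 - w1 = ((k, k), (1, 0)) := by
    refine ⟨(α w1 - w1).1.1, ?_⟩
    ext
    · rfl
    · exact (h.sub_sym w1).symm
    · rw [hw1]
      simp only [Prod.snd_add, Prod.fst_add, Prod.smul_snd, Prod.smul_fst, smul_eq_mul]
      linear_combination hDD
    · rw [hw1]
      simp only [Prod.snd_add, Prod.smul_snd, smul_eq_mul]
      ring
  have k2 : ∃ k, α w2 - w2 = ((k, k), (0, 1)) := by
    refine ⟨(α w2 - w2).1.1, ?_⟩
    ext
    · rfl
    · exact (h.sub_sym w2).symm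
    · rw [hw2]
      simp only [Prod.snd_add, Prod.fst_add, Prod.smul_snd, Prod.smul_fst, smul_eq_mul]
      ring
    · rw [hw2]
      simp only [Prod.snd_add, Prod.smul_snd, smul_eq_mul]
      linear_combination hDD
  obtain ⟨k, hk1⟩ := k1
  obtain ⟨k', hk2⟩ := k2
  -- invariance under `sw2`
  have hsw : ∀ v, ∃ v', α v' - v' = sw2 (α v - v) := by
    intro v
    set y := sw2 v with hy
    refine ⟨α y + y, ?_⟩
    have h1 : α (sw2 (α v)) = y := h.s2 v
    have h2 : sw2 (α v) = α (α y) := by rw [← h.cube (sw2 (α v)), h1]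
    have h3 : sw2 (α v - v) = sw2 (α v) - sw2 v := by ext <;> simp only [sw2, _root_.Cfsg.Agent.TypeLFive.CentLin.sw2, _root_.Prod.fst_sub, _root_.Prod.snd_sub, _root_.Prod.mk_sub_mk]
    rw [h3, h2, map_add]
    abel
  obtain ⟨w3, hw3⟩ := hsw w1
  rw [hk1] at hw3
  have hkk : k = k' := by
    have h1 : α (w3 - w2) - (w3 - w2) = ((k - k', k - k'), (0, 0)) := by
      rw [map_sub]
      calc α w3 - α w2 - (w3 - w2) = (α w3 - w3) - (α w2 - w2) := by abel
        _ = _ := by rw [hw3, hk2]; ext <;> simp [sw2]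
    exact sub_eq_zero.1 (h.norm_add _ _ h1)
  subst hkk
  have hall : ∀ c d : ZMod (2 ^ n), α (c • w1 + d • w2) - (c • w1 + d • w2) =
      ((k * (c + d), k * (c + d)), (c, d)) := by
    intro c d
    calc α (c • w1 + d • w2) - (c • w1 + d • w2) = c • (α w1 - w1) + d • (α w2 - w2) := by
          rw [map_add, map_smul, map_smul, smul_sub, smul_sub]; abel
      _ = _ := by
          rw [hk1, hk2]
          ext <;> simp only [_root_.Prod.smul_mk, _root_.smul_eq_mul, _root_.mul_one, _root_.MulZeroClass.mul_zero, _root_.Prod.mk_add_mk, _root_.add_zero, _root_.zero_add] <;> ring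
  refine ⟨k, ?_, ?_, fun c d => ⟨_, hall c d⟩⟩
  · -- `k` is even
    by_contra hk
    have hkh : (2 : ZMod (2 ^ n)) ^ (n - 1) * k = 2 ^ (n - 1) := by
      have h1 : 2 * ((2 : ZMod (2 ^ n)) ^ (n - 1) * k) = 0 := by
        rw [← mul_assoc, two_mul_half n hn, zero_mul]
      rcases (two_mul_eq_zero_iff n hn _).1 h1 with h2 | h2
      · exact absurd h2 hk
      · exact h2
    have h1 := hall (2 ^ (n - 1)) 0
    rw [add_zero, mul_comm, hkh] at h1
    have h2 := h.norm_sub ((2 ^ (n - 1) : ZMod (2 ^ n)) • w1 + (0 : ZMod (2 ^ n)) • w2)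
    have h4 : α ((2 ^ (n - 1), 2 ^ (n - 1)), (2 ^ (n - 1), 2 ^ (n - 1))) =
        ((2 ^ (n - 1), 2 ^ (n - 1)), (0, 2 ^ (n - 1))) := by
      have := h.cube ((2 ^ (n - 1), 2 ^ (n - 1)), (0, 2 ^ (n - 1)))
      rw [h.z2, h.z3] at this
      exact this
    rw [h1, h.z3, h4] at h2
    have h3 := congrArg (fun w : V n => w.1.1) h2
    simp only [Prod.mk_add_mk, Prod.fst_zero, h.hh, zero_add] at h3
    exact half_ne_zero n h.hn h3
  · intro v
    set c := (α v - v).2.1 with hc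
    set d := (α v - v).2.2 with hd
    have h1 : α (v - (c • w1 + d • w2)) - (v - (c • w1 + d • w2)) =
        (((α v - v).1.1 - k * (c + d), (α v - v).1.1 - k * (c + d)), (0, 0)) := by
      rw [map_sub]
      calc α v - α (c • w1 + d • w2) - (v - (c • w1 + d • w2)) =
          (α v - v) - (α (c • w1 + d • w2) - (c • w1 + d • w2)) := by abel
        _ = _ := by
          rw [hall]
          have h5 := h.sub_sym v
          ext
          · rfl
          · show (α v - v).1.2 - k * (c + d) = (α v - v).1.1 - k * (c + d)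
            rw [h5]
          · show (α v - v).2.1 - c = 0
            rw [← hc, sub_self]
          · show (α v - v).2.2 - d = 0
            rw [← hd, sub_self]
    have h2 := sub_eq_zero.1 (h.norm_add _ _ h1)
    ext
    · exact h2
    · rw [← h.sub_sym v]; exact h2

end Cyc

end Cfsg.Agent.TypeLFive.CentLin
end

-- part: TypeLFive/CentWRBase
section
/-!
# The action of `N_G(A)` on `A ≅ (Z_{2^n})^4` (S0511, piece (C), wreathed half)
-/

set_option autoImplicit false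

namespace Cfsg.Agent.TypeLFive.CentWR

open Cfsg.Agent.TypeLFive.Model Cfsg.Agent.TypeLFive.Out Cfsg.Agent.TypeLFive.CentLin
open Cfsg.Agent.TwoFusion.QDBasic Cfsg.Agent.TwoFusion.WreathedBasic

variable {G W : Type*} [Group G] [Group W] {n : ℕ} {S : Subgroup G} {f : W × W →* G} {w : G}
  {u : ZMod (2 ^ n) → ZMod (2 ^ n) → W} {s : W}

/-- The coordinates of `A`. -/
def Fv (f : W × W →* G) (u : ZMod (2 ^ n) → ZMod (2 ^ n) → W) (v : V n) : G := f (u v.1.1 v.1.2, u v.2.1 v.2.2)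

theorem Fv_add (hc : IsWCoord n u s) (v v' : V n) : Fv f u (v + v') = Fv f u v * Fv f u v' := by
  simp only [Fv]
  rw [← map_mul, Prod.mk_mul_mk, hc.u_mul, hc.u_mul]
  rfl

theorem Fv_zero (hc : IsWCoord n u s) : Fv f u (0 : V n) = 1 := by
  have h := Fv_add (f := f) hc (0 : V n) 0
  rw [add_zero] at h
  exact (left_eq_mul.1 h)

theorem Fv_neg (hc : IsWCoord n u s) (v : V n) : Fv f u (-v) = (Fv f u v)⁻¹ := by
  rw [eq_inv_iff_mul_eq_one, ← Fv_add hc, neg_add_cancel, Fv_zero hc]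

theorem Fv_inj (hc : IsWCoord n u s) (hw : Wr S f w) {v v' : V n} (h : Fv f u v = Fv f u v') : v = v' := by
  have h1 := hw.inj h
  rw [Prod.mk.injEq] at h1
  obtain ⟨h2, h3⟩ := hc.u_inj _ _ _ _ h1.1
  obtain ⟨h4, h5⟩ := hc.u_inj _ _ _ _ h1.2
  exact Prod.ext (Prod.ext h2 h3) (Prod.ext h4 h5)

theorem Fv_comm (hc : IsWCoord n u s) (v v' : V n) : Fv f u v * Fv f u v' = Fv f u v' * Fv f u v := by
  rw [← Fv_add hc, ← Fv_add hc, add_comm]

/-- `g` normalises `A`. -/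
def NA (f : W × W →* G) (u : ZMod (2 ^ n) → ZMod (2 ^ n) → W) (g : G) : Prop :=
  ∀ v : V n, ∃ v' : V n, g * Fv f u v * g⁻¹ = Fv f u v'

/-- `φ` is the action of `g` on `A`. -/
def Act (f : W × W →* G) (u : ZMod (2 ^ n) → ZMod (2 ^ n) → W) (g : G) (φ : V n →ₗ[ZMod (2 ^ n)] V n) : Prop :=
  ∀ v : V n, g * Fv f u v * g⁻¹ = Fv f u (φ v)

theorem Act.na {g : G} {φ : V n →ₗ[ZMod (2 ^ n)] V n} (h : Act f u g φ) : NA f u g := fun v => ⟨_, h v⟩

theorem NA.exists_act (hc : IsWCoord n u s) (hw : Wr S f w) {g : G} (hg : NA f u g) :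
    ∃ φ : V n →ₗ[ZMod (2 ^ n)] V n, Act f u g φ := by
  choose φ hφ using hg
  let ψ : V n →+ V n :=
    { toFun := φ
      map_zero' := by
        apply Fv_inj hc hw
        rw [← hφ, Fv_zero hc, mul_one, mul_inv_cancel]
      map_add' := fun x y => by
        apply Fv_inj hc hw
        rw [← hφ, Fv_add hc, Fv_add hc, ← hφ, ← hφ]
        group }
  exact ⟨ψ.toZModLinearMap (2 ^ n), hφ⟩

theorem Act.mul {g g' : G} {φ φ' : V n →ₗ[ZMod (2 ^ n)] V n} (h : Act f u g φ) (h' : Act f u g' φ') :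
    Act f u (g * g') (φ.comp φ') := by
  intro v
  calc g * g' * Fv f u v * (g * g')⁻¹ = g * (g' * Fv f u v * g'⁻¹) * g⁻¹ := by group
    _ = _ := by rw [h', h]; rfl

theorem Act.one : Act f u (1 : G) (LinearMap.id : V n →ₗ[ZMod (2 ^ n)] V n) := by
  intro v
  simp

/-- the inverse normalises too. -/
theorem NA.inv [Finite G] {g : G} (hg : NA f u g) : NA f u g⁻¹ := by
  obtain ⟨k, hk⟩ : ∃ k : ℕ, g⁻¹ = g ^ k := by
    refine ⟨orderOf g - 1, ?_⟩
    rw [inv_eq_iff_mul_eq_one, ← pow_succ', Nat.sub_add_cancel (orderOf_pos g), pow_orderOf_eq_one]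
  rw [hk]
  clear hk
  induction k with
  | zero => intro v; exact ⟨v, by simp⟩
  | succ k ih =>
    intro v
    obtain ⟨v1, h1⟩ := hg v
    obtain ⟨v2, h2⟩ := ih v1
    refine ⟨v2, ?_⟩
    rw [← h2, ← h1, pow_succ]
    group

theorem NA.mul {g g' : G} (hg : NA f u g) (hg' : NA f u g') : NA f u (g * g') := by
  intro v
  obtain ⟨v1, h1⟩ := hg' v
  obtain ⟨v2, h2⟩ := hg v1
  refine ⟨v2, ?_⟩
  rw [← h2, ← h1]
  group

/-- `sw1` as a linear map -/
def sw1L (n : ℕ) : V n →ₗ[ZMod (2 ^ n)] V n where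
  toFun := sw1
  map_add' _ _ := rfl
  map_smul' _ _ := rfl

/-- `sw2` as a linear map -/
def sw2L (n : ℕ) : V n →ₗ[ZMod (2 ^ n)] V n where
  toFun := sw2
  map_add' _ _ := rfl
  map_smul' _ _ := rfl

/-- `s₁ = f (s, 1)` acts as `sw1`. -/
theorem act_s1 (hc : IsWCoord n u s) : Act f u (f (s, 1)) (sw1L n) := by
  intro v
  show f (s, 1) * f (u v.1.1 v.1.2, u v.2.1 v.2.2) * (f (s, 1))⁻¹ = f (u v.1.2 v.1.1, u v.2.1 v.2.2)
  rw [← map_mul, ← map_inv, ← map_mul]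
  congr 1
  simp only [Prod.mk_mul_mk, Prod.inv_mk, inv_one, mul_one, one_mul, hc.z_conj_u]

/-- `s₂ = f (1, s)` acts as `sw2`. -/
theorem act_s2 (hc : IsWCoord n u s) : Act f u (f (1, s)) (sw2L n) := by
  intro v
  show f (1, s) * f (u v.1.1 v.1.2, u v.2.1 v.2.2) * (f (1, s))⁻¹ = f (u v.1.1 v.1.2, u v.2.2 v.2.1)
  rw [← map_mul, ← map_inv, ← map_mul]
  congr 1
  simp only [Prod.mk_mul_mk, Prod.inv_mk, inv_one, mul_one, one_mul, hc.z_conj_u]

/-- The five vectors. -/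
def zV (n : ℕ) : Fin 5 → V n :=
  ![((0, 2 ^ (n - 1)), (2 ^ (n - 1), 2 ^ (n - 1))), ((2 ^ (n - 1), 0), (2 ^ (n - 1), 2 ^ (n - 1))),
    ((2 ^ (n - 1), 2 ^ (n - 1)), (0, 2 ^ (n - 1))), ((2 ^ (n - 1), 2 ^ (n - 1)), (2 ^ (n - 1), 0)),
    ((2 ^ (n - 1), 2 ^ (n - 1)), (2 ^ (n - 1), 2 ^ (n - 1)))]

theorem f_zv (hc : IsWCoord n u s) (i : Fin 5) :
    f (zv (u (2 ^ (n - 1)) (2 ^ (n - 1))) (u (2 ^ (n - 1)) 0) i) = Fv f u (zV n i) := by
  have hh : (2 : ZMod (2 ^ n)) ^ (n - 1) + 2 ^ (n - 1) = 0 := by rw [← two_mul, two_mul_half n hc.one_le]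
  have e : u (2 ^ (n - 1)) 0 * u (2 ^ (n - 1)) (2 ^ (n - 1)) = u 0 (2 ^ (n - 1)) := by
    rw [hc.u_mul, hh, zero_add]
  (revert i; simp only [zv, zV, Fv, e, _root_.Fin.forall_fin_succ, Fin.isValue, _root_.Matrix.cons_val_zero, _root_.Matrix.cons_val_succ, _root_.Matrix.cons_val_fin_one, _root_.implies_true, _root_.and_self])

section fus

variable (h : FusWR S f w u s)

include h

theorem hw : Wr S f w := h.out.wr

/-- Two elements of `N_G(A)` inducing the same action on the five vectors induce the same action on `A`. -/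
theorem act_eq [Finite G] {g g' : G} {φ φ' : V n →ₗ[ZMod (2 ^ n)] V n} (hg : Act f u g φ) (hg' : Act f u g' φ')
    (he : ∀ i, φ (zV n i) = φ' (zV n i)) (v : V n) : φ v = φ' v := by
  have hna : NA f u (g'⁻¹ * g) := (hg'.na.inv).mul hg.na
  have h1 : ∀ i, (g'⁻¹ * g) * Fv f u (zV n i) * (g'⁻¹ * g)⁻¹ = Fv f u (zV n i) := by
    intro i
    have h2 := hg (zV n i)
    have h3 := hg' (zV n i)
    rw [← he] at h3
    calc (g'⁻¹ * g) * Fv f u (zV n i) * (g'⁻¹ * g)⁻¹ = g'⁻¹ * (g * Fv f u (zV n i) * g⁻¹) * g' := by group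
      _ = g'⁻¹ * (g' * Fv f u (zV n i) * g'⁻¹) * g' := by rw [h2, h3]
      _ = Fv f u (zV n i) := by group
  have h4 := h.faithful (g'⁻¹ * g)
    (fun a b c d => by
      obtain ⟨v', hv'⟩ := hna ((a, b), (c, d))
      exact ⟨v'.1.1, v'.1.2, v'.2.1, v'.2.2, hv'⟩)
    (fun i => by rw [f_zv h.coord]; exact h1 i) v.1.1 v.1.2 v.2.1 v.2.2
  have h5 : g'⁻¹ * g * Fv f u v = Fv f u v * (g'⁻¹ * g) := h4
  apply Fv_inj h.coord h.out.wr
  rw [← hg, ← hg']
  calc g * Fv f u v * g⁻¹ = g' * (g'⁻¹ * g * Fv f u v) * g⁻¹ := by group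
    _ = g' * (Fv f u v * (g'⁻¹ * g)) * g⁻¹ := by rw [h5]
    _ = g' * Fv f u v * g'⁻¹ := by group

/-- Every permutation of the five vectors is induced by a linear action. -/
theorem exists_perm (σ : Equiv.Perm (Fin 5)) : ∃ (g : G) (φ : V n →ₗ[ZMod (2 ^ n)] V n), Act f u g φ ∧
    ∀ i, φ (zV n i) = zV n (σ i) := by
  obtain ⟨g, hg, hi⟩ := h.permA σ
  have hna : NA f u g := fun v => by
    obtain ⟨a, b, c, d, e⟩ := hg v.1.1 v.1.2 v.2.1 v.2.2
    exact ⟨((a, b), (c, d)), e⟩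
  obtain ⟨φ, hφ⟩ := hna.exists_act h.coord h.out.wr
  refine ⟨g, φ, hφ, fun i => ?_⟩
  apply Fv_inj h.coord h.out.wr
  rw [← hφ, ← f_zv h.coord, ← f_zv h.coord, hi]

/-- The 3-cycle. -/
theorem exists_cyc [Finite G] : ∃ (g : G) (α : V n →ₗ[ZMod (2 ^ n)] V n), Act f u g α ∧ Cyc α := by
  have hc := h.coord
  set H : ZMod (2 ^ n) := 2 ^ (n - 1) with hH
  obtain ⟨g, α, hα, hi⟩ := exists_perm h (c[2, 3, 4])
  have i0 : α (zV n 0) = zV n 0 := hi 0
  have i1 : α (zV n 1) = zV n 1 := hi 1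
  have i2 : α (zV n 2) = zV n 3 := hi 2
  have i3 : α (zV n 3) = zV n 4 := hi 3
  have i4 : α (zV n 4) = zV n 2 := hi 4
  refine ⟨g, α, hα, hc.one_le, ?_, ?_, ?_, i0, i1, i2, i3⟩
  · have h1 := act_eq h (hα.mul (act_s1 hc)) ((act_s1 hc).mul hα) ?_
    · exact h1
    · intro i
      show α (sw1 (zV n i)) = sw1 (α (zV n i))
      fin_cases i
      · show α (zV n 1) = sw1 (α (zV n 0)); rw [i0, i1]; rfl
      · show α (zV n 0) = sw1 (α (zV n 1)); rw [i0, i1]; rfl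
      · show α (zV n 2) = sw1 (α (zV n 2)); rw [i2]; rfl
      · show α (zV n 3) = sw1 (α (zV n 3)); rw [i3]; rfl
      · show α (zV n 4) = sw1 (α (zV n 4)); rw [i4]; rfl
  · have h1 := act_eq h (hα.mul ((act_s2 hc).mul hα)) (act_s2 hc) ?_
    · exact h1
    · intro i
      show α (sw2 (α (zV n i))) = sw2 (zV n i)
      fin_cases i
      · show α (sw2 (α (zV n 0))) = sw2 (zV n 0); rw [i0]; exact i0
      · show α (sw2 (α (zV n 1))) = sw2 (zV n 1); rw [i1]; exact i1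
      · show α (sw2 (α (zV n 2))) = zV n 3; rw [i2]; exact i2
      · show α (sw2 (α (zV n 3))) = zV n 2; rw [i3]; exact i4
      · show α (sw2 (α (zV n 4))) = zV n 4; rw [i4]; exact i3
  · have h1 := act_eq h (hα.mul (hα.mul hα)) Act.one ?_
    · exact h1
    · intro i
      show α (α (α (zV n i))) = zV n i
      fin_cases i
      · show α (α (α (zV n 0))) = zV n 0; rw [i0, i0, i0]
      · show α (α (α (zV n 1))) = zV n 1; rw [i1, i1, i1]
      · show α (α (α (zV n 2))) = zV n 2; rw [i2, i3, i4]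
      · show α (α (α (zV n 3))) = zV n 3; rw [i3, i4, i2]
      · show α (α (α (zV n 4))) = zV n 4; rw [i4, i2, i3]

end fus

end Cfsg.Agent.TypeLFive.CentWR
end

-- part: TypeLFive/CentWRTwist
section
/-!
# The normalisation `[A, σ] = A ∩ W₂` (S0511, piece (C), wreathed half, step (W1))
-/

set_option autoImplicit false

namespace Cfsg.Agent.TypeLFive.CentWR

open Cfsg.Agent.TypeLFive.Model Cfsg.Agent.TypeLFive.Out Cfsg.Agent.TypeLFive.CentLin
open Cfsg.Agent.TwoFusion.QDBasic Cfsg.Agent.TwoFusion.WreathedBasic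

variable {G W : Type*} [Group G] [Group W] {n : ℕ} {S : Subgroup G} {f : W × W →* G} {w : G}
  {u : ZMod (2 ^ n) → ZMod (2 ^ n) → W} {s : W}

/-- The determinant `W → Z_{2^n}`. -/
theorem exists_det (hc : IsWCoord n u s) : ∃ D : W → ZMod (2 ^ n), (∀ a b, D (u a b) = a + b) ∧
    (∀ a b, D (u a b * s) = a + b + 2 ^ (n - 1)) ∧ ∀ x y, D (x * y) = D x + D y := by
  classical
  have hh : (2 : ZMod (2 ^ n)) ^ (n - 1) + 2 ^ (n - 1) = 0 := by rw [← two_mul, two_mul_half n hc.one_le]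
  have hex : ∀ x : W, ∃ d : ZMod (2 ^ n), (∀ a b, x = u a b → d = a + b) ∧
      (∀ a b, x = u a b * s → d = a + b + 2 ^ (n - 1)) := by
    intro x
    rcases hc.cases x with ⟨a, b, rfl⟩ | ⟨a, b, rfl⟩
    · refine ⟨a + b, fun c d e => ?_, fun c d e => absurd e (hc.u_ne _ _ _ _)⟩
      obtain ⟨h1, h2⟩ := hc.u_inj _ _ _ _ e
      rw [h1, h2]
    · refine ⟨a + b + 2 ^ (n - 1), fun c d e => absurd e.symm (hc.u_ne _ _ _ _), fun c d e => ?_⟩
      obtain ⟨h1, h2⟩ := hc.u_inj _ _ _ _ (mul_right_cancel e)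
      rw [h1, h2]
  choose D hD1 hD2 using hex
  have e1 : ∀ a b, D (u a b) = a + b := fun a b => hD1 _ a b rfl
  have e2 : ∀ a b, D (u a b * s) = a + b + 2 ^ (n - 1) := fun a b => hD2 _ a b rfl
  refine ⟨D, e1, e2, ?_⟩
  intro x y
  rcases hc.cases x with ⟨a, b, rfl⟩ | ⟨a, b, rfl⟩ <;> rcases hc.cases y with ⟨c, d, rfl⟩ | ⟨c, d, rfl⟩
  · rw [hc.u_mul, e1, e1, e1]; ring
  · rw [hc.u_mul_uz, e2, e1, e2]; ring
  · rw [hc.uz_mul_u, e2, e1, e2]; ring
  · rw [hc.uz_mul_uz, e1, e2, e2]; linear_combination -hh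

/-- The central twist hom. -/
theorem exists_mu (hc : IsWCoord n u s) (k : ZMod (2 ^ n)) (D : W → ZMod (2 ^ n)) (hD1 : ∀ a b, D (u a b) = a + b)
    (hD3 : ∀ x y, D (x * y) = D x + D y) : ∃ μ : W →* W, (∀ x, μ x = u (k * D x) (k * D x)) ∧
      (∀ x y, μ x * y = y * μ x) ∧ (∀ x, μ (μ x) = x → x = 1) := by
  have hD0 : D 1 = 0 := by
    have := hD3 1 1
    rw [mul_one] at this
    exact (left_eq_add.1 this)
  let μ : W →* W :=
    { toFun := fun x => u (k * D x) (k * D x)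
      map_one' := by rw [hD0, mul_zero, hc.u_zero]
      map_mul' := fun x y => by rw [hD3, hc.u_mul, mul_add] }
  have hμ : ∀ x, μ x = u (k * D x) (k * D x) := fun _ => rfl
  refine ⟨μ, hμ, ?_, ?_⟩
  · intro x y
    rw [hμ]
    rcases hc.cases y with ⟨c, d, rfl⟩ | ⟨c, d, rfl⟩
    · exact hc.u_comm _ _ _ _
    · rw [hc.u_mul_uz, hc.uz_mul_u, add_comm c, add_comm d]
  · intro x hx
    rw [hμ, hμ, hD1] at hx
    have h2 : D x = k * (k * D x + k * D x) + k * (k * D x + k * D x) := by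
      conv_lhs => rw [← hx]
      rw [hD1]
    have h3 : (2 * (2 * (-(k * k))) + 1) * D x = 0 := by linear_combination h2
    have h4 : D x = 0 := ((isUnit_odd n _).mul_right_eq_zero).1 h3
    rw [← hx, h4]
    simp [hc.u_zero]

/-- The wreathed output of (F), normalised: there is a `3`-cycle `σ` acting on `A` with
`[A, σ] = A ∩ W₂`. -/
structure FusWRN {n : ℕ} (S : Subgroup G) (f : W × W →* G) (w : G)
    (u : ZMod (2 ^ n) → ZMod (2 ^ n) → W) (s : W) : Prop where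
  fus : FusWR S f w u s
  cyc : ∃ (g : G) (α : V n →ₗ[ZMod (2 ^ n)] V n), Act f u g α ∧ Cyc α ∧ (∀ v, (α v).1 = v.1) ∧
    ∀ c d : ZMod (2 ^ n), ∃ v, α v - v = ((0, 0), (c, d))

/-- The twisted coordinates. -/
theorem exists_norm [Finite G] (h : FusWR S f w u s) : ∃ μ : W →* W, ∃ hμ : ∀ x y, μ x * y = y * μ x,
    (∀ x, x * x = 1 → μ x = 1) ∧ (∀ a b, ∃ c, μ (u a b) = u c c) ∧
    FusWRN S (f.comp (twistHom μ hμ)) w u s := by
  have hc := h.coord
  have hfin : Finite W := hc.finite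
  have hh : (2 : ZMod (2 ^ n)) ^ (n - 1) + 2 ^ (n - 1) = 0 := by rw [← two_mul, two_mul_half n hc.one_le]
  obtain ⟨g, α, hα, hcyc⟩ := exists_cyc h
  obtain ⟨k, hk0, hk1, hk2⟩ := hcyc.main hc.two_le
  obtain ⟨D, hD1, hD2, hD3⟩ := exists_det hc
  have hD0 : D 1 = 0 := by
    have := hD3 1 1
    rw [mul_one] at this
    exact (left_eq_add.1 this)
  obtain ⟨μ, hμ1, hμ, hinj⟩ := exists_mu hc k D hD1 hD3
  have hinv : ∀ x, x * x = 1 → μ x = 1 := by
    intro x hx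
    have h1 : 2 * D x = 0 := by rw [two_mul, ← hD3, hx, hD0]
    rw [two_mul_eq_zero_iff n hc.one_le] at h1
    have h2 : k * D x = 0 := by
      rcases h1 with h1 | h1
      · rw [h1, mul_zero]
      · rw [h1, mul_comm, hk0]
    rw [hμ1, h2, hc.u_zero]
  set f' := f.comp (twistHom μ hμ) with hf'
  have hf1 : ∀ x y, f' (x, y) = f (x * μ y, y * μ x) := fun x y => rfl
  have hw' : Wr S f' w := h.out.wr.twist μ hμ hinj
  have hfi : ∀ x y, x * x = 1 → y * y = 1 → f' (x, y) = f (x, y) := by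
    intro x y hx hy
    rw [hf1, hinv x hx, hinv y hy, mul_one, mul_one]
  -- the twist on `A`
  let T : V n → V n := fun v => ((v.1.1 + k * (v.2.1 + v.2.2), v.1.2 + k * (v.2.1 + v.2.2)),
    (v.2.1 + k * (v.1.1 + v.1.2), v.2.2 + k * (v.1.1 + v.1.2)))
  have hT : ∀ v, Fv f' u v = Fv f u (T v) := by
    intro v
    show f' (u v.1.1 v.1.2, u v.2.1 v.2.2) = _
    rw [hf1, hμ1, hμ1, hD1, hD1, hc.u_mul, hc.u_mul]
    rfl
  have hTinj : Function.Injective T := by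
    intro v v' e
    apply Fv_inj hc hw'
    rw [hT, hT, e]
  have hTsur : Function.Surjective T := Finite.surjective_of_injective hTinj
  have hTadd : ∀ v v', T (v + v') = T v + T v' := by
    intro v v'
    ext <;> simp only [T, _root_.Prod.fst_add, _root_.Prod.snd_add, _root_.Prod.mk_add_mk] <;> ring
  -- the actions
  have hNA : ∀ g : G, NA f' u g ↔ NA f u g := by
    intro g
    constructor
    · intro hg v
      obtain ⟨v1, rfl⟩ := hTsur v
      obtain ⟨v2, h2⟩ := hg v1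
      exact ⟨T v2, by rw [← hT, ← hT, h2]⟩
    · intro hg v
      obtain ⟨v2, h2⟩ := hg (T v)
      obtain ⟨v3, rfl⟩ := hTsur v2
      exact ⟨v3, by rw [hT, hT, h2]⟩
  have hz : ∀ i, f' (zv (u (2 ^ (n - 1)) (2 ^ (n - 1))) (u (2 ^ (n - 1)) 0) i) =
      f (zv (u (2 ^ (n - 1)) (2 ^ (n - 1))) (u (2 ^ (n - 1)) 0) i) := by
    intro i
    have h2 : (2 : ZMod (2 ^ n)) ^ (n - 1) + 2 ^ (n - 1) = 0 := hh
    fin_cases i <;> refine hfi _ _ ?_ ?_ <;> simp only [hc.u_mul, h2, hc.u_zero, _root_.zero_add, _root_.add_zero]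
  have hnaiff : ∀ (f₀ : W × W →* G) (g : G), NA f₀ u g ↔
      ∀ a b c d, ∃ a' b' c' d', g * f₀ (u a b, u c d) * g⁻¹ = f₀ (u a' b', u c' d') := by
    intro f₀ g
    constructor
    · intro hg a b c d
      obtain ⟨v, hv⟩ := hg ((a, b), (c, d))
      exact ⟨_, _, _, _, hv⟩
    · intro hg v
      obtain ⟨a, b, c, d, e⟩ := hg v.1.1 v.1.2 v.2.1 v.2.2
      exact ⟨((a, b), (c, d)), e⟩
  have hrange : f'.range = f.range := by
    have := Wr.comp_range (f := f) (twistEquiv μ hμ hinj)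
    rw [← this]
    rfl
  have h1i : (u (2 ^ (n - 1)) (2 ^ (n - 1))) * (u (2 ^ (n - 1)) (2 ^ (n - 1))) = (1 : W) := by
    rw [hc.u_mul, hh, hc.u_zero]
  have hzt : f' (u (2 ^ (n - 1)) (2 ^ (n - 1)), 1) = f (u (2 ^ (n - 1)) (2 ^ (n - 1)), 1) :=
    hfi _ _ h1i (one_mul 1)
  have hzz : f' (u (2 ^ (n - 1)) (2 ^ (n - 1)), u (2 ^ (n - 1)) (2 ^ (n - 1))) =
      f (u (2 ^ (n - 1)) (2 ^ (n - 1)), u (2 ^ (n - 1)) (2 ^ (n - 1))) := hfi _ _ h1i h1i
  have hfus : FusWR S f' w u s :=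
    { coord := hc
      out :=
        { wr := hw'
          not_conj := by rw [hzt, hzz]; exact h.out.not_conj
          perm := by
            intro σ
            obtain ⟨g, hg⟩ := h.out.perm σ
            exact ⟨g, fun i => by rw [hz, hz]; exact hg i⟩
          conj_w := by rw [hzt]; exact h.out.conj_w
          conj_z := by
            intro x y hx hy h1 h2 h3
            rw [hzz, hfi x y hx hy]
            exact h.out.conj_z x y hx hy h1 h2 h3
          conj_t := by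
            intro x y hx hy h1 h2
            rw [hzt, hfi x y hx hy]
            exact h.out.conj_t x y hx hy h1 h2
          sylow_t := by
            rw [hrange, hzt]
            exact h.out.sylow_t }
      weak := by
        intro g hg
        rw [← hnaiff]
        rw [hNA, hnaiff]
        apply h.weak
        intro a b c d
        obtain ⟨v, hv⟩ := hTsur ((a, b), (c, d))
        have := hg v.1.1 v.1.2 v.2.1 v.2.2
        have h5 : f' (u v.1.1 v.1.2, u v.2.1 v.2.2) = f (u a b, u c d) := by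
          have h6 := hT v
          rw [hv] at h6
          exact h6
        rwa [h5] at this
      permA := by
        intro σ
        obtain ⟨g, hg1, hg2⟩ := h.permA σ
        refine ⟨g, ?_, fun i => by rw [hz, hz]; exact hg2 i⟩
        rw [← hnaiff, hNA, hnaiff]
        exact hg1
      faithful := by
        intro g hg1 hg2 a b c d
        rw [← hnaiff, hNA, hnaiff] at hg1
        have h5 := h.faithful g hg1 (fun i => by rw [← hz]; exact hg2 i)
        have h6 : f' (u a b, u c d) = Fv f u (T ((a, b), (c, d))) := hT ((a, b), (c, d))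
        rw [h6]
        exact h5 _ _ _ _
      rho := by
        obtain ⟨ρ, hρ⟩ := h.rho
        have hq : (2 : ZMod (2 ^ n)) ^ (n - 2) + 2 ^ (n - 2) = 2 ^ (n - 1) := by
          have := hc.two_le
          rw [← two_mul, ← pow_succ']
          congr 1
          omega
        have hm1 : μ (u (-(2 ^ (n - 2))) (2 ^ (n - 2))) = 1 := by
          rw [hμ1, hD1, neg_add_cancel, mul_zero, hc.u_zero]
        have hm2 : μ (u (2 ^ (n - 2)) (2 ^ (n - 2)) * s) = 1 := by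
          rw [hμ1, hD2, hq, hh, mul_zero, hc.u_zero]
        have hm3 : μ (u (-(2 ^ (n - 2))) (2 ^ (n - 2)) * (u (2 ^ (n - 2)) (2 ^ (n - 2)) * s)) = 1 := by
          rw [map_mul, hm1, hm2, one_mul]
        refine ⟨ρ, ?_, ?_, ?_⟩
        · intro a y
          rw [hf1]
          have : u a a * μ y = u (a + k * D y) (a + k * D y) := by rw [hμ1, hc.u_mul]
          rw [this]
          exact hρ.comm _ _
        · rw [hf1, hf1, hm1, hm2, map_one, mul_one, mul_one, mul_one]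
          exact hρ.i_j
        · rw [hf1, hf1, hm3, hm2, map_one, mul_one, mul_one, mul_one]
          exact hρ.j_k }
  refine ⟨μ, hμ, hinv, fun a b => ⟨_, hμ1 _⟩, hfus, ?_⟩
  -- the action of `σ` in the twisted coordinates
  obtain ⟨β, hβ⟩ := ((hNA g).2 hα.na).exists_act hc hw'
  have hβα : ∀ v, T (β v) = α (T v) := by
    intro v
    apply Fv_inj hc h.out.wr
    rw [← hT, ← hβ, hT, hα]
  -- fixed vectors of the twist
  have hTz : ∀ i, T (zV n i) = zV n i := by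
    intro i
    apply Fv_inj hc h.out.wr
    rw [← hT, ← f_zv hc, ← f_zv hc, hz]
  have hβz : ∀ i j, α (zV n i) = zV n j → β (zV n i) = zV n j := by
    intro i j e
    apply hTinj
    rw [hβα, hTz, hTz, e]
  have hTs1 : ∀ v, T (sw1 v) = sw1 (T v) := by
    intro v
    ext <;> simp only [T, sw1, _root_.Cfsg.Agent.TypeLFive.CentLin.sw1, _root_.add_right_inj] <;> ring
  have hTs2 : ∀ v, T (sw2 v) = sw2 (T v) := by
    intro v
    ext <;> simp only [T, sw2, _root_.Cfsg.Agent.TypeLFive.CentLin.sw2, _root_.add_right_inj] <;> ring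
  have hcyc' : Cyc β :=
    { hn := hc.one_le
      s1 := fun v => by apply hTinj; rw [hβα, hTs1, hcyc.s1, hTs1, hβα]
      s2 := fun v => by apply hTinj; rw [hβα, hTs2, hβα, hcyc.s2, hTs2]
      cube := fun v => by apply hTinj; rw [hβα, hβα, hβα, hcyc.cube]
      z0 := hβz 0 0 hcyc.z0
      z1 := hβz 1 1 hcyc.z1
      z2 := hβz 2 3 hcyc.z2
      z3 := hβz 3 4 hcyc.z3 }
  have hTneg : ∀ v v', T (v - v') = T v - T v' := by
    intro v v'
    ext <;> simp only [T, _root_.Prod.fst_sub, _root_.Prod.snd_sub, _root_.Prod.mk_sub_mk] <;> ring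
  have hTc : ∀ c d : ZMod (2 ^ n), T ((0, 0), (c, d)) = ((k * (c + d), k * (c + d)), (c, d)) := by
    intro c d
    ext <;> simp [T]
  have hsub : ∀ v, ∃ c d : ZMod (2 ^ n), β v - v = ((0, 0), (c, d)) := by
    intro v
    refine ⟨(α (T v) - T v).2.1, (α (T v) - T v).2.2, ?_⟩
    apply hTinj
    rw [hTneg, hβα, hTc]
    ext
    · exact congrArg Prod.fst (hk1 (T v))
    · exact congrArg Prod.snd (hk1 (T v))
    · rfl
    · rfl
  refine ⟨g, β, hβ, hcyc', ?_, ?_⟩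
  · intro v
    obtain ⟨c, d, e⟩ := hsub v
    have h1 := congrArg Prod.fst e
    have h2 : (β v - v).1 = (β v).1 - v.1 := rfl
    rw [h2] at h1
    exact sub_eq_zero.1 h1
  · intro c d
    obtain ⟨v, hv⟩ := hk2 c d
    obtain ⟨v', rfl⟩ := hTsur v
    refine ⟨v', ?_⟩
    apply hTinj
    rw [hTneg, hβα, hv, hTc]

end Cfsg.Agent.TypeLFive.CentWR
end

-- part: TypeLFive/CentData
section
/-!
# Interface between steps (1)-(3) and step (4) of piece (C), S0511

`CData f Q ζ`: `t = f (ζ, 1)`, `C = C_G(t)` has Sylow 2-subgroup `T = f (W × W)`; `f (Q × 1)` and `f (1 × W)` are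
strongly closed in `T` with respect to `C`, and the `C`-fusion in `f (1 × W)` generates `W`.
-/

set_option autoImplicit false

namespace Cfsg.Agent.TypeLFive.CentData

open Subgroup

/-- The data produced by steps (1)-(3). -/
structure CData {G W : Type*} [Group G] [Group W] (f : W × W →* G) (Q : Subgroup W) (ζ : W) : Prop where
  inj : Function.Injective f
  finW : Finite W
  twoW : IsPGroup 2 W
  ζ_Q : ζ ∈ Q
  ζ_center : ∀ x, ζ * x = x * ζ
  /-- `T` is a maximal 2-subgroup of `C_G(t)`. -/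
  sylow_t : ∀ R : Subgroup G, IsPGroup 2 R → f.range ≤ R →
    (∀ r ∈ R, r * f (ζ, 1) = f (ζ, 1) * r) → R = f.range
  clQ : ∀ c : G, c * f (ζ, 1) = f (ζ, 1) * c → ∀ x ∈ Q, ∀ y₁ y₂ : W, c * f (x, 1) * c⁻¹ = f (y₁, y₂) →
    y₁ ∈ Q ∧ y₂ = 1
  clW : ∀ c : G, c * f (ζ, 1) = f (ζ, 1) * c → ∀ x y₁ y₂ : W, c * f (1, x) * c⁻¹ = f (y₁, y₂) → y₁ = 1
  gen : ∀ H : Subgroup W, (∀ c : G, c * f (ζ, 1) = f (ζ, 1) * c → ∀ x y : W, c * f (1, x) * c⁻¹ = f (1, y) →
    x⁻¹ * y ∈ H) → H = ⊤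
  centQ : ∃ c : W, ∀ x : W, (∀ q ∈ Q, x * q = q * x) → x ∈ zpowers c
  quoQ : ∃ v : W, ∀ x : W, ∃ i : ℤ, v ^ i * x ∈ Q
  aut : IsPGroup 2 (MulAut W)
  type : Cfsg.IsQuasiDihedral W ∨ Cfsg.IsWreathed W

end Cfsg.Agent.TypeLFive.CentData
end

-- part: TypeLFive/CentWRFacts
section
/-!
# Facts on the wreathed group `W` needed for `CData` (S0511, piece (C), wreathed half)

`QWR hc` is the generalised quaternion maximal subgroup `{u a (-a)} ∪ {u a b * s : a + b = 2 ^ (n - 1)}`;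
`centQ`, `quoQ`, `aut` are statements on `W` only; `gen` uses `FusWRN`.
-/

set_option autoImplicit false

namespace Cfsg.Agent.TypeLFive.CentWR

open Cfsg.Agent.TypeLFive.Model Cfsg.Agent.TypeLFive.Out Cfsg.Agent.TypeLFive.CentLin
open Cfsg.Agent.TwoFusion.QDBasic Cfsg.Agent.TwoFusion.WreathedBasic
open Cfsg.Agent.TwoFusion.WreathedOddAut Cfsg.Agent.TwoFusion.WreathedAdapted
open Subgroup (zpowers)

variable {G W : Type*} [Group G] [Group W] {n : ℕ} {S : Subgroup G} {f : W × W →* G} {w : G}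
  {u : ZMod (2 ^ n) → ZMod (2 ^ n) → W} {s : W}

/-- a version of the determinant as a function -/
noncomputable def DW (hc : IsWCoord n u s) : W → ZMod (2 ^ n) := Classical.choose (exists_det hc)

theorem DW_u (hc : IsWCoord n u s) (a b : ZMod (2 ^ n)) : DW hc (u a b) = a + b :=
  (Classical.choose_spec (exists_det hc)).1 a b

theorem DW_us (hc : IsWCoord n u s) (a b : ZMod (2 ^ n)) : DW hc (u a b * s) = a + b + 2 ^ (n - 1) :=
  (Classical.choose_spec (exists_det hc)).2.1 a b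

theorem DW_mul (hc : IsWCoord n u s) (x y : W) : DW hc (x * y) = DW hc x + DW hc y :=
  (Classical.choose_spec (exists_det hc)).2.2 x y

theorem DW_one (hc : IsWCoord n u s) : DW hc 1 = 0 := by
  have := DW_mul hc 1 1
  rw [mul_one] at this
  exact (left_eq_add.1 this)

theorem DW_inv (hc : IsWCoord n u s) (x : W) : DW hc x⁻¹ = - DW hc x := by
  have := DW_mul hc x⁻¹ x
  rw [inv_mul_cancel, DW_one] at this
  linear_combination -this

/-- The generalised quaternion maximal subgroup of `W`. -/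
noncomputable def QWR (hc : IsWCoord n u s) : Subgroup W where
  carrier := {x | DW hc x = 0}
  mul_mem' := by
    intro x y hx hy
    change DW hc (x * y) = 0
    rw [DW_mul]
    change DW hc x = 0 at hx
    change DW hc y = 0 at hy
    rw [hx, hy, add_zero]
  one_mem' := DW_one hc
  inv_mem' := by
    intro x hx
    change DW hc x⁻¹ = 0
    rw [DW_inv]
    change DW hc x = 0 at hx
    rw [hx, neg_zero]

theorem mem_QWR_iff (hc : IsWCoord n u s) (x : W) : x ∈ QWR hc ↔ DW hc x = 0 := Iff.rfl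

theorem u_mem_QWR_iff (hc : IsWCoord n u s) (a b : ZMod (2 ^ n)) : u a b ∈ QWR hc ↔ a + b = 0 := by
  rw [mem_QWR_iff, DW_u]

theorem us_mem_QWR_iff (hc : IsWCoord n u s) (a b : ZMod (2 ^ n)) :
    u a b * s ∈ QWR hc ↔ a + b = 2 ^ (n - 1) := by
  have hh : (2 : ZMod (2 ^ n)) ^ (n - 1) + 2 ^ (n - 1) = 0 := by rw [← two_mul, two_mul_half n hc.one_le]
  rw [mem_QWR_iff, DW_us]
  constructor
  · intro h
    linear_combination h - hh
  · intro h
    linear_combination h + hh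

theorem u_neg_mem_QWR (hc : IsWCoord n u s) (a : ZMod (2 ^ n)) : u a (-a) ∈ QWR hc :=
  (u_mem_QWR_iff hc _ _).2 (add_neg_cancel a)

/-- `C_W(Q) ≤ Z(W)`, in coordinates. -/
theorem cent_QWR (hc : IsWCoord n u s) {x : W} (hx : ∀ q ∈ QWR hc, x * q = q * x) : ∃ a, x = u a a := by
  rcases hc.cases x with ⟨a, b, rfl⟩ | ⟨a, b, rfl⟩
  · have h1 := hx (u (2 ^ (n - 1)) 0 * s) ((us_mem_QWR_iff hc _ _).2 (add_zero _))
    rw [hc.u_mul_uz, hc.uz_mul_u] at h1
    have h2 := (hc.u_inj _ _ _ _ (mul_right_cancel h1)).2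
    have h3 : a = b := by linear_combination -h2
    exact ⟨a, by rw [← h3]⟩
  · exfalso
    have h1 := hx (u 1 (-1)) (u_neg_mem_QWR hc 1)
    rw [hc.uz_mul_u, hc.u_mul_uz] at h1
    have h2 := (hc.u_inj _ _ _ _ (mul_right_cancel h1)).1
    have h3 : (2 : ZMod (2 ^ n)) * 1 = 0 := by linear_combination -h2
    rcases (two_mul_eq_zero_iff n hc.one_le 1).1 h3 with h4 | h4
    · exact two_mul_ne_two_mul_add_one n hc.one_le 0 0 (by linear_combination -h4)
    · obtain ⟨m, hm⟩ : ∃ m, n - 1 = m + 1 := ⟨n - 2, by have := hc.two_le; omega⟩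
      rw [hm, pow_succ'] at h4
      exact two_mul_ne_two_mul_add_one n hc.one_le (2 ^ m) 0 (by linear_combination -h4)

theorem u_diag_mem_zpowers (hc : IsWCoord n u s) (a : ZMod (2 ^ n)) : u a a ∈ zpowers (u 1 1) := by
  have h1 : ∀ k : ℕ, u 1 1 ^ k = u (k : ZMod (2 ^ n)) (k : ZMod (2 ^ n)) := by
    intro k
    induction k with
    | zero => rw [pow_zero, Nat.cast_zero, hc.u_zero]
    | succ k ih => rw [pow_succ, ih, hc.u_mul, Nat.cast_succ]
  have h2 := h1 a.val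
  rw [ZMod.natCast_zmod_val] at h2
  rw [← h2]
  exact Subgroup.npow_mem_zpowers _ _

/-- field `centQ` of `CData` -/
theorem centQ (hc : IsWCoord n u s) : ∃ c : W, ∀ x : W, (∀ q ∈ QWR hc, x * q = q * x) → x ∈ zpowers c := by
  refine ⟨u 1 1, fun x hx => ?_⟩
  obtain ⟨a, rfl⟩ := cent_QWR hc hx
  exact u_diag_mem_zpowers hc a

/-- field `quoQ` of `CData` -/
theorem quoQ (hc : IsWCoord n u s) : ∃ v : W, ∀ x : W, ∃ i : ℤ, v ^ i * x ∈ QWR hc := by
  have h1 : ∀ k : ℕ, DW hc (u 1 0 ^ k) = k := by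
    intro k
    induction k with
    | zero => rw [pow_zero, Nat.cast_zero, DW_one]
    | succ k ih => rw [pow_succ, DW_mul, ih, DW_u, Nat.cast_succ, add_zero]
  refine ⟨u 1 0, fun x => ⟨((-(DW hc x)).val : ℤ), ?_⟩⟩
  rw [mem_QWR_iff, DW_mul, zpow_natCast, h1, ZMod.natCast_zmod_val, neg_add_cancel]

theorem ζ_mem_QWR (hc : IsWCoord n u s) : u (2 ^ (n - 1)) (2 ^ (n - 1)) ∈ QWR hc := by
  have hh : (2 : ZMod (2 ^ n)) ^ (n - 1) + 2 ^ (n - 1) = 0 := by rw [← two_mul, two_mul_half n hc.one_le]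
  rw [u_mem_QWR_iff, hh]

theorem u_diag_center (hc : IsWCoord n u s) (a : ZMod (2 ^ n)) (x : W) : u a a * x = x * u a a := by
  rcases hc.cases x with ⟨c, d, rfl⟩ | ⟨c, d, rfl⟩
  · exact hc.u_comm _ _ _ _
  · rw [hc.u_mul_uz, hc.uz_mul_u, add_comm c, add_comm d]

theorem twoW (hc : IsWCoord n u s) : IsPGroup 2 W := IsPGroup.of_card hc.card

/-- field `aut` of `CData` -/
theorem aut (hc : IsWCoord n u s) : IsPGroup 2 (MulAut W) := by
  have hfin := hc.finite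
  by_contra hA
  have hA' : ¬ IsPGroup 2 (MulAut (⊤ : Subgroup W)) := by
    intro h
    exact hA (h.of_equiv (MulAut.congr Subgroup.topEquiv))
  rcases eq_base_or_eq_vSub hc ⊤ le_top hA' with h1 | ⟨-, c, h1⟩
  · have := hc.index_base
    rw [← h1, Subgroup.index_top] at this
    omega
  · have := relIndex_vSub (change_z hc c)
    rw [← h1] at this
    have h2 : Subgroup.normalizer ((⊤ : Subgroup W) : Set W) = ⊤ := by
      rw [eq_top_iff]
      exact Subgroup.le_normalizer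
    rw [h2, Subgroup.relIndex_self] at this
    omega

/-- field `gen` of `CData` -/
theorem gen [Finite G] (h : FusWRN S f w u s) (H : Subgroup W)
    (hH : ∀ c : G, c * f (u (2 ^ (n - 1)) (2 ^ (n - 1)), 1) = f (u (2 ^ (n - 1)) (2 ^ (n - 1)), 1) * c →
      ∀ x y : W, c * f (1, x) * c⁻¹ = f (1, y) → x⁻¹ * y ∈ H) : H = ⊤ := by
  have hc := h.fus.coord
  have hwr := h.fus.out.wr
  obtain ⟨g, α, hα, hcyc, h1, h2⟩ := h.cyc
  -- `g` commutes with `t`
  have ht : g * f (u (2 ^ (n - 1)) (2 ^ (n - 1)), 1) = f (u (2 ^ (n - 1)) (2 ^ (n - 1)), 1) * g := by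
    have h3 := hα ((2 ^ (n - 1), 2 ^ (n - 1)), (0, 0))
    rw [hcyc.t] at h3
    have h4 : Fv f u ((2 ^ (n - 1), 2 ^ (n - 1)), (0, 0)) = f (u (2 ^ (n - 1)) (2 ^ (n - 1)), 1) := by
      unfold Fv
      rw [hc.u_zero]
    rw [h4] at h3
    exact mul_inv_eq_iff_eq_mul.1 h3
  -- the base
  have hbase : ∀ a b, u a b ∈ H := by
    intro a b
    -- `3` is a unit
    obtain ⟨k, hk⟩ : ∃ k : ZMod (2 ^ n), 3 * k = 1 := by
      have h3 : IsUnit (2 * 1 + 1 : ZMod (2 ^ n)) := isUnit_odd n 1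
      obtain ⟨k, hk⟩ := h3.exists_right_inv
      exact ⟨k, by linear_combination hk⟩
    -- on `[A, σ]` we have `1 + α + α² = 0`
    obtain ⟨v, hv⟩ := h2 a b
    -- `y := (α - 1) (-k α² v')`
    set x : V n := ((0, 0), (a, b)) with hx
    have e1 : x + α x + α (α x) = 0 := by
      rw [← hv, map_sub, map_sub, hcyc.cube]
      abel
    set z : V n := (-k) • α (α x) with hz
    have hx1 : x.1 = 0 := rfl
    have hz1 : z.1 = 0 := by
      have h5 : (α (α x)).1 = 0 := by rw [h1, h1]; rfl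
      have h6 : z.1 = (-k) • (α (α x)).1 := rfl
      rw [h6, h5, smul_zero]
    -- `x = (α - 1) ((α - 1) z)`
    have e2 : α (α z - z) - (α z - z) = x := by
      have e3 : α z = (-k) • x := by rw [hz, map_smul, hcyc.cube]
      have e4 : α (α z) = (-k) • α x := by rw [e3, map_smul]
      rw [map_sub, e4, e3, hz]
      have e5 : α (α x) = - (x + α x) := by
        rw [eq_neg_iff_add_eq_zero, add_comm]; exact e1
      rw [e5]
      have e6 : ((3 : ZMod (2 ^ n)) * k) • x = x := by rw [hk, one_smul]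
      calc (-k) • α x - (-k) • x - ((-k) • x - (-k) • -(x + α x))
          = ((3 : ZMod (2 ^ n)) * k) • x := by
            module
        _ = x := e6
    set y : V n := α z - z with hy
    have hy1 : y.1 = 0 := by
      have : y.1 = (α z).1 - z.1 := rfl
      rw [this, h1, sub_self]
    -- now `g f(1, u y.2) g⁻¹ = f (1, u (α y).2)`
    have h3 := hα y
    have h4 : ∀ v : V n, v.1 = 0 → Fv f u v = f (1, u v.2.1 v.2.2) := by
      intro v hv
      unfold Fv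
      rw [hv]
      change f (u 0 0, _) = _
      rw [hc.u_zero]
    rw [h4 y hy1, h4 (α y) (by rw [h1, hy1])] at h3
    have h5 := hH g ht _ _ h3
    rw [hc.u_inv, hc.u_mul] at h5
    have h6 : -y.2.1 + (α y).2.1 = a := by
      have := congrArg (fun v : V n => v.2.1) e2
      change (α y).2.1 - y.2.1 = a at this
      linear_combination this
    have h7 : -y.2.2 + (α y).2.2 = b := by
      have := congrArg (fun v : V n => v.2.2) e2
      change (α y).2.2 - y.2.2 = b at this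
      linear_combination this
    rwa [h6, h7] at h5
  -- `ρ₂`
  obtain ⟨ρ, hρ⟩ := h.fus.rho
  have hs : s ∈ H := by
    have h3 := hH (w * ρ * w⁻¹) ?_ (u (-(2 ^ (n - 2))) (2 ^ (n - 2))) (u (2 ^ (n - 2)) (2 ^ (n - 2)) * s) ?_
    · rw [hc.u_inv, ← mul_assoc, hc.u_mul] at h3
      exact (H.mul_mem_cancel_left (hbase _ _)).1 h3
    · -- commutes with `t`
      have h4 := hρ.comm 0 (u (2 ^ (n - 1)) (2 ^ (n - 1)))
      rw [hc.u_zero] at h4
      have h5 := hwr.w_conj (u (2 ^ (n - 1)) (2 ^ (n - 1))) 1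
      have h6 := hwr.w_conj 1 (u (2 ^ (n - 1)) (2 ^ (n - 1)))
      rw [← h6]
      calc w * ρ * w⁻¹ * (w * f (1, u (2 ^ (n - 1)) (2 ^ (n - 1))) * w⁻¹)
          = w * (ρ * f (1, u (2 ^ (n - 1)) (2 ^ (n - 1)))) * w⁻¹ := by group
        _ = w * (f (1, u (2 ^ (n - 1)) (2 ^ (n - 1))) * ρ) * w⁻¹ := by rw [h4]
        _ = _ := by group
    · have h4 := hρ.i_j
      rw [← hwr.w_conj (u (-(2 ^ (n - 2))) (2 ^ (n - 2))) 1, ← hwr.w_conj (u (2 ^ (n - 2)) (2 ^ (n - 2)) * s) 1,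
        ← h4]
      group
  rw [eq_top_iff]
  intro x _
  rcases hc.cases x with ⟨a, b, rfl⟩ | ⟨a, b, rfl⟩
  · exact hbase a b
  · exact H.mul_mem (hbase a b) hs

open Cfsg.Agent.TypeLFive.CentData in
/-- `FusWRN ⇒ CData` from the two closure statements (steps (W2), (W3)). -/
theorem cdata [Finite G] (h : FusWRN S f w u s)
    (clQ : ∀ c : G, c * f (u (2 ^ (n - 1)) (2 ^ (n - 1)), 1) = f (u (2 ^ (n - 1)) (2 ^ (n - 1)), 1) * c →
      ∀ x ∈ QWR h.fus.coord, ∀ y₁ y₂ : W, c * f (x, 1) * c⁻¹ = f (y₁, y₂) → y₁ ∈ QWR h.fus.coord ∧ y₂ = 1)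
    (clW : ∀ c : G, c * f (u (2 ^ (n - 1)) (2 ^ (n - 1)), 1) = f (u (2 ^ (n - 1)) (2 ^ (n - 1)), 1) * c →
      ∀ x y₁ y₂ : W, c * f (1, x) * c⁻¹ = f (y₁, y₂) → y₁ = 1) :
    CData f (QWR h.fus.coord) (u (2 ^ (n - 1)) (2 ^ (n - 1))) where
  inj := h.fus.out.wr.inj
  finW := h.fus.coord.finite
  twoW := twoW h.fus.coord
  ζ_Q := ζ_mem_QWR _
  ζ_center := u_diag_center h.fus.coord _
  sylow_t := h.fus.out.sylow_t
  clQ := clQ
  clW := clW
  gen := gen h
  centQ := centQ h.fus.coord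
  quoQ := quoQ h.fus.coord
  aut := aut h.fus.coord
  type := Or.inr h.fus.coord.isWreathed

end Cfsg.Agent.TypeLFive.CentWR
end

private theorem dce_38508aeca813 : _root_.True := by
  try have : _root_.True := by simp only [_root_.Cfsg.Agent.TypeLFive.CentLin.sw2.eq_1]
  try have : _root_.True := by simp only [_root_.Cfsg.Agent.TypeLFive.CentWR.Fv.eq_1]
  try have : _root_.True := by simp only [_root_.Cfsg.Agent.TypeLFive.Out.zv.eq_1]
  try have : _root_.True := by simp only [_root_.Cfsg.Agent.TypeLFive.CentWR.zV.eq_1]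
  try have : _root_.True := by simp only [_root_.Cfsg.Agent.TypeLFive.CentLin.sw1.eq_1]
  exact _root_.True.intro
end

-- part: TypeLFive/CentWRData
section
prune_inst 0x420300010402220000018001600001c46d60000020068000058400f02068e9f4060030921fca01d101012204400380048131000500200000000000400011c00808080400092480104240007801007180c00000000000000000000000000041000000000000
set_option linter.all false
open scoped Cfsg.Agent.FastGrp

-- part: TypeLFive/CentGen
section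
/-!
# Generalities on 2-subgroups used in the wreathed half of (C), S0511
-/

set_option autoImplicit false

namespace Cfsg.Agent.TypeLFive.CentGen

open Subgroup

variable {G : Type*} [Group G] [Finite G]

/-- Two 2-subgroups of `H`: the second has an `H`-conjugate generating a 2-group with the first. -/
theorem exists_conj_into (H A B : Subgroup G) (hA : A ≤ H) (hB : B ≤ H) (pA : IsPGroup 2 A) (pB : IsPGroup 2 B) :
    ∃ (R : Subgroup G) (k : G), k ∈ H ∧ IsPGroup 2 R ∧ R ≤ H ∧ A ≤ R ∧ ∀ b ∈ B, k * b * k⁻¹ ∈ R := by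
  have : Fact (Nat.Prime 2) := ⟨Nat.prime_two⟩
  have pA' : IsPGroup 2 (A.subgroupOf H) := pA.comap_subtype
  have pB' : IsPGroup 2 (B.subgroupOf H) := pB.comap_subtype
  obtain ⟨Q, hQ⟩ := pA'.exists_le_sylow
  obtain ⟨Q', hQ'⟩ := pB'.exists_le_sylow
  obtain ⟨k, hk⟩ := MulAction.exists_smul_eq ↥H Q' Q
  refine ⟨(Q : Subgroup ↥H).map H.subtype, k, k.2, Q.isPGroup'.map _, map_subtype_le _, ?_, ?_⟩
  · intro a ha
    exact ⟨⟨a, hA ha⟩, hQ (mem_subgroupOf.2 ha), rfl⟩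
  · intro b hb
    refine ⟨k * ⟨b, hB hb⟩ * k⁻¹, ?_, rfl⟩
    rw [← hk]
    show k * ⟨b, hB hb⟩ * k⁻¹ ∈ ((k • Q' : Sylow 2 ↥H) : Subgroup ↥H)
    rw [Sylow.coe_subgroup_smul]
    exact ⟨⟨b, hB hb⟩, hQ' (mem_subgroupOf.2 hb), rfl⟩

/-- Every 2-subgroup has a conjugate in a Sylow 2-subgroup. -/
theorem exists_conj_sylow (P : Sylow 2 G) (R : Subgroup G) (hR : IsPGroup 2 R) :
    ∃ m : G, ∀ r ∈ R, m * r * m⁻¹ ∈ (P : Subgroup G) := by
  have : Fact (Nat.Prime 2) := ⟨Nat.prime_two⟩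
  obtain ⟨Q, hQ⟩ := hR.exists_le_sylow
  obtain ⟨k, hk⟩ := MulAction.exists_smul_eq G Q P
  refine ⟨k, fun r hr => ?_⟩
  rw [← hk]
  show k * r * k⁻¹ ∈ ((k • Q : Sylow 2 G) : Subgroup G)
  rw [Sylow.coe_subgroup_smul]
  exact ⟨r, hQ hr, rfl⟩

/-- If `T` is a maximal 2-subgroup of `C` and `L ≤ C` is normalised by `T` then `T ∩ L` has odd index in `L`. -/
theorem odd_relIndex (C T L : Subgroup G) (hT : T ≤ C) (hL : L ≤ C) (pT : IsPGroup 2 T)
    (hmax : ∀ R : Subgroup G, IsPGroup 2 R → T ≤ R → R ≤ C → R = T)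
    (hn : ∀ t ∈ T, ∀ l ∈ L, t * l * t⁻¹ ∈ L) : ¬ 2 ∣ T.relIndex L := by
  have : Fact (Nat.Prime 2) := ⟨Nat.prime_two⟩
  set M := T ⊔ L with hM
  have hMC : M ≤ C := sup_le hT hL
  have hTM : T ≤ M := le_sup_left
  have hLM : L ≤ M := le_sup_right
  let P : Sylow 2 ↥M :=
    { toSubgroup := T.subgroupOf M
      isPGroup' := pT.comap_subtype
      is_maximal' := by
        intro Q hQ hle
        have h1 : Q.map M.subtype = T := by
          refine hmax _ (hQ.map _) ?_ ((map_subtype_le _).trans hMC)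
          intro t ht
          exact ⟨⟨t, hTM ht⟩, hle (mem_subgroupOf.2 ht), rfl⟩
        rw [← h1]
        ext x
        rw [mem_subgroupOf]
        constructor
        · intro hx; exact ⟨x, hx, rfl⟩
        · rintro ⟨y, hy, hyx⟩
          rwa [← Subtype.ext hyx] }
  have hLn : (L.subgroupOf M).Normal := by
    have h1 : M ≤ normalizer (L : Set G) := by
      refine sup_le ?_ le_normalizer
      intro t ht
      rw [mem_normalizer_iff]
      intro l
      constructor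
      · exact fun hl => hn t ht l hl
      · intro hl
        have := hn t⁻¹ (inv_mem ht) _ hl
        have e : t⁻¹ * (t * l * t⁻¹) * t⁻¹⁻¹ = l := by group
        rwa [e] at this
    exact (normal_subgroupOf_iff_le_normalizer hLM).2 h1
  have h2 := Cfsg.Agent.S0542.relIndex_dvd_index_of_normal_right (T.subgroupOf M) (L.subgroupOf M)
  rw [relIndex_subgroupOf hLM] at h2
  intro h3
  exact P.not_dvd_index (h3.trans h2)

/-- The transfer trick: `P0 ≤ L` of odd index, `π : P0 → M` a hom to a commutative group; `z ∈ P0` central in `L`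
of 2-power order with `π z ≠ 1`.  Then no `g ∈ L` sends `x` to `z x`. -/
theorem no_central_mul (L P0 : Subgroup G) (hP : P0 ≤ L) (hodd : ¬ 2 ∣ P0.relIndex L) {M : Type*} [CommGroup M]
    (π : ↥P0 →* M) (z : G) (hz : z ∈ P0) (hzc : ∀ l ∈ L, l * z = z * l) (k : ℕ) (hz2 : z ^ 2 ^ k = 1)
    (hπ : π ⟨z, hz⟩ ≠ 1) (g x : G) (hg : g ∈ L) (hx : x ∈ L) : g * x * g⁻¹ ≠ z * x := by
  intro he
  let P1 : Subgroup ↥L := P0.subgroupOf L
  let e : ↥P1 →* ↥P0 :=
    { toFun := fun p => ⟨((p : ↥L) : G), mem_subgroupOf.1 p.2⟩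
      map_one' := rfl
      map_mul' := fun _ _ => rfl }
  let φ : ↥P1 →* M := π.comp e
  have : P1.FiniteIndex := inferInstance
  let ψ : ↥L →* M := MonoidHom.transfer φ
  have hzL : z ∈ L := hP hz
  have hzP1 : (⟨z, hzL⟩ : ↥L) ^ P1.index ∈ P1 := pow_mem (mem_subgroupOf.2 hz) _
  have hcen : ∀ l : ↥L, l⁻¹ * (⟨z, hzL⟩ : ↥L) * l = ⟨z, hzL⟩ := by
    intro l
    apply Subtype.ext
    push_cast
    rw [mul_assoc, ← hzc l l.2, inv_mul_cancel_left]
  have h1 : ψ ⟨z, hzL⟩ = φ ⟨(⟨z, hzL⟩ : ↥L) ^ P1.index, hzP1⟩ := by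
    refine MonoidHom.transfer_eq_pow φ ⟨z, hzL⟩ ?_
    intro k g₀ _
    have := hcen g₀
    calc g₀⁻¹ * (⟨z, hzL⟩ : ↥L) ^ k * g₀ = (g₀⁻¹ * (⟨z, hzL⟩ : ↥L) * g₀) ^ k := by
          have := conj_pow (a := g₀⁻¹) (b := (⟨z, hzL⟩ : ↥L)) (i := k)
          rw [inv_inv] at this
          exact this.symm
      _ = _ := by rw [this]
  have h2 : ψ ⟨z, hzL⟩ = (π ⟨z, hz⟩) ^ P1.index := by
    rw [h1, ← map_pow]
    rfl
  have h3 : ψ ⟨z, hzL⟩ = 1 := by
    have h4 : (⟨g, hg⟩ : ↥L) * ⟨x, hx⟩ * ⟨g, hg⟩⁻¹ = ⟨z, hzL⟩ * ⟨x, hx⟩ := Subtype.ext he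
    have h5 := congrArg ψ h4
    rw [map_mul, map_mul, map_inv, map_mul, mul_comm (ψ ⟨g, hg⟩), mul_inv_cancel_right] at h5
    exact (right_eq_mul.1 h5)
  rw [h3] at h2
  have h6 : (π ⟨z, hz⟩) ^ 2 ^ k = 1 := by
    rw [← map_pow]
    have : (⟨z, hz⟩ : ↥P0) ^ 2 ^ k = 1 := Subtype.ext hz2
    rw [this, map_one]
  have h7 : ¬ 2 ∣ P1.index := hodd
  have h8 := Nat.dvd_gcd (orderOf_dvd_of_pow_eq_one h2.symm) (orderOf_dvd_of_pow_eq_one h6)
  have h9 : Nat.Coprime P1.index (2 ^ k) := by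
    apply Nat.Coprime.pow_right
    rw [Nat.coprime_comm]
    exact (Nat.Prime.coprime_iff_not_dvd Nat.prime_two).2 h7
  rw [h9.gcd_eq_one, Nat.dvd_one] at h8
  exact hπ (orderOf_eq_one_iff.1 h8)

end Cfsg.Agent.TypeLFive.CentGen
end

-- part: TypeLFive/CentWRFus
section
/-!
# Fusion in `C_G(t)`: wreathed half of (C), S0511: steps (W2) and (W3)(i)
-/

set_option autoImplicit false

namespace Cfsg.Agent.TypeLFive.CentWR

open Cfsg.Agent.TypeLFive.Model Cfsg.Agent.TypeLFive.Out Cfsg.Agent.TypeLFive.CentLin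
open Cfsg.Agent.TwoFusion.QDBasic Cfsg.Agent.TwoFusion.WreathedBasic

/-- points -/
def P1 : Fin 5 → Fin 5 := ![1, 0, 2, 3, 4]
/-- points -/
def P2 : Fin 5 → Fin 5 := ![0, 1, 3, 2, 4]
/-- points -/
def P3 : Fin 5 → Fin 5 := ![0, 1, 3, 4, 2]

theorem exists_word_aux : ∀ p q r : Fin 5, p ≠ 0 → p ≠ 1 → q ≠ 0 → q ≠ 1 → r ≠ 0 → r ≠ 1 → p ≠ q → p ≠ r →
    q ≠ r → ∃ e : Fin 2, ∃ l : Fin 3, P2^[(e : ℕ)] (P3^[(l : ℕ)] 2) = p ∧ P2^[(e : ℕ)] (P3^[(l : ℕ)] 3) = q ∧
      P2^[(e : ℕ)] (P3^[(l : ℕ)] 4) = r := by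
  decide +kernel

theorem exists_word (π : Fin 5 → Fin 5) (hπ : Function.Injective π)
    (h : (π 0 = 0 ∧ π 1 = 1) ∨ (π 0 = 1 ∧ π 1 = 0)) :
    ∃ d e : Fin 2, ∃ l : Fin 3, ∀ i, π i = P1^[(d : ℕ)] (P2^[(e : ℕ)] (P3^[(l : ℕ)] i)) := by
  have h01 : ∀ i, i ≠ 0 → i ≠ 1 → π i ≠ 0 ∧ π i ≠ 1 := by
    intro i h0 h1
    constructor
    · intro e
      rcases h with h | h
      · exact h0 (hπ (e.trans h.1.symm))
      · exact h1 (hπ (e.trans h.2.symm))
    · intro e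
      rcases h with h | h
      · exact h1 (hπ (e.trans h.2.symm))
      · exact h0 (hπ (e.trans h.1.symm))
  have h2 := h01 2 (by decide) (by decide)
  have h3 := h01 3 (by decide) (by decide)
  have h4 := h01 4 (by decide) (by decide)
  obtain ⟨e, l, w2, w3, w4⟩ := exists_word_aux (π 2) (π 3) (π 4) h2.1 h2.2 h3.1 h3.2 h4.1 h4.2
    (fun e => absurd (hπ e) (by decide)) (fun e => absurd (hπ e) (by decide)) (fun e => absurd (hπ e) (by decide))
  have f0' : ∀ (e : Fin 2) (l : Fin 3), P2^[(e : ℕ)] (P3^[(l : ℕ)] 0) = 0 := by decide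
  have f1' : ∀ (e : Fin 2) (l : Fin 3), P2^[(e : ℕ)] (P3^[(l : ℕ)] 1) = 1 := by decide
  have f0 := f0' e l
  have f1 := f1' e l
  have g : ∀ d : Fin 2, ∀ p : Fin 5, p ≠ 0 → p ≠ 1 → P1^[(d : ℕ)] p = p := by decide
  have five : ∀ i : Fin 5, i = 0 ∨ i = 1 ∨ i = 2 ∨ i = 3 ∨ i = 4 := by decide
  have g0 : ∀ p : Fin 5, P1^[((0 : Fin 2) : ℕ)] p = p := fun _ => rfl
  have g1 : P1^[((1 : Fin 2) : ℕ)] 0 = 1 ∧ P1^[((1 : Fin 2) : ℕ)] 1 = 0 := by decide
  rcases h with ⟨a, b⟩ | ⟨a, b⟩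
  · refine ⟨0, e, l, fun i => ?_⟩
    rw [g0]
    rcases five i with rfl | rfl | rfl | rfl | rfl
    · rw [a, f0]
    · rw [b, f1]
    · rw [w2]
    · rw [w3]
    · rw [w4]
  · refine ⟨1, e, l, fun i => ?_⟩
    rcases five i with rfl | rfl | rfl | rfl | rfl
    · rw [a, f0, g1.1]
    · rw [b, f1, g1.2]
    · rw [w2, g 1 _ h2.1 h2.2]
    · rw [w3, g 1 _ h3.1 h3.2]
    · rw [w4, g 1 _ h4.1 h4.2]

variable {G W : Type*} [Group G] [Group W] {n : ℕ} {S : Subgroup G} {f : W × W →* G} {w : G}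
  {u : ZMod (2 ^ n) → ZMod (2 ^ n) → W} {s : W}

theorem Act.pow {g : G} {φ : V n →ₗ[ZMod (2 ^ n)] V n} (h : Act f u g φ) (k : ℕ) : Act f u (g ^ k) (φ ^ k) := by
  induction k with
  | zero =>
    rw [pow_zero, pow_zero]
    exact Act.one
  | succ k ih =>
    rw [pow_succ, pow_succ]
    exact ih.mul h

theorem zV_inj (hn : 1 ≤ n) : Function.Injective (zV n) := by
  have h1 := half_ne_zero n hn
  have h2 : (0 : ZMod (2 ^ n)) ≠ 2 ^ (n - 1) := fun e => h1 e.symm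
  intro i j
  (revert i j; simp only [zV, h1, h2, _root_.Fin.forall_fin_succ, Fin.isValue, _root_.Matrix.cons_val_zero, _root_.Matrix.cons_val_succ, _root_.Fin.succ_zero_eq_one, _root_.Fin.succ_one_eq_two, Fin.reduceSucc, _root_.Matrix.cons_val_fin_one, _root_.IsEmpty.forall_iff, _root_.and_true, _root_.imp_self, _root_.Prod.mk.injEq, _root_.and_self, _root_.zero_ne_one, Fin.reduceEq, _root_.and_false, _root_.Fin.succ_ne_zero, _root_.imp_false, _root_.not_false_eq_true, _root_.forall_const, _root_.true_and])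

theorem zV_add (hn : 1 ≤ n) (i j : Fin 5) (h : zV n i + zV n j = ((2 ^ (n - 1), 2 ^ (n - 1)), (0, 0))) :
    (i = 0 ∧ j = 1) ∨ (i = 1 ∧ j = 0) := by
  have h1 := half_ne_zero n hn
  have h2 : (0 : ZMod (2 ^ n)) ≠ 2 ^ (n - 1) := fun e => h1 e.symm
  have h3 : (2 : ZMod (2 ^ n)) ^ (n - 1) + 2 ^ (n - 1) = 0 := by rw [← two_mul, two_mul_half n hn]
  revert h
  (revert i j; simp only [zV, h1, h2, h3, _root_.Fin.forall_fin_succ, Fin.isValue, _root_.Matrix.cons_val_zero, _root_.zero_ne_one, _root_.and_false, _root_.and_true, _root_.false_or, _root_.Matrix.cons_val_succ, _root_.Fin.succ_ne_zero, _root_.or_false, _root_.Fin.succ_zero_eq_one, _root_.Fin.succ_one_eq_two, Fin.reduceEq, _root_.imp_false, Fin.reduceSucc, _root_.Matrix.cons_val_fin_one, _root_.IsEmpty.forall_iff, _root_.Prod.mk_add_mk, _root_.add_zero, _root_.Prod.mk.injEq, _root_.and_self, _root_.imp_self, _root_.zero_add, _root_.not_false_eq_true, _root_.implies_true])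

section

variable (h : FusWRN S f w u s)

include h

theorem t_eq : Fv f u ((2 ^ (n - 1), 2 ^ (n - 1)), (0, 0)) = f (u (2 ^ (n - 1)) (2 ^ (n - 1)), 1) := by
  show f (u (2 ^ (n - 1)) (2 ^ (n - 1)), u 0 0) = _
  rw [h.fus.coord.u_zero]

/-- the five vectors are permuted by `N_G(A)`. -/
theorem exists_perm_of_act {g : G} {φ : V n →ₗ[ZMod (2 ^ n)] V n} (hφ : Act f u g φ) (i : Fin 5) :
    ∃ j, φ (zV n i) = zV n j := by
  have hc := h.fus.coord
  have hn := hc.one_le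
  have hwr := h.fus.out.wr
  have hh : (2 : ZMod (2 ^ n)) ^ (n - 1) + 2 ^ (n - 1) = 0 := by rw [← two_mul, two_mul_half n hn]
  have hz2 : zV n i + zV n i = 0 := by
    fin_cases i <;> simp [zV, hh]
  have hz0 : zV n i ≠ 0 := by
    have h1 := half_ne_zero n hn
    fin_cases i <;> simp [zV, h1]
  set v := φ (zV n i) with hv
  have hv2 : v + v = 0 := by rw [hv, ← map_add, hz2, map_zero]
  have hv0 : v ≠ 0 := by
    intro e
    apply hz0
    apply Fv_inj hc hwr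
    have h1 := hφ (zV n i)
    rw [← hv, e, Fv_zero hc] at h1
    rw [Fv_zero hc]
    exact (conj_eq_one_iff).1 h1
  -- `f (zv i)` is conjugate to `z`
  have hcz : IsConj (f (u (2 ^ (n - 1)) (2 ^ (n - 1)), u (2 ^ (n - 1)) (2 ^ (n - 1)))) (Fv f u v) := by
    obtain ⟨a, ha⟩ := h.fus.out.perm (Equiv.swap 4 i)
    have h1 := ha 4
    rw [Equiv.swap_apply_left] at h1
    rw [isConj_iff]
    refine ⟨g * a, ?_⟩
    rw [← hφ, ← f_zv hc, ← h1]
    show g * a * f (u (2 ^ (n - 1)) (2 ^ (n - 1)), u (2 ^ (n - 1)) (2 ^ (n - 1))) * (g * a)⁻¹ =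
      g * (a * f (u (2 ^ (n - 1)) (2 ^ (n - 1)), u (2 ^ (n - 1)) (2 ^ (n - 1))) * a⁻¹) * g⁻¹
    group
  have hx : u v.1.1 v.1.2 * u v.1.1 v.1.2 = 1 := by
    rw [hc.u_mul, hc.u_eq_one_iff]
    exact ⟨congrArg (fun w : V n => w.1.1) hv2, congrArg (fun w : V n => w.1.2) hv2⟩
  have hy : u v.2.1 v.2.2 * u v.2.1 v.2.2 = 1 := by
    rw [hc.u_mul, hc.u_eq_one_iff]
    exact ⟨congrArg (fun w : V n => w.2.1) hv2, congrArg (fun w : V n => w.2.2) hv2⟩
  have hne : ¬ (u v.1.1 v.1.2 = 1 ∧ u v.2.1 v.2.2 = 1) := by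
    rintro ⟨h1, h2⟩
    apply hv0
    rw [hc.u_eq_one_iff] at h1 h2
    exact Prod.ext (Prod.ext h1.1 h1.2) (Prod.ext h2.1 h2.2)
  have key : u v.1.1 v.1.2 ≠ 1 ∧ u v.2.1 v.2.2 ≠ 1 ∧
      (u v.1.1 v.1.2 = u (2 ^ (n - 1)) (2 ^ (n - 1)) ∨ u v.2.1 v.2.2 = u (2 ^ (n - 1)) (2 ^ (n - 1))) := by
    by_contra hcon
    have h1 := h.fus.out.conj_t _ _ hx hy hne hcon
    exact h.fus.out.not_conj (h1.trans hcz.symm)
  obtain ⟨k1, k2, k3⟩ := key
  have hcoord : ∀ a : ZMod (2 ^ n), a + a = 0 → a = 0 ∨ a = 2 ^ (n - 1) := by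
    intro a ha
    rw [← two_mul] at ha
    exact (two_mul_eq_zero_iff n hn a).1 ha
  have a1 := hcoord _ (congrArg (fun w : V n => w.1.1) hv2)
  have a2 := hcoord _ (congrArg (fun w : V n => w.1.2) hv2)
  have a3 := hcoord _ (congrArg (fun w : V n => w.2.1) hv2)
  have a4 := hcoord _ (congrArg (fun w : V n => w.2.2) hv2)
  rw [ne_eq, hc.u_eq_one_iff] at k1 k2
  rw [hc.u_eq_iff, hc.u_eq_iff] at k3
  have e : v = ((v.1.1, v.1.2), (v.2.1, v.2.2)) := rfl
  rcases k3 with ⟨b1, b2⟩ | ⟨b1, b2⟩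
  · rcases a3 with a3 | a3 <;> rcases a4 with a4 | a4
    · exact absurd ⟨a3, a4⟩ k2
    · exact ⟨2, by rw [e, b1, b2, a3, a4]; rfl⟩
    · exact ⟨3, by rw [e, b1, b2, a3, a4]; rfl⟩
    · exact ⟨4, by rw [e, b1, b2, a3, a4]; rfl⟩
  · rcases a1 with a1 | a1 <;> rcases a2 with a2 | a2
    · exact absurd ⟨a1, a2⟩ k1
    · exact ⟨0, by rw [e, b1, b2, a1, a2]; rfl⟩
    · exact ⟨1, by rw [e, b1, b2, a1, a2]; rfl⟩
    · exact ⟨4, by rw [e, b1, b2, a1, a2]; rfl⟩

/-- Elements of `N_C(A)`: the word. -/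
theorem word [Finite G] {σ : G} {α : V n →ₗ[ZMod (2 ^ n)] V n} (hα : Act f u σ α) (hcyc : Cyc α) {g : G}
    {φ : V n →ₗ[ZMod (2 ^ n)] V n} (hφ : Act f u g φ)
    (ht : φ ((2 ^ (n - 1), 2 ^ (n - 1)), (0, 0)) = ((2 ^ (n - 1), 2 ^ (n - 1)), (0, 0))) :
    ∃ d e : Fin 2, ∃ l : Fin 3, ∀ v, φ v = sw1^[(d : ℕ)] (sw2^[(e : ℕ)] (α^[(l : ℕ)] v)) := by
  have hc := h.fus.coord
  have hn := hc.one_le
  have hwr := h.fus.out.wr
  have hh : (2 : ZMod (2 ^ n)) ^ (n - 1) + 2 ^ (n - 1) = 0 := by rw [← two_mul, two_mul_half n hn]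
  choose π hπ using exists_perm_of_act h hφ
  have hφi : Function.Injective φ := by
    intro a b e
    apply Fv_inj hc hwr
    have h1 := hφ a
    rw [e, ← hφ b] at h1
    exact mul_left_cancel (mul_right_cancel h1)
  have hπi : Function.Injective π := by
    intro i j e
    apply zV_inj hn
    apply hφi
    rw [hπ, hπ, e]
  have h01 : (π 0 = 0 ∧ π 1 = 1) ∨ (π 0 = 1 ∧ π 1 = 0) := by
    apply zV_add hn
    have e : zV n 0 + zV n 1 = ((2 ^ (n - 1), 2 ^ (n - 1)), (0, 0)) := by simp [zV, hh]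
    rw [← hπ, ← hπ, ← map_add, e, ht]
  obtain ⟨d, e, l, hword⟩ := exists_word π hπi h01
  refine ⟨d, e, l, fun v => ?_⟩
  have hact := (((act_s1 (f := f) hc).pow (d : ℕ)).mul ((act_s2 (f := f) hc).pow (e : ℕ))).mul (hα.pow (l : ℕ))
  have hval : ∀ v, (((sw1L n ^ (d : ℕ)).comp (sw2L n ^ (e : ℕ))).comp (α ^ (l : ℕ))) v =
      sw1^[(d : ℕ)] (sw2^[(e : ℕ)] (α^[(l : ℕ)] v)) := by
    intro v
    rw [LinearMap.comp_apply, LinearMap.comp_apply, Module.End.pow_apply, Module.End.pow_apply,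
      Module.End.pow_apply]
    rfl
  have z1 : ∀ (k : ℕ) i, sw1^[k] (zV n i) = zV n (P1^[k] i) := by
    intro k
    induction k with
    | zero => intro i; rfl
    | succ k ih =>
      intro i
      rw [Function.iterate_succ_apply, Function.iterate_succ_apply, ← ih]
      congr 1
      fin_cases i <;> rfl
  have z2 : ∀ (k : ℕ) i, sw2^[k] (zV n i) = zV n (P2^[k] i) := by
    intro k
    induction k with
    | zero => intro i; rfl
    | succ k ih =>
      intro i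
      rw [Function.iterate_succ_apply, Function.iterate_succ_apply, ← ih]
      congr 1
      fin_cases i <;> rfl
  have h4 : α (zV n 4) = zV n 2 := by
    have := hcyc.cube (zV n 2)
    have i2 : α (zV n 2) = zV n 3 := hcyc.z2
    have i3 : α (zV n 3) = zV n 4 := hcyc.z3
    rw [i2, i3] at this
    exact this
  have z3 : ∀ (k : ℕ) i, α^[k] (zV n i) = zV n (P3^[k] i) := by
    intro k
    induction k with
    | zero => intro i; rfl
    | succ k ih =>
      intro i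
      rw [Function.iterate_succ_apply, Function.iterate_succ_apply, ← ih]
      congr 1
      fin_cases i
      · exact hcyc.z0
      · exact hcyc.z1
      · exact hcyc.z2
      · exact hcyc.z3
      · exact h4
  rw [← hval]
  refine act_eq h.fus hφ hact ?_ v
  intro i
  rw [hval, z3, z2, z1, hπ, hword]

omit h in
theorem iter2 (k : ℕ) (v : V n) : (sw2^[k] v).1 = v.1 := by
  induction k generalizing v with
  | zero => rfl
  | succ k ih => rw [Function.iterate_succ_apply, ih]; rfl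

/-- (A1) -/
theorem act_fst [Finite G] {g : G} {φ : V n →ₗ[ZMod (2 ^ n)] V n} (hφ : Act f u g φ)
    (ht : φ ((2 ^ (n - 1), 2 ^ (n - 1)), (0, 0)) = ((2 ^ (n - 1), 2 ^ (n - 1)), (0, 0))) :
    (∀ v, (φ v).1 = v.1) ∨ (∀ v, (φ v).1 = (v.1.2, v.1.1)) := by
  obtain ⟨σ, α, hα, hcyc, h1, h2⟩ := h.cyc
  obtain ⟨d, e, l, hword⟩ := word h hα hcyc hφ ht
  have hl : ∀ (k : ℕ) v, (α^[k] v).1 = v.1 := by
    intro k
    induction k with
    | zero => intro v; rfl
    | succ k ih => intro v; rw [Function.iterate_succ_apply, ih, h1]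
  fin_cases d
  · left
    intro v
    rw [hword]
    show (sw2^[(e : ℕ)] (α^[(l : ℕ)] v)).1 = v.1
    rw [iter2, hl]
  · right
    intro v
    rw [hword]
    show (sw1 (sw2^[(e : ℕ)] (α^[(l : ℕ)] v))).1 = (v.1.2, v.1.1)
    have := (iter2 (e : ℕ) (α^[(l : ℕ)] v)).trans (hl l v)
    show ((sw2^[(e : ℕ)] (α^[(l : ℕ)] v)).1.2, (sw2^[(e : ℕ)] (α^[(l : ℕ)] v)).1.1) = (v.1.2, v.1.1)
    rw [this]

/-- (A3) -/
theorem act_anti [Finite G] {g : G} {φ : V n →ₗ[ZMod (2 ^ n)] V n} (hφ : Act f u g φ)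
    (ht : φ ((2 ^ (n - 1), 2 ^ (n - 1)), (0, 0)) = ((2 ^ (n - 1), 2 ^ (n - 1)), (0, 0))) (x : ZMod (2 ^ n)) :
    φ ((x, -x), (0, 0)) = ((x, -x), (0, 0)) ∨ φ ((x, -x), (0, 0)) = ((-x, x), (0, 0)) := by
  obtain ⟨σ, α, hα, hcyc, h1, h2⟩ := h.cyc
  obtain ⟨d, e, l, hword⟩ := word h hα hcyc hφ ht
  have hl : ∀ (k : ℕ), α^[k] ((x, -x), (0, 0)) = ((x, -x), (0, 0)) := by
    intro k
    induction k with
    | zero => rfl
    | succ k ih => rw [Function.iterate_succ_apply, hcyc.anti, ih]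
  have hl2 : ∀ (k : ℕ), sw2^[k] (((x, -x), (0, 0)) : V n) = ((x, -x), (0, 0)) := by
    intro k
    induction k with
    | zero => rfl
    | succ k ih => rw [Function.iterate_succ_apply]; exact ih
  rw [hword, hl, hl2]
  fin_cases d
  · left; rfl
  · right; rfl

/-- (A4) -/
theorem act_diag [Finite G] {g : G} {φ : V n →ₗ[ZMod (2 ^ n)] V n} (hφ : Act f u g φ)
    (ht : φ ((2 ^ (n - 1), 2 ^ (n - 1)), (0, 0)) = ((2 ^ (n - 1), 2 ^ (n - 1)), (0, 0))) {x y : ZMod (2 ^ n)}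
    (hxy : φ ((0, 0), (x, x)) = ((0, 0), (y, y))) : x = y := by
  obtain ⟨σ, α, hα, hcyc, h1, h2⟩ := h.cyc
  obtain ⟨d, e, l, hword⟩ := word h hα hcyc hφ ht
  set v : V n := ((0, 0), (x, x)) with hv
  set v' : V n := ((0, 0), (y, y)) with hv'
  have e1 : ∀ k : ℕ, sw1^[k] v' = v' := by
    intro k
    induction k with
    | zero => rfl
    | succ k ih => rw [Function.iterate_succ_apply]; exact ih
  have e2 : ∀ k : ℕ, sw2^[k] v' = v' := by
    intro k
    induction k with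
    | zero => rfl
    | succ k ih => rw [Function.iterate_succ_apply]; exact ih
  have i1 : Function.Injective (sw1 : V n → V n) := fun a b hab => by
    have := congrArg sw1 hab
    exact this
  have i2 : Function.Injective (sw2 : V n → V n) := fun a b hab => by
    have := congrArg sw2 hab
    exact this
  rw [hword] at hxy
  have h3 : sw2^[(e : ℕ)] (α^[(l : ℕ)] v) = v' := by
    apply i1.iterate (d : ℕ)
    rw [hxy, e1]
  have h4 : α^[(l : ℕ)] v = v' := by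
    apply i2.iterate (e : ℕ)
    rw [h3, e2]
  have s2v : sw2 v = v := rfl
  have s2v' : sw2 v' = v' := rfl
  have hfin : v = v' := by
    fin_cases l
    · exact h4
    · have h5 : α v = v' := h4
      have h6 := hcyc.s2 v
      rw [h5, s2v', s2v] at h6
      have h7 := hcyc.cube v
      rw [h5, h6, h5] at h7
      exact h7.symm
    · have h5 : α (α v) = v' := h4
      have h6 := hcyc.s2 (α v)
      rw [h5, s2v'] at h6
      have h7 := hcyc.cube v
      rw [h5] at h7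
      rw [h7] at h6
      have h8 : α v = v := by
        have := congrArg sw2 h6
        exact this.symm
      rw [h8, h8] at h5
      exact h5
  have := congrArg (fun w : V n => w.2.1) hfin
  exact this

/-- (A5) -/
theorem act_cent [Finite G] {g : G} {φ : V n →ₗ[ZMod (2 ^ n)] V n} (hφ : Act f u g φ)
    (ht : φ ((2 ^ (n - 1), 2 ^ (n - 1)), (0, 0)) = ((2 ^ (n - 1), 2 ^ (n - 1)), (0, 0)))
    (ht' : φ ((0, 0), (2 ^ (n - 1), 2 ^ (n - 1))) = ((0, 0), (2 ^ (n - 1), 2 ^ (n - 1)))) :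
    (∀ a b c, φ ((a, b), (c, c)) = ((a, b), (c, c))) ∨ (∀ a b c, φ ((a, b), (c, c)) = ((b, a), (c, c))) := by
  have hn := h.fus.coord.one_le
  obtain ⟨σ, α, hα, hcyc, h1, h2⟩ := h.cyc
  obtain ⟨d, e, l, hword⟩ := word h hα hcyc hφ ht
  set v' : V n := ((0, 0), (2 ^ (n - 1), 2 ^ (n - 1))) with hv'
  have e1 : ∀ k : ℕ, sw1^[k] v' = v' := by
    intro k
    induction k with
    | zero => rfl
    | succ k ih => rw [Function.iterate_succ_apply]; exact ih
  have e2 : ∀ k : ℕ, sw2^[k] v' = v' := by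
    intro k
    induction k with
    | zero => rfl
    | succ k ih => rw [Function.iterate_succ_apply]; exact ih
  have i1 : Function.Injective (sw1 : V n → V n) := fun a b hab => by
    have := congrArg sw1 hab
    exact this
  have i2 : Function.Injective (sw2 : V n → V n) := fun a b hab => by
    have := congrArg sw2 hab
    exact this
  rw [hword] at ht'
  have h3 : sw2^[(e : ℕ)] (α^[(l : ℕ)] v') = v' := by
    apply i1.iterate (d : ℕ)
    rw [ht', e1]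
  have h4 : α^[(l : ℕ)] v' = v' := by
    apply i2.iterate (e : ℕ)
    rw [h3, e2]
  have ev : v' = ((0, 0), (2 ^ (n - 1), 0)) + ((0, 0), (0, 2 ^ (n - 1))) := by
    rw [hv']; simp
  have hav : α v' = ((0, 0), (0, 2 ^ (n - 1))) := by
    rw [ev, map_add, hcyc.e3, hcyc.e4]
    simp [hcyc.hh]
  have hne : (2 : ZMod (2 ^ n)) ^ (n - 1) ≠ 0 := half_ne_zero n hn
  have hl0 : (l : ℕ) = 0 := by
    fin_cases l
    · rfl
    · exfalso
      have h5 : α v' = v' := h4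
      rw [hav, hv'] at h5
      have := congrArg (fun w : V n => w.2.1) h5
      exact hne this.symm
    · exfalso
      have h5 : α (α v') = v' := h4
      rw [hav, hcyc.e4, hv'] at h5
      have := congrArg (fun w : V n => w.2.2) h5
      exact hne this.symm
  rw [hl0] at hword
  have e3 : ∀ (k : ℕ) (a b c : ZMod (2 ^ n)), sw2^[k] (((a, b), (c, c)) : V n) = ((a, b), (c, c)) := by
    intro k a b c
    induction k with
    | zero => rfl
    | succ k ih => rw [Function.iterate_succ_apply]; exact ih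
  fin_cases d
  · left
    intro a b c
    rw [hword]
    exact e3 _ a b c
  · right
    intro a b c
    rw [hword]
    show sw1 (sw2^[(e : ℕ)] ((a, b), (c, c))) = _
    rw [e3]
    rfl

end

end Cfsg.Agent.TypeLFive.CentWR
end

-- part: TypeLFive/CentWRClosed
section
/-!
# Wreathed half of (C), S0511: `Q₁` is strongly closed (W2), `W₂` is strongly closed up to N-type elements (W3)(i)
-/

set_option autoImplicit false

namespace Cfsg.Agent.TypeLFive.CentWR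

open Cfsg.Agent.TypeLFive.Model Cfsg.Agent.TypeLFive.Out Cfsg.Agent.TypeLFive.CentLin
open Cfsg.Agent.TwoFusion.QDBasic Cfsg.Agent.TwoFusion.WreathedBasic

variable {G W : Type*} [Group G] [Group W] {n : ℕ} {f : W × W →* G} {w : G}
  {u : ZMod (2 ^ n) → ZMod (2 ^ n) → W} {s : W}

/-- The subgroup `A`. -/
def Asub (f : W × W →* G) (hc : IsWCoord n u s) : Subgroup G where
  carrier := {x | ∃ v : V n, x = Fv f u v}
  one_mem' := ⟨0, (Fv_zero hc).symm⟩
  mul_mem' := by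
    rintro _ _ ⟨v, rfl⟩ ⟨v', rfl⟩
    exact ⟨v + v', (Fv_add hc v v').symm⟩
  inv_mem' := by
    rintro _ ⟨v, rfl⟩
    exact ⟨-v, (Fv_neg hc v).symm⟩

section

variable [Finite G] {P : Sylow 2 G}

omit [Finite G] in
theorem na_of_mem (h : FusWRN (P : Subgroup G) f w u s) {m : G}
    (hm : ∀ v : V n, m * Fv f u v * m⁻¹ ∈ (P : Subgroup G)) : NA f u m := by
  intro v
  obtain ⟨a, b, c, d, e⟩ := h.fus.weak m (fun a b c d => hm ((a, b), (c, d))) v.1.1 v.1.2 v.2.1 v.2.2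
  exact ⟨((a, b), (c, d)), e⟩

/-- `N_G(A)` controls the fusion of subsets of `A`. -/
theorem control (h : FusWRN (P : Subgroup G) f w u s) (Ω : Set G) (hΩ : ∀ ω ∈ Ω, ∃ v : V n, ω = Fv f u v) (g : G)
    (hg : ∀ ω ∈ Ω, ∃ v : V n, g * ω * g⁻¹ = Fv f u v) :
    ∃ (g' : G) (φ : V n →ₗ[ZMod (2 ^ n)] V n), Act f u g' φ ∧ ∀ ω ∈ Ω, g' * ω * g'⁻¹ = g * ω * g⁻¹ := by
  have hc := h.fus.coord
  have hwr := h.fus.out.wr
  set A := Asub f hc with hA
  set H := Subgroup.centralizer ((fun ω => g * ω * g⁻¹) '' Ω) with hH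
  have hAP : A ≤ (P : Subgroup G) := by
    rintro _ ⟨v, rfl⟩
    exact hwr.mem _
  have pA : IsPGroup 2 A := P.isPGroup'.to_le hAP
  have hAH : A ≤ H := by
    rintro _ ⟨v, rfl⟩
    rw [hH, Subgroup.mem_centralizer_iff]
    rintro _ ⟨ω, hω, rfl⟩
    obtain ⟨v', hv'⟩ := hg ω hω
    show g * ω * g⁻¹ * Fv f u v = Fv f u v * (g * ω * g⁻¹)
    rw [hv']
    exact Fv_comm hc _ _
  set B := A.map (MulAut.conj g).toMonoidHom with hB
  have hBH : B ≤ H := by
    rintro _ ⟨_, ⟨v, rfl⟩, rfl⟩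
    rw [hH, Subgroup.mem_centralizer_iff]
    rintro _ ⟨ω, hω, rfl⟩
    obtain ⟨v', rfl⟩ := hΩ ω hω
    show g * Fv f u v' * g⁻¹ * (g * Fv f u v * g⁻¹) = g * Fv f u v * g⁻¹ * (g * Fv f u v' * g⁻¹)
    calc g * Fv f u v' * g⁻¹ * (g * Fv f u v * g⁻¹) = g * (Fv f u v' * Fv f u v) * g⁻¹ := by group
      _ = g * (Fv f u v * Fv f u v') * g⁻¹ := by rw [Fv_comm hc]
      _ = _ := by group
  obtain ⟨R, k, hk, pR, hRH, hAR, hBR⟩ := CentGen.exists_conj_into H A B hAH hBH pA (pA.map _)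
  obtain ⟨m, hm⟩ := CentGen.exists_conj_sylow P R pR
  have h1 : NA f u m := na_of_mem h fun v => hm _ (hAR ⟨v, rfl⟩)
  have h2 : NA f u (m * (k * g)) := by
    apply na_of_mem h
    intro v
    have := hm _ (hBR _ ⟨Fv f u v, ⟨v, rfl⟩, rfl⟩)
    have e : m * (k * g) * Fv f u v * (m * (k * g))⁻¹ =
        m * (k * ((MulAut.conj g).toMonoidHom (Fv f u v)) * k⁻¹) * m⁻¹ := by
      show _ = m * (k * (g * Fv f u v * g⁻¹) * k⁻¹) * m⁻¹
      group
    rw [e]
    exact this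
  have h3 : NA f u (k * g) := by
    have := h1.inv.mul h2
    rwa [inv_mul_cancel_left] at this
  obtain ⟨φ, hφ⟩ := h3.exists_act hc hwr
  refine ⟨k * g, φ, hφ, fun ω hω => ?_⟩
  have h4 := Subgroup.mem_centralizer_iff.1 hk (g * ω * g⁻¹) ⟨ω, hω, rfl⟩
  calc k * g * ω * (k * g)⁻¹ = k * (g * ω * g⁻¹) * k⁻¹ := by group
    _ = g * ω * g⁻¹ * k * k⁻¹ := by rw [h4]
    _ = g * ω * g⁻¹ := by group

theorem control2 (h : FusWRN (P : Subgroup G) f w u s) {v v' : V n} {g : G}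
    (hg : g * f (u (2 ^ (n - 1)) (2 ^ (n - 1)), 1) = f (u (2 ^ (n - 1)) (2 ^ (n - 1)), 1) * g)
    (hv : g * Fv f u v * g⁻¹ = Fv f u v') :
    ∃ (g' : G) (φ : V n →ₗ[ZMod (2 ^ n)] V n), Act f u g' φ ∧
      φ ((2 ^ (n - 1), 2 ^ (n - 1)), (0, 0)) = ((2 ^ (n - 1), 2 ^ (n - 1)), (0, 0)) ∧ φ v = v' := by
  have hc := h.fus.coord
  have hwr := h.fus.out.wr
  have ht := t_eq h
  obtain ⟨g', φ, hφ, he⟩ := control h {Fv f u v, Fv f u ((2 ^ (n - 1), 2 ^ (n - 1)), (0, 0))} (by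
    rintro _ (rfl | rfl)
    · exact ⟨v, rfl⟩
    · exact ⟨_, rfl⟩) g (by
    rintro _ (rfl | rfl)
    · exact ⟨v', hv⟩
    · refine ⟨((2 ^ (n - 1), 2 ^ (n - 1)), (0, 0)), ?_⟩
      rw [ht, hg, mul_inv_cancel_right])
  refine ⟨g', φ, hφ, ?_, ?_⟩
  · apply Fv_inj hc hwr
    rw [← hφ, he _ (by right; rfl), ht, hg, mul_inv_cancel_right]
  · apply Fv_inj hc hwr
    rw [← hφ, he _ (by left; rfl), hv]

end

section

variable {S : Subgroup G}

theorem uz_pow_eq_one (hc : IsWCoord n u s) {a b : ZMod (2 ^ n)} (h : (u a b * s) ^ 2 ^ n = 1) :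
    ∃ c, a + b = 2 * c := by
  have hn := hc.one_le
  have e : 2 ^ n = 2 * 2 ^ (n - 1) := by rw [← pow_succ', Nat.sub_add_cancel hn]
  rw [e, pow_mul, hc.uz_sq, hc.u_pow, hc.u_eq_one_iff] at h
  rw [← half_mul_eq_zero_iff n hn]
  have := h.1
  push_cast at this
  exact this

/-- (MOVE) for the first coordinate. -/
theorem move1 (h : FusWR S f w u s) {D : W → ZMod (2 ^ n)} (hD1 : ∀ a b, D (u a b) = a + b)
    (hD2 : ∀ a b, D (u a b * s) = a + b + 2 ^ (n - 1)) (x : W) (hx : x ^ 2 ^ n = 1) :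
    ∃ (m : G) (a b : ZMod (2 ^ n)), (∀ y, m * f (x, y) * m⁻¹ = f (u a b, y)) ∧
      (∀ c y, m * f (u c c, y) * m⁻¹ = f (u c c, y)) ∧ a + b = D x := by
  have hc := h.coord
  have hn2 := hc.two_le
  rcases hc.cases x with ⟨a, b, rfl⟩ | ⟨a, b, rfl⟩
  · exact ⟨1, a, b, fun y => by simp, fun c y => by simp, (hD1 a b).symm⟩
  · obtain ⟨c, hcab⟩ := uz_pow_eq_one hc hx
    obtain ⟨ρ, hρ⟩ := h.rho
    set q : ZMod (2 ^ n) := 2 ^ (n - 2) with hq
    have hqq : q + q = 2 ^ (n - 1) := by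
      rw [hq, ← two_mul, ← pow_succ']
      congr 1
      omega
    have hh : (2 : ZMod (2 ^ n)) ^ (n - 1) + 2 ^ (n - 1) = 0 := by rw [← two_mul, two_mul_half n hc.one_le]
    -- `ρ⁻¹ f(z, y) ρ = f(z, y)` for central `z`
    have hρc : ∀ a y, ρ⁻¹ * f (u a a, y) * ρ = f (u a a, y) := by
      intro a y
      rw [mul_assoc, ← hρ.comm, inv_mul_cancel_left]
    have hρj : ρ⁻¹ * f (u q q * s, 1) * ρ = f (u (-q) q, 1) := by
      have e := hρ.i_j
      rw [← hq] at e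
      rw [← e]; group
    have hρs : ∀ y, ρ⁻¹ * f (u c c * s, y) * ρ = f (u (c - q + -q) (c - q + q), y) := by
      intro y
      have e1 : f (u c c * s, y) = f (u (c - q) (c - q), y) * f (u q q * s, 1) := by
        rw [← map_mul, Prod.mk_mul_mk, hc.u_mul_uz, mul_one, sub_add_cancel]
      have e2 : f (u (c - q + -q) (c - q + q), y) = f (u (c - q) (c - q), y) * f (u (-q) q, 1) := by
        rw [← map_mul, Prod.mk_mul_mk, hc.u_mul, mul_one]
      rw [e1, e2]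
      calc ρ⁻¹ * (f (u (c - q) (c - q), y) * f (u q q * s, 1)) * ρ =
          (ρ⁻¹ * f (u (c - q) (c - q), y) * ρ) * (ρ⁻¹ * f (u q q * s, 1) * ρ) := by group
        _ = _ := by rw [hρc, hρj]
    refine ⟨ρ⁻¹ * f (u (c - a) 0, 1), c - q + -q, c - q + q, ?_, ?_, ?_⟩
    · intro y
      have e1 : f (u (c - a) 0, 1) * f (u a b * s, y) * (f (u (c - a) 0, 1))⁻¹ = f (u c c * s, y) := by
        rw [← map_mul, ← map_inv, ← map_mul]
        congr 1
        simp only [Prod.mk_mul_mk, Prod.inv_mk, inv_one, mul_one, one_mul]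
        rw [hc.u_conj_uz]
        congr 3
        · ring
        · linear_combination hcab
      calc ρ⁻¹ * f (u (c - a) 0, 1) * f (u a b * s, y) * (ρ⁻¹ * f (u (c - a) 0, 1))⁻¹ =
          ρ⁻¹ * (f (u (c - a) 0, 1) * f (u a b * s, y) * (f (u (c - a) 0, 1))⁻¹) * ρ := by group
        _ = _ := by rw [e1, hρs]
    · intro e y
      have e1 : f (u (c - a) 0, 1) * f (u e e, y) * (f (u (c - a) 0, 1))⁻¹ = f (u e e, y) := by
        rw [← map_mul, ← map_inv, ← map_mul]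
        congr 1
        simp only [Prod.mk_mul_mk, Prod.inv_mk, inv_one, mul_one, one_mul]
        rw [hc.u_conj_u]
      calc ρ⁻¹ * f (u (c - a) 0, 1) * f (u e e, y) * (ρ⁻¹ * f (u (c - a) 0, 1))⁻¹ =
          ρ⁻¹ * (f (u (c - a) 0, 1) * f (u e e, y) * (f (u (c - a) 0, 1))⁻¹) * ρ := by group
        _ = _ := by rw [e1, hρc]
    · rw [hD2, hcab]
      linear_combination -hqq - hh

/-- (MOVE) for the second coordinate. -/
theorem move2 (h : FusWR S f w u s) {D : W → ZMod (2 ^ n)} (hD1 : ∀ a b, D (u a b) = a + b)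
    (hD2 : ∀ a b, D (u a b * s) = a + b + 2 ^ (n - 1)) (y : W) (hy : y ^ 2 ^ n = 1) :
    ∃ (m : G) (a b : ZMod (2 ^ n)), (∀ x, m * f (x, y) * m⁻¹ = f (x, u a b)) ∧
      (∀ c x, m * f (x, u c c) * m⁻¹ = f (x, u c c)) ∧ a + b = D y := by
  obtain ⟨m, a, b, h1, h2, h3⟩ := move1 h hD1 hD2 y hy
  have hwr := h.out.wr
  have hcj : ∀ x y, w * f (x, y) * w = f (y, x) := hwr.w_conj'
  have hw2 : w * w = 1 := hwr.w_w
  have key : ∀ p q p' q' : W, m * f (p, q) * m⁻¹ = f (p', q') → (w * m * w) * f (q, p) * (w * m * w)⁻¹ = f (q', p') := by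
    intro p q p' q' e
    have hwi : w⁻¹ = w := hwr.w_inv
    calc (w * m * w) * f (q, p) * (w * m * w)⁻¹ = w * (m * (w * f (q, p) * w⁻¹) * m⁻¹) * w⁻¹ := by group
      _ = w * (m * (w * f (q, p) * w) * m⁻¹) * w := by rw [hwi]
      _ = w * f (p', q') * w := by rw [hcj, e]
      _ = f (q', p') := hcj _ _
  exact ⟨w * m * w, a, b, fun x => key _ _ _ _ (h1 x), fun c x => key _ _ _ _ (h2 c x), h3⟩

end

section

variable [Finite G] {P : Sylow 2 G}

omit [Finite G] in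
theorem pow_of_conj (hinj : Function.Injective f) {c : G} {x x' y₁ y₂ : W} {k : ℕ}
    (h : c * f (x, x') * c⁻¹ = f (y₁, y₂)) (hx : x ^ k = 1) (hx' : x' ^ k = 1) : y₁ ^ k = 1 ∧ y₂ ^ k = 1 := by
  have h1 : f (y₁ ^ k, y₂ ^ k) = 1 := by
    have : f (y₁ ^ k, y₂ ^ k) = (f (y₁, y₂)) ^ k := by rw [← map_pow, Prod.pow_mk]
    rw [this, ← h, conj_pow, ← map_pow, Prod.pow_mk, hx, hx']
    have : ((1 : W), (1 : W)) = 1 := rfl
    rw [this, map_one, mul_one, mul_inv_cancel]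
  have h2 := hinj (h1.trans (map_one f).symm)
  exact ⟨congrArg Prod.fst h2, congrArg Prod.snd h2⟩

omit [Finite G] in
/-- the conjugation of `t` under a composite -/
theorem comm_of_conj {m t : G} (h : m * t * m⁻¹ = t) : m * t = t * m := by
  calc m * t = m * t * m⁻¹ * m := by group
    _ = t * m := by rw [h]

/-- The common core of (W2) and (W3)(i). -/
theorem moved (h : FusWRN (P : Subgroup G) f w u s) {D : W → ZMod (2 ^ n)} (hD1 : ∀ a b, D (u a b) = a + b)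
    (hD2 : ∀ a b, D (u a b * s) = a + b + 2 ^ (n - 1)) {c : G}
    (hct : c * f (u (2 ^ (n - 1)) (2 ^ (n - 1)), 1) = f (u (2 ^ (n - 1)) (2 ^ (n - 1)), 1) * c)
    {x x' y₁ y₂ : W} (hx : x ^ 2 ^ n = 1) (hx' : x' ^ 2 ^ n = 1) (he : c * f (x, x') * c⁻¹ = f (y₁, y₂)) :
    ∃ (a b a' b' p q p' q' : ZMod (2 ^ n)) (g : G) (φ : V n →ₗ[ZMod (2 ^ n)] V n), Act f u g φ ∧
      φ ((2 ^ (n - 1), 2 ^ (n - 1)), (0, 0)) = ((2 ^ (n - 1), 2 ^ (n - 1)), (0, 0)) ∧
      φ ((a, b), (a', b')) = ((p, q), (p', q')) ∧ a + b = D x ∧ a' + b' = D x' ∧ p + q = D y₁ ∧ p' + q' = D y₂ ∧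
      (u a b = 1 ↔ x = 1) ∧ (u a' b' = 1 ↔ x' = 1) ∧ (u p q = 1 ↔ y₁ = 1) ∧ (u p' q' = 1 ↔ y₂ = 1) := by
  have hc := h.fus.coord
  have hinj := h.fus.out.wr.inj
  obtain ⟨hy1, hy2⟩ := pow_of_conj hinj he hx hx'
  obtain ⟨m1, a, b, m1a, m1b, m1c⟩ := move1 h.fus hD1 hD2 x hx
  obtain ⟨m2, a', b', m2a, m2b, m2c⟩ := move2 h.fus hD1 hD2 x' hx'
  obtain ⟨m3, p, q, m3a, m3b, m3c⟩ := move1 h.fus hD1 hD2 y₁ hy1
  obtain ⟨m4, p', q', m4a, m4b, m4c⟩ := move2 h.fus hD1 hD2 y₂ hy2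
  set t := f (u (2 ^ (n - 1)) (2 ^ (n - 1)), 1) with ht
  -- all the moves centralise `t`
  have t1 : m1 * t * m1⁻¹ = t := m1b _ _
  have t3 : m3 * t * m3⁻¹ = t := m3b _ _
  have t2 : m2 * t * m2⁻¹ = t := by
    have := m2b 0 (u (2 ^ (n - 1)) (2 ^ (n - 1)))
    rwa [hc.u_zero] at this
  have t4 : m4 * t * m4⁻¹ = t := by
    have := m4b 0 (u (2 ^ (n - 1)) (2 ^ (n - 1)))
    rwa [hc.u_zero] at this
  have tc : c * t * c⁻¹ = t := by rw [hct, mul_inv_cancel_right]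
  set g := m4 * m3 * c * (m2 * m1)⁻¹ with hg
  have e1 : (m2 * m1) * f (x, x') * (m2 * m1)⁻¹ = Fv f u ((a, b), (a', b')) := by
    calc (m2 * m1) * f (x, x') * (m2 * m1)⁻¹ = m2 * (m1 * f (x, x') * m1⁻¹) * m2⁻¹ := by group
      _ = _ := by rw [m1a, m2a]; rfl
  have e2 : (m4 * m3) * f (y₁, y₂) * (m4 * m3)⁻¹ = Fv f u ((p, q), (p', q')) := by
    calc (m4 * m3) * f (y₁, y₂) * (m4 * m3)⁻¹ = m4 * (m3 * f (y₁, y₂) * m3⁻¹) * m4⁻¹ := by group
      _ = _ := by rw [m3a, m4a]; rfl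
  have e3 : g * Fv f u ((a, b), (a', b')) * g⁻¹ = Fv f u ((p, q), (p', q')) := by
    rw [← e1, ← e2, ← he, hg]
    group
  have e4 : g * t = t * g := by
    apply comm_of_conj
    have i1 : (m2 * m1)⁻¹ * t * (m2 * m1) = t := by
      calc (m2 * m1)⁻¹ * t * (m2 * m1) = (m2 * m1)⁻¹ * (m2 * (m1 * t * m1⁻¹) * m2⁻¹) * (m2 * m1) := by
            rw [t1, t2]
        _ = t := by group
    calc g * t * g⁻¹ = m4 * (m3 * (c * ((m2 * m1)⁻¹ * t * (m2 * m1)) * c⁻¹) * m3⁻¹) * m4⁻¹ := by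
          rw [hg]; group
      _ = t := by rw [i1, tc, t3, t4]
  obtain ⟨g', φ, hφ, h5, h6⟩ := control2 h e4 e3
  have triv : ∀ (m : G) (z z' : W × W), m * f z * m⁻¹ = f z' → (z' = 1 ↔ z = 1) := by
    intro m z z' e
    constructor
    · intro e1
      rw [e1, map_one, conj_eq_one_iff] at e
      exact hinj (e.trans (map_one f).symm)
    · intro e1
      rw [e1, map_one, mul_one, mul_inv_cancel] at e
      exact hinj (e.symm.trans (map_one f).symm)
  have one1 : ∀ z : W, ((z, 1) : W × W) = 1 ↔ z = 1 := fun z => by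
    rw [Prod.mk_eq_one]; simp
  have one2 : ∀ z : W, ((1, z) : W × W) = 1 ↔ z = 1 := fun z => by
    rw [Prod.mk_eq_one]; simp
  refine ⟨a, b, a', b', p, q, p', q', g', φ, hφ, h5, h6, m1c, m2c, m3c, m4c, ?_, ?_, ?_, ?_⟩
  · have := triv m1 _ _ (m1a 1)
    rwa [one1, one1] at this
  · have := triv m2 _ _ (m2a 1)
    rwa [one2, one2] at this
  · have := triv m3 _ _ (m3a 1)
    rwa [one1, one1] at this
  · have := triv m4 _ _ (m4a 1)
    rwa [one2, one2] at this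

/-- (W2): `Q₁` is strongly closed. -/
theorem closed_Q (h : FusWRN (P : Subgroup G) f w u s) {D : W → ZMod (2 ^ n)} (hD1 : ∀ a b, D (u a b) = a + b)
    (hD2 : ∀ a b, D (u a b * s) = a + b + 2 ^ (n - 1)) {c : G}
    (hct : c * f (u (2 ^ (n - 1)) (2 ^ (n - 1)), 1) = f (u (2 ^ (n - 1)) (2 ^ (n - 1)), 1) * c)
    {x y₁ y₂ : W} (hx : D x = 0) (he : c * f (x, 1) * c⁻¹ = f (y₁, y₂)) : D y₁ = 0 ∧ y₂ = 1 := by
  have hc := h.fus.coord
  have hn := hc.one_le
  have hn2 := hc.two_le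
  have hx2 : x ^ 2 ^ n = 1 := by
    rcases hc.cases x with ⟨a, b, rfl⟩ | ⟨a, b, rfl⟩
    · rw [hc.u_pow]
      have : ((2 ^ n : ℕ) : ZMod (2 ^ n)) = 0 := by push_cast; exact two_pow_eq_zero n
      rw [this, zero_mul, zero_mul, hc.u_zero]
    · rw [hD2] at hx
      have hh : (2 : ZMod (2 ^ n)) ^ (n - 1) + 2 ^ (n - 1) = 0 := by rw [← two_mul, two_mul_half n hn]
      have hab : a + b = 2 ^ (n - 1) := by linear_combination hx - hh
      have e : 2 ^ n = 2 * 2 ^ (n - 1) := by rw [← pow_succ', Nat.sub_add_cancel hn]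
      rw [e, pow_mul, hc.uz_sq, hc.u_pow, hab]
      have : ((2 ^ (n - 1) : ℕ) : ZMod (2 ^ n)) * 2 ^ (n - 1) = 0 := by
        push_cast; exact half_mul_half n hn2
      rw [this, hc.u_zero]
  obtain ⟨a, b, a', b', p, q, p', q', g, φ, hφ, h1, h2, h3, h4, h5, h6, h7, h8, h9, h10⟩ :=
    moved h hD1 hD2 hct hx2 (one_pow _) he
  have hb : b = -a := by
    rw [hx] at h3
    linear_combination h3
  have hab' := h8.2 rfl
  rw [hc.u_eq_one_iff] at hab'
  rw [hb, hab'.1, hab'.2] at h2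
  rcases act_anti h hφ h1 a with h11 | h11
  · rw [h11] at h2
    simp only [Prod.mk.injEq] at h2
    obtain ⟨⟨e1, e2⟩, e3, e4⟩ := h2
    refine ⟨by rw [← h5, ← e1, ← e2]; ring, h10.1 ?_⟩
    rw [← e3, ← e4, hc.u_zero]
  · rw [h11] at h2
    simp only [Prod.mk.injEq] at h2
    obtain ⟨⟨e1, e2⟩, e3, e4⟩ := h2
    refine ⟨by rw [← h5, ← e1, ← e2]; ring, h10.1 ?_⟩
    rw [← e3, ← e4, hc.u_zero]

/-- (W3)(i). -/
theorem closed_W1 (h : FusWRN (P : Subgroup G) f w u s) {c : G}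
    (hct : c * f (u (2 ^ (n - 1)) (2 ^ (n - 1)), 1) = f (u (2 ^ (n - 1)) (2 ^ (n - 1)), 1) * c)
    {x y₁ y₂ : W} (hx : x ^ 2 ^ n = 1) (he : c * f (1, x) * c⁻¹ = f (y₁, y₂)) : y₁ = 1 := by
  have hc := h.fus.coord
  obtain ⟨D, hD1, hD2, -⟩ := exists_det hc
  obtain ⟨a, b, a', b', p, q, p', q', g, φ, hφ, h1, h2, h3, h4, h5, h6, h7, h8, h9, h10⟩ :=
    moved h hD1 hD2 hct (one_pow _) hx he
  have hab := h7.2 rfl
  rw [hc.u_eq_one_iff] at hab
  rw [hab.1, hab.2] at h2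
  apply h9.1
  rcases act_fst h hφ h1 with h11 | h11
  · have := h11 ((0, 0), (a', b'))
    rw [h2] at this
    simp only [Prod.mk.injEq] at this
    rw [this.1, this.2, hc.u_zero]
  · have := h11 ((0, 0), (a', b'))
    rw [h2] at this
    simp only [Prod.mk.injEq] at this
    rw [this.1, this.2, hc.u_zero]

end

end Cfsg.Agent.TypeLFive.CentWR
end

-- part: TypeLFive/CentWRNType
section
/-!
# Wreathed half of (C), S0511: `W₂` is strongly closed (W3), N-type elements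
-/

set_option autoImplicit false

namespace Cfsg.Agent.TypeLFive.CentWR

open Cfsg.Agent.TypeLFive.Model Cfsg.Agent.TypeLFive.Out Cfsg.Agent.TypeLFive.CentLin
open Cfsg.Agent.TwoFusion.QDBasic Cfsg.Agent.TwoFusion.WreathedBasic

section W

variable {W : Type*} [Group W] {n : ℕ} {u : ZMod (2 ^ n) → ZMod (2 ^ n) → W} {s : W}

/-- commuting of `u c d` and `u a b * s`. -/
theorem comm_us_iff (hc : IsWCoord n u s) (a b c d : ZMod (2 ^ n)) :
    u c d * (u a b * s) = u a b * s * u c d ↔ c = d := by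
  rw [hc.u_mul_uz, hc.uz_mul_u]
  constructor
  · intro e
    obtain ⟨h1, -⟩ := hc.u_inj _ _ _ _ (mul_right_cancel e)
    linear_combination h1
  · rintro rfl
    rw [add_comm c a, add_comm c b]

/-- conjugacy of the elements outside the base. -/
theorem exists_conj_us (hc : IsWCoord n u s) {a b a' b' : ZMod (2 ^ n)} (h : a + b = a' + b') :
    ∃ e, u e 0 * (u a b * s) * (u e 0)⁻¹ = u a' b' * s := by
  refine ⟨a' - a, ?_⟩
  rw [hc.u_conj_uz]
  congr 2
  · ring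
  · linear_combination h

/-- the centraliser of an N-type element. -/
theorem mem_zpowers_of_comm (hc : IsWCoord n u s) {a b : ZMod (2 ^ n)} (hγ : IsUnit (a + b)) {y : W}
    (hy : y * (u a b * s) = u a b * s * y) : y ∈ Subgroup.zpowers (u a b * s) := by
  have hu : ∀ c, u c c ∈ Subgroup.zpowers (u a b * s) := by
    intro c
    obtain ⟨γ, hγ'⟩ := hγ
    obtain ⟨j, hj⟩ := ZMod.intCast_surjective (c * ((γ⁻¹ : (ZMod (2 ^ n))ˣ) : ZMod (2 ^ n)))
    have h1 : (u a b * s) ^ (2 * j) = u c c := by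
      rw [zpow_mul]
      have : (u a b * s) ^ (2 : ℤ) = u (a + b) (a + b) := by
        rw [← hc.uz_sq]; norm_cast
      rw [this]
      have h2 : ∀ (k : ℤ) (d : ZMod (2 ^ n)), u d d ^ k = u (k * d) (k * d) := by
        intro k d
        obtain ⟨m, rfl | rfl⟩ := k.eq_nat_or_neg
        · rw [zpow_natCast, hc.u_pow]
          push_cast
          rfl
        · rw [zpow_neg, zpow_natCast, hc.u_pow, hc.u_inv]
          push_cast
          congr 1 <;> ring
      have h3 : c * ((γ⁻¹ : (ZMod (2 ^ n))ˣ) : ZMod (2 ^ n)) * (γ : ZMod (2 ^ n)) = c := by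
        rw [mul_assoc, Units.inv_mul, mul_one]
      rw [h2, hj, ← hγ', h3]
    rw [← h1]
    exact Subgroup.zpow_mem _ (Subgroup.mem_zpowers _) _
  rcases hc.cases y with ⟨c, d, rfl⟩ | ⟨c, d, rfl⟩
  · rw [comm_us_iff hc] at hy
    rw [hy]
    exact hu d
  · rw [hc.uz_mul_uz, hc.uz_mul_uz] at hy
    obtain ⟨h1, -⟩ := hc.u_inj _ _ _ _ hy
    have e : u c d * s = u (c - a) (c - a) * (u a b * s) := by
      rw [hc.u_mul_uz]
      congr 2
      · ring
      · linear_combination -h1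
    rw [e]
    exact mul_mem (hu _) (Subgroup.mem_zpowers _)

/-- an element of `⟨x⟩` of order dividing `2 ^ n`. -/
theorem eq_u_of_mem_zpowers (hc : IsWCoord n u s) {a b : ZMod (2 ^ n)} (hγ : IsUnit (a + b)) {y : W}
    (hy : y ∈ Subgroup.zpowers (u a b * s)) (hy2 : y ^ 2 ^ n = 1) : ∃ c, y = u c c := by
  have hcomm : y * (u a b * s) = u a b * s * y := by
    obtain ⟨k, rfl⟩ := Subgroup.mem_zpowers_iff.1 hy
    exact (((Commute.refl (u a b * s)).zpow_left k)).eq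
  rcases hc.cases y with ⟨c, d, rfl⟩ | ⟨c, d, rfl⟩
  · rw [comm_us_iff hc] at hcomm
    exact ⟨d, by rw [hcomm]⟩
  · exfalso
    rw [hc.uz_mul_uz, hc.uz_mul_uz] at hcomm
    obtain ⟨h1, -⟩ := hc.u_inj _ _ _ _ hcomm
    obtain ⟨c', hc'⟩ := uz_pow_eq_one hc hy2
    obtain ⟨g, hg⟩ := odd_of_isUnit n hc.one_le _ hγ
    refine two_mul_ne_two_mul_add_one n hc.one_le (c' + a - c) g ?_
    rw [← hg]
    linear_combination -hc' - h1

end W

variable {G W : Type*} [Group G] [Group W] {n : ℕ} {f : W × W →* G} {w : G}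
  {u : ZMod (2 ^ n) → ZMod (2 ^ n) → W} {s : W} [Finite G] {P : Sylow 2 G}

omit [Finite G] in
theorem f_pair_comm {p q : W × W} (h1 : p.1 * q.1 = q.1 * p.1) (h2 : p.2 * q.2 = q.2 * p.2) :
    f p * f q = f q * f p := by
  rw [← map_mul, ← map_mul]
  congr 1
  exact Prod.ext h1 h2

omit [Finite G] in
/-- central elements of `W`. -/
theorem u_diag_comm (hc : IsWCoord n u s) (c : ZMod (2 ^ n)) (y : W) : u c c * y = y * u c c := by
  have := Subgroup.mem_center_iff.1 ((hc.u_mem_center_iff c c).2 rfl) y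
  exact this.symm

/-- (α): `W₁ × ⟨x⟩` is a maximal 2-subgroup of `C_G(t, x)`. -/
theorem alpha (h : FusWRN (P : Subgroup G) f w u s) {a b : ZMod (2 ^ n)} (hγ : IsUnit (a + b)) (R : Subgroup G)
    (pR : IsPGroup 2 R) (hU : ((⊤ : Subgroup W).prod (Subgroup.zpowers (u a b * s))).map f ≤ R)
    (hR : ∀ r ∈ R, r * f (u (2 ^ (n - 1)) (2 ^ (n - 1)), 1) = f (u (2 ^ (n - 1)) (2 ^ (n - 1)), 1) * r ∧
      r * f (1, u a b * s) = f (1, u a b * s) * r) :
    R = ((⊤ : Subgroup W).prod (Subgroup.zpowers (u a b * s))).map f := by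
  have hc := h.fus.coord
  have hfin : Finite W := hc.finite
  have hwr := h.fus.out.wr
  have hinj := hwr.inj
  set x := u a b * s with hx
  set t := f (u (2 ^ (n - 1)) (2 ^ (n - 1)), 1) with ht
  set z2 := f (1, u (a + b) (a + b)) with hz2
  have hX2 : f (1, x) * f (1, x) = z2 := by
    rw [← map_mul, Prod.mk_mul_mk, mul_one, ← pow_two, hx, hc.uz_sq]
  set Y := Subgroup.centralizer ({t, z2} : Set G) with hY
  have hmemY : ∀ g, g ∈ Y ↔ t * g = g * t ∧ z2 * g = g * z2 := by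
    intro g
    rw [hY, Subgroup.mem_centralizer_iff]
    constructor
    · intro hg
      exact ⟨hg t (by simp), hg z2 (by simp)⟩
    · rintro ⟨h1, h2⟩ m hm
      rcases hm with rfl | rfl
      · exact h1
      · exact h2
  have hTY : f.range ≤ Y := by
    rintro _ ⟨⟨p, q⟩, rfl⟩
    rw [hmemY]
    constructor
    · refine f_pair_comm (u_diag_comm hc _ _) ?_
      show 1 * q = q * 1
      rw [one_mul, mul_one]
    · refine f_pair_comm ?_ (u_diag_comm hc _ _)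
      show 1 * p = p * 1
      rw [one_mul, mul_one]
  have hRY : R ≤ Y := by
    intro r hr
    rw [hmemY]
    obtain ⟨h1, h2⟩ := hR r hr
    refine ⟨h1.symm, ?_⟩
    rw [← hX2]
    calc f (1, x) * f (1, x) * r = f (1, x) * (f (1, x) * r) := by group
      _ = f (1, x) * (r * f (1, x)) := by rw [h2]
      _ = (f (1, x) * r) * f (1, x) := by group
      _ = (r * f (1, x)) * f (1, x) := by rw [h2]
      _ = r * (f (1, x) * f (1, x)) := by group
  have pT : IsPGroup 2 f.range := P.isPGroup'.to_le hwr.range_le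
  obtain ⟨R', k, hk, pR', hR'Y, hTR', hkR⟩ := CentGen.exists_conj_into Y f.range R hTY hRY pT pR
  have hR'T : R' = f.range := h.fus.out.sylow_t R' pR' hTR' (fun r hr => ((hmemY r).1 (hR'Y hr)).1.symm)
  rw [hR'T] at hkR
  have hXR : f (1, x) ∈ R := hU ⟨(1, x), ⟨Subgroup.mem_top _, Subgroup.mem_zpowers x⟩, rfl⟩
  obtain ⟨⟨y₁, y₂⟩, hy⟩ := hkR _ hXR
  have hkz : k * z2 * k⁻¹ = z2 := by
    have := ((hmemY k).1 hk).2
    rw [← this, mul_inv_cancel_right]
  have hyy : f (y₁, y₂) * f (y₁, y₂) = z2 := by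
    rw [hy]
    calc k * f (1, x) * k⁻¹ * (k * f (1, x) * k⁻¹) = k * (f (1, x) * f (1, x)) * k⁻¹ := by group
      _ = z2 := by rw [hX2, hkz]
  rw [← map_mul, Prod.mk_mul_mk] at hyy
  have hyy2 : y₂ * y₂ = u (a + b) (a + b) := congrArg Prod.snd (hinj hyy)
  obtain ⟨g, hg⟩ := odd_of_isUnit n hc.one_le _ hγ
  have hex : ∃ e, u e 0 * x * (u e 0)⁻¹ = y₂ := by
    rcases hc.cases y₂ with ⟨p, q, rfl⟩ | ⟨p, q, rfl⟩
    · exfalso
      rw [hc.u_mul] at hyy2
      obtain ⟨h1, -⟩ := hc.u_inj _ _ _ _ hyy2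
      refine two_mul_ne_two_mul_add_one n hc.one_le p g ?_
      rw [← hg, ← h1]; ring
    · rw [← pow_two, hc.uz_sq] at hyy2
      obtain ⟨h1, -⟩ := hc.u_inj _ _ _ _ hyy2
      exact exists_conj_us hc h1.symm
  obtain ⟨e, he⟩ := hex
  have hord : orderOf y₂ = orderOf x := by
    rw [← he]
    exact (MulAut.conj (u e 0)).orderOf_eq x
  have hcent : ∀ r ∈ R, k * r * k⁻¹ ∈ ((⊤ : Subgroup W).prod (Subgroup.zpowers y₂)).map f := by
    intro r hr
    obtain ⟨⟨r₁, r₂⟩, hr12⟩ := hkR _ hr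
    refine ⟨(r₁, r₂), ⟨Subgroup.mem_top _, ?_⟩, hr12⟩
    show r₂ ∈ Subgroup.zpowers y₂
    have h1 : f (r₁, r₂) * f (y₁, y₂) = f (y₁, y₂) * f (r₁, r₂) := by
      rw [hr12, hy]
      calc k * r * k⁻¹ * (k * f (1, x) * k⁻¹) = k * (r * f (1, x)) * k⁻¹ := by group
        _ = k * (f (1, x) * r) * k⁻¹ := by rw [(hR r hr).2]
        _ = _ := by group
    rw [← map_mul, ← map_mul, Prod.mk_mul_mk, Prod.mk_mul_mk] at h1
    have h2 : r₂ * y₂ = y₂ * r₂ := congrArg Prod.snd (hinj h1)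
    rw [← he] at h2 ⊢
    have h3 : ((u e 0)⁻¹ * r₂ * u e 0) * x = x * ((u e 0)⁻¹ * r₂ * u e 0) := by
      calc ((u e 0)⁻¹ * r₂ * u e 0) * x = (u e 0)⁻¹ * (r₂ * (u e 0 * x * (u e 0)⁻¹)) * u e 0 := by group
        _ = (u e 0)⁻¹ * ((u e 0 * x * (u e 0)⁻¹) * r₂) * u e 0 := by rw [h2]
        _ = _ := by group
    obtain ⟨j, hj⟩ := Subgroup.mem_zpowers_iff.1 (mem_zpowers_of_comm hc hγ h3)
    refine Subgroup.mem_zpowers_iff.2 ⟨j, ?_⟩
    rw [conj_zpow, hj]
    group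
  have hcard : Nat.card R ≤ Nat.card (((⊤ : Subgroup W).prod (Subgroup.zpowers y₂)).map f) := by
    have h1 : R.map (MulAut.conj k).toMonoidHom ≤ ((⊤ : Subgroup W).prod (Subgroup.zpowers y₂)).map f := by
      rintro _ ⟨r, hr, rfl⟩
      exact hcent r hr
    have h2 := Subgroup.card_le_of_le h1
    rwa [Subgroup.card_map_of_injective (MulAut.conj k).injective] at h2
  have hc1 : ∀ y : W, Nat.card (((⊤ : Subgroup W).prod (Subgroup.zpowers y)).map f) =
      Nat.card (⊤ : Subgroup W) * orderOf y := by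
    intro y
    rw [Subgroup.card_map_of_injective hinj, Nat.card_congr (Subgroup.prodEquiv _ _).toEquiv, Nat.card_prod,
      Nat.card_zpowers]
  rw [hc1, hord, ← hc1] at hcard
  exact (Subgroup.eq_of_le_of_card_ge hU hcard).symm

/-- The key lemma: an N-type element of `W₂` is not fused to `f (u a₁ b₁, x)`. -/
theorem key (h : FusWRN (P : Subgroup G) f w u s) {a b a₁ b₁ : ZMod (2 ^ n)} (hγ : IsUnit (a + b)) {c : G}
    (hct : c * f (u (2 ^ (n - 1)) (2 ^ (n - 1)), 1) = f (u (2 ^ (n - 1)) (2 ^ (n - 1)), 1) * c)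
    (hcs : c * f (1, u (a + b) (a + b)) = f (1, u (a + b) (a + b)) * c)
    (he : c * f (1, u a b * s) * c⁻¹ = f (u a₁ b₁, u a b * s)) : a₁ = 0 ∧ b₁ = 0 := by
  by_contra hne
  have hc := h.fus.coord
  have hn := hc.one_le
  have hn2 := hc.two_le
  have hfin : Finite W := hc.finite
  have hwr := h.fus.out.wr
  have hinj := hwr.inj
  have hh : (2 : ZMod (2 ^ n)) ^ (n - 1) + 2 ^ (n - 1) = 0 := by rw [← two_mul, two_mul_half n hn]
  have hhalf0 := half_ne_zero n hn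
  set x := u a b * s with hx
  set t := f (u (2 ^ (n - 1)) (2 ^ (n - 1)), 1) with ht
  set z2 := f (1, u (a + b) (a + b)) with hz2
  set X := f (1, x) with hXd
  set v := f (u a₁ b₁, x) with hv
  have hxx : x * x = u (a + b) (a + b) := by rw [← pow_two, hx, hc.uz_sq]
  have hX2 : X * X = z2 := by
    rw [hXd, ← map_mul, Prod.mk_mul_mk, mul_one, hxx]
  obtain ⟨γ, hγ'⟩ := odd_of_isUnit n hn _ hγ
  -- commuting with `z2` means commuting with all `f (1, u e e)`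
  have hz2all : ∀ g : G, g * z2 = z2 * g → ∀ e, g * f (1, u e e) = f (1, u e e) * g := by
    intro g hg e
    obtain ⟨γ', hγu⟩ := hγ
    obtain ⟨j, hj⟩ := ZMod.natCast_zmod_surjective (e * ((γ'⁻¹ : (ZMod (2 ^ n))ˣ) : ZMod (2 ^ n)))
    have e1 : f (1, u e e) = z2 ^ j := by
      rw [hz2, ← map_pow, Prod.pow_mk, one_pow, hc.u_pow, hj, ← hγu, mul_assoc, Units.inv_mul, mul_one]
    rw [e1]
    exact (Commute.pow_right (show Commute g z2 from hg) j).eq
  set H := Subgroup.centralizer ({t, X} : Set G) with hH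
  have hmemH : ∀ g, g ∈ H ↔ g * t = t * g ∧ g * X = X * g := by
    intro g
    rw [hH, Subgroup.mem_centralizer_iff]
    constructor
    · intro hg
      exact ⟨(hg t (by simp)).symm, (hg X (by simp)).symm⟩
    · rintro ⟨h1, h2⟩ m hm
      rcases hm with rfl | rfl
      · exact h1.symm
      · exact h2.symm
  set Ux := ((⊤ : Subgroup W).prod (Subgroup.zpowers x)).map f with hUx
  set U3 := (hc.base.prod (Subgroup.zpowers x)).map f with hU3
  have hzx : ∀ y ∈ Subgroup.zpowers x, y * x = x * y := by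
    intro y hy
    obtain ⟨k, rfl⟩ := Subgroup.mem_zpowers_iff.1 hy
    exact ((Commute.refl x).zpow_left k).eq
  have hUxH : Ux ≤ H := by
    rintro _ ⟨⟨p, q⟩, ⟨-, hq⟩, rfl⟩
    rw [hmemH]
    constructor
    · refine f_pair_comm (u_diag_comm hc _ _).symm ?_
      show q * 1 = 1 * q
      rw [one_mul, mul_one]
    · refine f_pair_comm ?_ (hzx q hq)
      show p * 1 = 1 * p
      rw [one_mul, mul_one]
  have pUx : IsPGroup 2 Ux := P.isPGroup'.to_le (by
    rintro _ ⟨p, -, rfl⟩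
    exact hwr.mem p)
  have pU3 : IsPGroup 2 U3 := P.isPGroup'.to_le (by
    rintro _ ⟨p, -, rfl⟩
    exact hwr.mem p)
  -- `U3` commutes with `v` and `t`
  have hU3v : ∀ z ∈ U3, z * v = v * z ∧ z * t = t * z := by
    rintro _ ⟨⟨p, q⟩, ⟨hp, hq⟩, rfl⟩
    obtain ⟨p₁, p₂, rfl⟩ := (hc.mem_base p).1 hp
    exact ⟨f_pair_comm (hc.u_comm _ _ _ _) (hzx q hq),
      f_pair_comm (hc.u_comm _ _ _ _) (by show q * 1 = 1 * q; rw [one_mul, mul_one])⟩
  set B := U3.map (MulAut.conj c⁻¹).toMonoidHom with hB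
  have hBH : B ≤ H := by
    rintro _ ⟨z, hz, rfl⟩
    obtain ⟨h1, h2⟩ := hU3v z hz
    rw [hmemH]
    show c⁻¹ * z * c⁻¹⁻¹ * t = t * (c⁻¹ * z * c⁻¹⁻¹) ∧ c⁻¹ * z * c⁻¹⁻¹ * X = X * (c⁻¹ * z * c⁻¹⁻¹)
    rw [inv_inv]
    have h3 : c * X = v * c := by rw [← he]; group
    have h4 : X * c⁻¹ = c⁻¹ * v := by rw [← he]; group
    have h5 : t * c⁻¹ = c⁻¹ * t := by
      calc t * c⁻¹ = c⁻¹ * (c * t) * c⁻¹ := by group
        _ = c⁻¹ * (t * c) * c⁻¹ := by rw [hct]
        _ = _ := by group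
    constructor
    · calc c⁻¹ * z * c * t = c⁻¹ * z * (c * t) := by group
        _ = c⁻¹ * (z * t) * c := by rw [hct]; group
        _ = (c⁻¹ * t) * z * c := by rw [h2]; group
        _ = t * (c⁻¹ * z * c) := by rw [← h5]; group
    · calc c⁻¹ * z * c * X = c⁻¹ * z * (c * X) := by group
        _ = c⁻¹ * (z * v) * c := by rw [h3]; group
        _ = (c⁻¹ * v) * z * c := by rw [h1]; group
        _ = X * (c⁻¹ * z * c) := by rw [← h4]; group
  obtain ⟨R, k, hk, pR, hRH, hUR, hBR⟩ := CentGen.exists_conj_into H Ux B hUxH hBH pUx (pU3.map _)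
  have hRU : R = Ux := alpha h hγ R pR hUR (fun r hr => (hmemH r).1 (hRH hr))
  rw [hRU] at hBR
  obtain ⟨hkt, hkX⟩ := (hmemH k).1 hk
  set g := k * c⁻¹ with hg
  have hgU : ∀ z ∈ U3, g * z * g⁻¹ ∈ Ux := by
    intro z hz
    have := hBR _ ⟨z, hz, rfl⟩
    have e : g * z * g⁻¹ = k * ((MulAut.conj c⁻¹).toMonoidHom z) * k⁻¹ := by
      show _ = k * (c⁻¹ * z * c⁻¹⁻¹) * k⁻¹
      rw [hg]; group
    rw [e]
    exact this
  have hgv : g * v * g⁻¹ = X := by
    rw [hg, ← he]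
    calc k * c⁻¹ * (c * X * c⁻¹) * (k * c⁻¹)⁻¹ = k * X * k⁻¹ := by group
      _ = X := by rw [hkX, mul_inv_cancel_right]
  have hct' : c⁻¹ * t = t * c⁻¹ := by
    calc c⁻¹ * t = c⁻¹ * (t * c) * c⁻¹ := by group
      _ = c⁻¹ * (c * t) * c⁻¹ := by rw [hct]
      _ = _ := by group
  have hcs' : c⁻¹ * z2 = z2 * c⁻¹ := by
    calc c⁻¹ * z2 = c⁻¹ * (z2 * c) * c⁻¹ := by group
      _ = c⁻¹ * (c * z2) * c⁻¹ := by rw [hcs]
      _ = _ := by group
  have hgt : g * t = t * g := by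
    rw [hg, mul_assoc, hct', ← mul_assoc, hkt, mul_assoc]
  have hkz : k * z2 = z2 * k := by
    rw [← hX2, ← mul_assoc, hkX, mul_assoc, hkX, ← mul_assoc]
  have hgz : g * z2 = z2 * g := by
    rw [hg, mul_assoc, hcs', ← mul_assoc, hkz, mul_assoc]
  have hgzz := hz2all g hgz
  -- (β)
  have hbeta : ∀ z ∈ U3, ∃ (p q : ZMod (2 ^ n)) (y : W), y ∈ Subgroup.zpowers x ∧ g * z * g⁻¹ = f (u p q, y) := by
    intro z hz
    obtain ⟨⟨r, r'⟩, ⟨-, hr'⟩, hrz⟩ := hgU z hz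
    rcases hc.cases r with ⟨p, q, rfl⟩ | ⟨p, q, rfl⟩
    · exact ⟨p, q, r', hr', hrz.symm⟩
    · exfalso
      -- the image of `(u 1 0, 1)`
      have hm : f (u 1 0, 1) ∈ U3 := ⟨(u 1 0, 1), ⟨hc.u_mem_base 1 0, Subgroup.one_mem _⟩, rfl⟩
      obtain ⟨⟨p₁, p₂⟩, ⟨-, hp₂⟩, hpe⟩ := hgU _ hm
      have hcomm : f (p₁, p₂) * f (u p q * s, r') = f (u p q * s, r') * f (p₁, p₂) := by
        rw [hrz, hpe]
        obtain ⟨⟨z₁, z₂⟩, ⟨hz₁, -⟩, rfl⟩ := hz
        obtain ⟨z₃, z₄, rfl⟩ := (hc.mem_base z₁).1 hz₁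
        have h1 : f (u 1 0, 1) * f (u z₃ z₄, z₂) = f (u z₃ z₄, z₂) * f (u 1 0, 1) :=
          f_pair_comm (hc.u_comm _ _ _ _) (by show 1 * z₂ = z₂ * 1; rw [one_mul, mul_one])
        calc g * f (u 1 0, 1) * g⁻¹ * (g * f (u z₃ z₄, z₂) * g⁻¹) = g * (f (u 1 0, 1) * f (u z₃ z₄, z₂)) * g⁻¹ := by
              group
          _ = g * (f (u z₃ z₄, z₂) * f (u 1 0, 1)) * g⁻¹ := by rw [h1]
          _ = _ := by group
      rw [← map_mul, ← map_mul, Prod.mk_mul_mk, Prod.mk_mul_mk] at hcomm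
      have hp1c : p₁ * (u p q * s) = u p q * s * p₁ := congrArg Prod.fst (hinj hcomm)
      have hsq : ∃ e, p₁ ^ 2 = u e e := by
        rcases hc.cases p₁ with ⟨e, e', rfl⟩ | ⟨e, e', rfl⟩
        · rw [comm_us_iff hc] at hp1c
          exact ⟨2 * e', by rw [hc.u_sq, hp1c]⟩
        · exact ⟨_, hc.uz_sq _ _⟩
      obtain ⟨e, hee⟩ := hsq
      have epow : 2 ^ (n - 1) = 2 * 2 ^ (n - 2) := by rw [← pow_succ']; congr 1; omega
      have hd1 : g * f (u (2 ^ (n - 1)) 0, 1) * g⁻¹ =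
          f (u ((2 ^ (n - 2) : ℕ) * e) ((2 ^ (n - 2) : ℕ) * e), p₂ ^ 2 ^ (n - 1)) := by
        have e1 : f (u (2 ^ (n - 1)) 0, 1) = (f (u 1 0, 1)) ^ 2 ^ (n - 1) := by
          rw [← map_pow, Prod.pow_mk, one_pow, hc.u_pow]
          push_cast
          rw [mul_one, mul_zero]
        rw [e1, ← conj_pow, ← hpe, ← map_pow, Prod.pow_mk]
        congr 2
        rw [epow, pow_mul, hee, hc.u_pow]
      set e' : ZMod (2 ^ n) := (2 ^ (n - 2) : ℕ) * e with he'
      set y := p₂ ^ 2 ^ (n - 1) with hy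
      have hyz : y ∈ Subgroup.zpowers x := Subgroup.pow_mem _ hp₂ _
      -- it is an involution
      have hinv : f (u e' e', y) * f (u e' e', y) = 1 := by
        rw [← hd1]
        have e1 : f (u (2 ^ (n - 1)) 0, 1) * f (u (2 ^ (n - 1)) 0, 1) = 1 := by
          rw [← map_mul, Prod.mk_mul_mk, hc.u_mul, hh, add_zero, hc.u_zero, mul_one]
          exact map_one f
        calc g * f (u (2 ^ (n - 1)) 0, 1) * g⁻¹ * (g * f (u (2 ^ (n - 1)) 0, 1) * g⁻¹) =
            g * (f (u (2 ^ (n - 1)) 0, 1) * f (u (2 ^ (n - 1)) 0, 1)) * g⁻¹ := by group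
          _ = 1 := by rw [e1, mul_one, mul_inv_cancel]
      rw [← map_mul, Prod.mk_mul_mk] at hinv
      have hinv' := hinj (hinv.trans (map_one f).symm)
      have hi1 : u e' e' * u e' e' = 1 := congrArg Prod.fst hinv'
      have hi2 : y * y = 1 := congrArg Prod.snd hinv'
      obtain ⟨y', hy'⟩ := eq_u_of_mem_zpowers hc hγ hyz (by
        have e1 : 2 ^ n = 2 * 2 ^ (n - 1) := by rw [← pow_succ', Nat.sub_add_cancel hn]
        rw [e1, pow_mul, pow_two, hi2, one_pow])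
      rw [hc.u_mul, hc.u_eq_one_iff] at hi1
      rw [hy', hc.u_mul, hc.u_eq_one_iff] at hi2
      -- the image commutes with `g`
      have hfix : g * f (u e' e', y) = f (u e' e', y) * g := by
        have e1 : f (u e' e', y) = f (u e' e', 1) * f (1, u y' y') := by
          rw [← map_mul, Prod.mk_mul_mk, mul_one, one_mul, hy']
        have e2 : g * f (u e' e', 1) = f (u e' e', 1) * g := by
          have h5 : e' = 0 ∨ e' = 2 ^ (n - 1) := by
            rw [← two_mul_eq_zero_iff n hn, two_mul]; exact hi1.1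
          rcases h5 with h5 | h5
          · rw [h5, hc.u_zero]
            have : ((1 : W), (1 : W)) = 1 := rfl
            rw [this, map_one, mul_one, one_mul]
          · rw [h5]; exact hgt
        rw [e1, ← mul_assoc, e2, mul_assoc, hgzz, mul_assoc]
      have h6 : g * f (u (2 ^ (n - 1)) 0, 1) = f (u e' e', y) * g := by
        rw [← hd1]; group
      rw [← hfix] at h6
      have h7 := hinj (mul_left_cancel h6)
      have h8 := hc.u_inj _ _ _ _ (congrArg Prod.fst h7)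
      exact hhalf0 (h8.1.trans h8.2.symm)
  -- the action of `g` on `U₀`
  have hU0 : ∀ p q e : ZMod (2 ^ n), ∃ v' : V n, g * Fv f u ((p, q), (e, e)) * g⁻¹ = Fv f u v' := by
    intro p q e
    have h1 : f (u p q, 1) ∈ U3 := ⟨(u p q, 1), ⟨hc.u_mem_base p q, Subgroup.one_mem _⟩, rfl⟩
    obtain ⟨p', q', y, hy, h2⟩ := hbeta _ h1
    have hy2 : y ^ 2 ^ n = 1 := by
      refine (pow_of_conj hinj h2 (k := 2 ^ n) ?_ (one_pow _)).2
      rw [hc.u_pow]
      have : ((2 ^ n : ℕ) : ZMod (2 ^ n)) = 0 := by push_cast; exact two_pow_eq_zero n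
      rw [this, zero_mul, zero_mul, hc.u_zero]
    obtain ⟨y', hy'⟩ := eq_u_of_mem_zpowers hc hγ hy hy2
    refine ⟨((p', q'), (y' + e, y' + e)), ?_⟩
    have e1 : Fv f u ((p, q), (e, e)) = f (u p q, 1) * f (1, u e e) := by
      show f (u p q, u e e) = _
      rw [← map_mul, Prod.mk_mul_mk, mul_one, one_mul]
    have e2 : Fv f u ((p', q'), (y' + e, y' + e)) = f (u p' q', u y' y') * f (1, u e e) := by
      show f (u p' q', u (y' + e) (y' + e)) = _
      rw [← map_mul, Prod.mk_mul_mk, mul_one, hc.u_mul]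
    rw [e1, e2, ← hy', ← h2]
    calc g * (f (u p q, 1) * f (1, u e e)) * g⁻¹ = g * f (u p q, 1) * (f (1, u e e) * g⁻¹) := by group
      _ = g * f (u p q, 1) * (g⁻¹ * (g * f (1, u e e)) * g⁻¹) := by group
      _ = g * f (u p q, 1) * (g⁻¹ * (f (1, u e e) * g) * g⁻¹) := by rw [hgzz]
      _ = _ := by group
  obtain ⟨g', φ, hφ, hg'⟩ := control h {ω | ∃ p q e : ZMod (2 ^ n), ω = Fv f u ((p, q), (e, e))}
    (by rintro _ ⟨p, q, e, rfl⟩; exact ⟨_, rfl⟩) g (by rintro _ ⟨p, q, e, rfl⟩; exact hU0 p q e)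
  have hφt : φ ((2 ^ (n - 1), 2 ^ (n - 1)), (0, 0)) = ((2 ^ (n - 1), 2 ^ (n - 1)), (0, 0)) := by
    apply Fv_inj hc hwr
    rw [← hφ, hg' _ ⟨_, _, 0, rfl⟩, t_eq h, hgt, mul_inv_cancel_right]
  have hFz : ∀ e : ZMod (2 ^ n), Fv f u ((0, 0), (e, e)) = f (1, u e e) := by
    intro e
    show f (u 0 0, u e e) = _
    rw [hc.u_zero]
  have hφz : φ ((0, 0), (2 ^ (n - 1), 2 ^ (n - 1))) = ((0, 0), (2 ^ (n - 1), 2 ^ (n - 1))) := by
    apply Fv_inj hc hwr
    rw [← hφ, hg' _ ⟨0, 0, _, rfl⟩, hFz, hgzz, mul_inv_cancel_right]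
  have hF1 : ∀ p q : ZMod (2 ^ n), Fv f u ((p, q), (0, 0)) = f (u p q, 1) := by
    intro p q
    show f (u p q, u 0 0) = _
    rw [hc.u_zero]
  -- the correction by `s₁`
  obtain ⟨g₁, a₂, b₂, hg1a, hg1b, hg1c, hg1d⟩ : ∃ (g₁ : G) (a₂ b₂ : ZMod (2 ^ n)),
      (∀ p q, g₁ * f (u p q, 1) * g₁⁻¹ = f (u p q, 1)) ∧ (∀ e, g₁ * f (1, u e e) * g₁⁻¹ = f (1, u e e)) ∧
      g₁ * X * g₁⁻¹ = f (u a₂ b₂, x) ∧ ¬ (a₂ = 0 ∧ b₂ = 0) := by
    have hXv : X = (f (u a₁ b₁, 1))⁻¹ * v := by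
      rw [hXd, hv, ← map_inv, ← map_mul, Prod.inv_mk, Prod.mk_mul_mk, inv_mul_cancel, inv_one, one_mul]
    have hgX : g * X * g⁻¹ = (g * f (u a₁ b₁, 1) * g⁻¹)⁻¹ * X := by
      calc g * X * g⁻¹ = (g * f (u a₁ b₁, 1) * g⁻¹)⁻¹ * (g * v * g⁻¹) := by rw [hXv]; group
        _ = _ := by rw [hgv]
    have hform : ∀ p q : ZMod (2 ^ n), (f (u p q, 1))⁻¹ * X = f (u (-p) (-q), x) := by
      intro p q
      rw [hXd, ← map_inv, ← map_mul, Prod.inv_mk, Prod.mk_mul_mk, mul_one, inv_one, one_mul, hc.u_inv]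
    rcases act_cent h hφ hφt hφz with h1 | h1
    · have h2 : ∀ p q, g * f (u p q, 1) * g⁻¹ = f (u p q, 1) := by
        intro p q
        rw [← hF1, ← hg' _ ⟨p, q, 0, rfl⟩, hφ, h1]
      refine ⟨g, -a₁, -b₁, h2, fun e => by rw [hgzz, mul_inv_cancel_right], ?_, ?_⟩
      · rw [hgX, h2, hform]
      · rintro ⟨h3, h4⟩
        exact hne ⟨neg_eq_zero.1 h3, neg_eq_zero.1 h4⟩
    · have h2 : ∀ p q, g * f (u p q, 1) * g⁻¹ = f (u q p, 1) := by
        intro p q
        rw [← hF1, ← hg' _ ⟨p, q, 0, rfl⟩, hφ, h1, hF1]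
      have h3 : ∀ p q : ZMod (2 ^ n), f (s, 1) * f (u p q, 1) * (f (s, 1))⁻¹ = f (u q p, 1) := by
        intro p q
        have := act_s1 (f := f) hc ((p, q), (0, 0))
        rw [hF1] at this
        rw [this]
        exact hF1 q p
      have h4 : ∀ y : W, f (s, 1) * f (1, y) * (f (s, 1))⁻¹ = f (1, y) := by
        intro y
        rw [← map_mul, ← map_inv, ← map_mul, Prod.inv_mk, Prod.mk_mul_mk, Prod.mk_mul_mk]
        simp
      have h5 : ∀ (m : G) (z z' : G), f (s, 1) * g * z * (f (s, 1) * g)⁻¹ =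
          f (s, 1) * (g * z * g⁻¹) * (f (s, 1))⁻¹ := by intro m z z'; group
      refine ⟨f (s, 1) * g, -a₁, -b₁, ?_, ?_, ?_, ?_⟩
      · intro p q
        rw [h5 1 _ 1, h2, h3]
      · intro e
        rw [h5 1 _ 1, hgzz, mul_inv_cancel_right, h4]
      · rw [h5 1 _ 1, hgX, h2]
        calc f (s, 1) * ((f (u b₁ a₁, 1))⁻¹ * X) * (f (s, 1))⁻¹ =
            (f (s, 1) * f (u b₁ a₁, 1) * (f (s, 1))⁻¹)⁻¹ * (f (s, 1) * X * (f (s, 1))⁻¹) := by group
          _ = _ := by rw [h3, h4, ← hXd, hform]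
      · rintro ⟨h6, h7⟩
        exact hne ⟨neg_eq_zero.1 h6, neg_eq_zero.1 h7⟩
  -- the group `L = C_G(U₀)`
  set L : Subgroup G := Subgroup.centralizer ({ω | ∃ p q e : ZMod (2 ^ n), ω = Fv f u ((p, q), (e, e))} : Set G)
    with hL
  set P0 : Subgroup G := (hc.base.prod (⊤ : Subgroup W)).map f with hP0
  have hFsplit : ∀ p q e : ZMod (2 ^ n), Fv f u ((p, q), (e, e)) = f (u p q, 1) * f (1, u e e) := by
    intro p q e
    show f (u p q, u e e) = _
    rw [← map_mul, Prod.mk_mul_mk, mul_one, one_mul]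
  have hmemL : ∀ l, l ∈ L ↔ (∀ p q, l * f (u p q, 1) = f (u p q, 1) * l) ∧
      (∀ e, l * f (1, u e e) = f (1, u e e) * l) := by
    intro l
    rw [hL, Subgroup.mem_centralizer_iff]
    constructor
    · intro hl
      refine ⟨fun p q => ?_, fun e => ?_⟩
      · have := hl _ ⟨p, q, 0, rfl⟩
        rw [hF1] at this
        exact this.symm
      · have := hl _ ⟨0, 0, e, rfl⟩
        rw [hFz] at this
        exact this.symm
    · rintro ⟨h1, h2⟩ _ ⟨p, q, e, rfl⟩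
      rw [hFsplit, mul_assoc, ← h2, ← mul_assoc, ← h1, mul_assoc]
  have hP0L : P0 ≤ L := by
    rintro _ ⟨⟨p, q⟩, ⟨hp, -⟩, rfl⟩
    obtain ⟨p₁, p₂, rfl⟩ := (hc.mem_base p).1 hp
    rw [hmemL]
    constructor
    · intro p' q'
      exact f_pair_comm (hc.u_comm _ _ _ _) (by show q * 1 = 1 * q; rw [one_mul, mul_one])
    · intro e
      exact f_pair_comm (by show u p₁ p₂ * 1 = 1 * u p₁ p₂; rw [one_mul, mul_one]) (u_diag_comm hc _ _).symm
  have hTL : f.range ⊓ L ≤ P0 := by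
    rintro _ ⟨⟨⟨p, q⟩, rfl⟩, hl⟩
    have h1 := ((hmemL _).1 hl).1 1 0
    rw [← map_mul, ← map_mul, Prod.mk_mul_mk, Prod.mk_mul_mk] at h1
    have h2 : p * u 1 0 = u 1 0 * p := congrArg Prod.fst (hinj h1)
    rcases hc.cases p with ⟨p₁, p₂, rfl⟩ | ⟨p₁, p₂, rfl⟩
    · exact ⟨(u p₁ p₂, q), ⟨hc.u_mem_base _ _, Subgroup.mem_top _⟩, rfl⟩
    · exfalso
      have h3 := (comm_us_iff hc p₁ p₂ 1 0).1 h2.symm
      have h4 : (2 : ZMod (2 ^ n)) ^ (n - 1) * 1 = 2 ^ (n - 1) * 0 := by rw [h3]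
      rw [mul_one, mul_zero] at h4
      exact hhalf0 h4
  set C := Subgroup.centralizer ({t} : Set G) with hC
  have hmemC : ∀ g, g ∈ C ↔ g * t = t * g := by
    intro g
    rw [hC, Subgroup.mem_centralizer_iff]
    constructor
    · intro hg; exact (hg t rfl).symm
    · rintro h1 _ rfl; exact h1.symm
  have hTC : f.range ≤ C := by
    rintro _ ⟨⟨p, q⟩, rfl⟩
    rw [hmemC]
    exact f_pair_comm (u_diag_comm hc _ _).symm (by show q * 1 = 1 * q; rw [one_mul, mul_one])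
  have hLC : L ≤ C := fun l hl => (hmemC l).2 (((hmemL l).1 hl).1 _ _)
  have pT : IsPGroup 2 f.range := P.isPGroup'.to_le hwr.range_le
  have hodd := CentGen.odd_relIndex C f.range L hTC hLC pT
    (fun R pR hTR hRC => h.fus.out.sylow_t R pR hTR (fun r hr => (hmemC r).1 (hRC hr))) (by
      rintro _ ⟨⟨p, q⟩, rfl⟩ l hl
      -- `f (p, q)` normalises `U₀`
      have h1 := (hmemL l).1 hl
      have hp : ∀ a b : ZMod (2 ^ n), ∃ a' b' : ZMod (2 ^ n), p⁻¹ * u a b * p = u a' b' := by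
        intro a b
        rcases hc.cases p with ⟨p₁, p₂, rfl⟩ | ⟨p₁, p₂, rfl⟩
        · exact ⟨a, b, by rw [mul_assoc, hc.u_comm, inv_mul_cancel_left]⟩
        · refine ⟨b, a, ?_⟩
          have := hc.uz_conj_u p₁ p₂ b a
          rw [← this]; group
      rw [hmemL]
      constructor
      · intro a b
        obtain ⟨a', b', e⟩ := hp a b
        have e1 : (f (p, q))⁻¹ * f (u a b, 1) * f (p, q) = f (u a' b', 1) := by
          rw [← map_inv, ← map_mul, ← map_mul, Prod.inv_mk, Prod.mk_mul_mk, Prod.mk_mul_mk, e, mul_one,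
            inv_mul_cancel]
        calc f (p, q) * l * (f (p, q))⁻¹ * f (u a b, 1) =
            f (p, q) * (l * ((f (p, q))⁻¹ * f (u a b, 1) * f (p, q))) * (f (p, q))⁻¹ := by group
          _ = f (p, q) * (((f (p, q))⁻¹ * f (u a b, 1) * f (p, q)) * l) * (f (p, q))⁻¹ := by
              rw [e1, h1.1]
          _ = _ := by group
      · intro e
        have e1 : (f (p, q))⁻¹ * f (1, u e e) * f (p, q) = f (1, u e e) := by
          rw [← map_inv, ← map_mul, ← map_mul, Prod.inv_mk, Prod.mk_mul_mk, Prod.mk_mul_mk, mul_one,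
            inv_mul_cancel, mul_assoc, u_diag_comm hc, inv_mul_cancel_left]
        calc f (p, q) * l * (f (p, q))⁻¹ * f (1, u e e) =
            f (p, q) * (l * ((f (p, q))⁻¹ * f (1, u e e) * f (p, q))) * (f (p, q))⁻¹ := by group
          _ = f (p, q) * (((f (p, q))⁻¹ * f (1, u e e) * f (p, q)) * l) * (f (p, q))⁻¹ := by
              rw [e1, h1.2]
          _ = _ := by group)
  have hodd' : ¬ 2 ∣ P0.relIndex L := by
    intro h2
    apply hodd
    rw [← Subgroup.inf_relIndex_right]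
    exact h2.trans (Subgroup.relIndex_dvd_of_le_left L hTL)
  -- the projection
  have hcomm : IsMulCommutative hc.base := hc.base_comm
  let _ : CommGroup hc.base := { (inferInstance : Group hc.base) with mul_comm := hcomm.is_comm.comm }
  let eqv : ↥(hc.base.prod (⊤ : Subgroup W)) ≃* ↥P0 := Subgroup.equivMapOfInjective _ f hinj
  let π : ↥P0 →* ↥hc.base :=
    (MonoidHom.fst ↥hc.base ↥(⊤ : Subgroup W)).comp
      ((Subgroup.prodEquiv hc.base (⊤ : Subgroup W)).toMonoidHom.comp eqv.symm.toMonoidHom)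
  have hz : f (u a₂ b₂, 1) ∈ P0 := ⟨(u a₂ b₂, 1), ⟨hc.u_mem_base _ _, Subgroup.mem_top _⟩, rfl⟩
  have hπ : π ⟨f (u a₂ b₂, 1), hz⟩ = ⟨u a₂ b₂, hc.u_mem_base _ _⟩ := by
    have e1 : eqv.symm ⟨f (u a₂ b₂, 1), hz⟩ = ⟨(u a₂ b₂, 1), ⟨hc.u_mem_base _ _, Subgroup.mem_top _⟩⟩ := by
      rw [MulEquiv.symm_apply_eq]
      rfl
    show (Subgroup.prodEquiv hc.base (⊤ : Subgroup W) (eqv.symm ⟨f (u a₂ b₂, 1), hz⟩)).1 = _
    rw [e1]
    rfl
  have hXL : X ∈ L := by
    rw [hmemL]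
    exact ⟨fun p q => f_pair_comm (by show 1 * u p q = u p q * 1; rw [one_mul, mul_one])
      (by show x * 1 = 1 * x; rw [one_mul, mul_one]),
      fun e => f_pair_comm (by show (1 : W) * 1 = 1 * 1; rfl) (u_diag_comm hc _ _).symm⟩
  have hg1L : g₁ ∈ L := by
    rw [hmemL]
    exact ⟨fun p q => comm_of_conj (hg1a p q), fun e => comm_of_conj (hg1b e)⟩
  refine CentGen.no_central_mul L P0 hP0L hodd' π (f (u a₂ b₂, 1)) hz (fun l hl => ((hmemL l).1 hl).1 _ _) n ?_ ?_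
    g₁ X hg1L hXL ?_
  · rw [← map_pow, Prod.pow_mk, one_pow, hc.u_pow]
    have : ((2 ^ n : ℕ) : ZMod (2 ^ n)) = 0 := by push_cast; exact two_pow_eq_zero n
    rw [this, zero_mul, zero_mul, hc.u_zero]
    exact map_one f
  · rw [hπ]
    intro e
    have h1 : u a₂ b₂ = 1 := congrArg Subtype.val e
    exact hg1d ((hc.u_eq_one_iff _ _).1 h1)
  · rw [hg1c, hXd, ← map_mul, Prod.mk_mul_mk, mul_one, one_mul]

end Cfsg.Agent.TypeLFive.CentWR
end

-- part: TypeLFive/CentWRMain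
section
/-!
# Wreathed half of (C), S0511: `W₂` is strongly closed (W3)
-/

set_option autoImplicit false

namespace Cfsg.Agent.TypeLFive.CentWR

open Cfsg.Agent.TypeLFive.Model Cfsg.Agent.TypeLFive.Out Cfsg.Agent.TypeLFive.CentLin
open Cfsg.Agent.TwoFusion.QDBasic Cfsg.Agent.TwoFusion.WreathedBasic

variable {G W : Type*} [Group G] [Group W] {n : ℕ} {f : W × W →* G} {w : G}
  {u : ZMod (2 ^ n) → ZMod (2 ^ n) → W} {s : W} [Finite G] {P : Sylow 2 G}

/-- (W3): `W₂` is strongly closed in `T` with respect to `C_G(t)`. -/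
theorem closed_W (h : FusWRN (P : Subgroup G) f w u s) {c : G}
    (hct : c * f (u (2 ^ (n - 1)) (2 ^ (n - 1)), 1) = f (u (2 ^ (n - 1)) (2 ^ (n - 1)), 1) * c)
    {x y₁ y₂ : W} (he : c * f (1, x) * c⁻¹ = f (y₁, y₂)) : y₁ = 1 := by
  by_cases hx : x ^ 2 ^ n = 1
  · exact closed_W1 h hct hx he
  have hc := h.fus.coord
  have hn := hc.one_le
  have hwr := h.fus.out.wr
  have hinj := hwr.inj
  have h2n : ((2 ^ n : ℕ) : ZMod (2 ^ n)) = 0 := by push_cast; exact two_pow_eq_zero n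
  have hupow : ∀ a b : ZMod (2 ^ n), u a b ^ 2 ^ n = 1 := by
    intro a b
    rw [hc.u_pow, h2n, zero_mul, zero_mul, hc.u_zero]
  have e2n : 2 ^ n = 2 * 2 ^ (n - 1) := by rw [← pow_succ', Nat.sub_add_cancel hn]
  rcases hc.cases x with ⟨a, b, rfl⟩ | ⟨a, b, rfl⟩
  · exact absurd (hupow a b) hx
  -- `a + b` is a unit
  have hγ : IsUnit (a + b) := by
    rcases even_or_odd' n (a + b) with ⟨k, hk⟩ | ⟨k, hk⟩
    · exfalso
      apply hx
      rw [e2n, pow_mul, hc.uz_sq, hc.u_pow, hk]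
      have : ((2 ^ (n - 1) : ℕ) : ZMod (2 ^ n)) * (2 * k) = 0 := by
        push_cast
        have := two_mul_half n hn
        linear_combination k * this
      rw [this, hc.u_zero]
    · rw [hk]; exact isUnit_odd n k
  set x := u a b * s with hxd
  have hxx : x * x = u (a + b) (a + b) := by rw [← pow_two, hxd, hc.uz_sq]
  -- squares
  have hsq : c * f (1, x * x) * c⁻¹ = f (y₁ * y₁, y₂ * y₂) := by
    have e1 : f (1, x * x) = f (1, x) * f (1, x) := by rw [← map_mul, Prod.mk_mul_mk, mul_one]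
    have e2 : f (y₁ * y₁, y₂ * y₂) = f (y₁, y₂) * f (y₁, y₂) := by rw [← map_mul, Prod.mk_mul_mk]
    rw [e1, e2, ← he]; group
  have hy1 : y₁ * y₁ = 1 := closed_W1 h hct (by rw [hxx]; exact hupow _ _) hsq
  have hy1p : y₁ ^ 2 ^ n = 1 := by rw [e2n, pow_mul, pow_two, hy1, one_pow]
  have hy2 : ∃ p q, y₂ = u p q * s := by
    rcases hc.cases y₂ with ⟨p, q, e⟩ | hh
    · exfalso
      apply hx
      have e1 : c⁻¹ * f (y₁, y₂) * c⁻¹⁻¹ = f (1, x) := by rw [← he]; group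
      exact (pow_of_conj hinj e1 (k := 2 ^ n) hy1p (by rw [e]; exact hupow _ _)).2
    · exact hh
  obtain ⟨p, q, rfl⟩ := hy2
  have hγeq : a + b = p + q := by
    have e1 : c * Fv f u ((0, 0), (a + b, a + b)) * c⁻¹ = Fv f u ((0, 0), (p + q, p + q)) := by
      show c * f (u 0 0, u (a + b) (a + b)) * c⁻¹ = f (u 0 0, u (p + q) (p + q))
      rw [hc.u_zero, ← hxx, hsq, hy1, ← pow_two, hc.uz_sq]
    obtain ⟨g', φ, hφ, h1, h2⟩ := control2 h hct e1
    exact act_diag h hφ h1 h2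
  obtain ⟨e, hee⟩ := exists_conj_us hc hγeq.symm
  obtain ⟨D, hD1, hD2, -⟩ := exists_det hc
  obtain ⟨m, a₁, b₁, m1, m2, -⟩ := move1 h.fus hD1 hD2 y₁ hy1p
  set t := f (u (2 ^ (n - 1)) (2 ^ (n - 1)), 1) with ht
  have hmt : m * t = t * m := comm_of_conj (m2 _ _)
  have het : f (1, u e 0) * t = t * f (1, u e 0) :=
    f_pair_comm (by show 1 * u (2 ^ (n - 1)) (2 ^ (n - 1)) = u (2 ^ (n - 1)) (2 ^ (n - 1)) * 1; rw [one_mul, mul_one])
      (by show u e 0 * 1 = 1 * u e 0; rw [one_mul, mul_one])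
  set c' := f (1, u e 0) * m * c with hc'
  have hc't : c' * t = t * c' := by
    calc c' * t = f (1, u e 0) * m * (c * t) := by rw [hc']; group
      _ = f (1, u e 0) * (m * t) * c := by rw [hct]; group
      _ = (f (1, u e 0) * t) * m * c := by rw [hmt]; group
      _ = t * c' := by rw [het, hc']; group
  have hc'x : c' * f (1, x) * c'⁻¹ = f (u a₁ b₁, x) := by
    calc c' * f (1, x) * c'⁻¹ = f (1, u e 0) * (m * (c * f (1, x) * c⁻¹) * m⁻¹) * (f (1, u e 0))⁻¹ := by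
          rw [hc']; group
      _ = f (1, u e 0) * f (u a₁ b₁, u p q * s) * (f (1, u e 0))⁻¹ := by rw [he, m1]
      _ = f (u a₁ b₁, x) := by
          rw [← map_inv, ← map_mul, ← map_mul, Prod.inv_mk, Prod.mk_mul_mk, Prod.mk_mul_mk, hee, one_mul, inv_one,
            mul_one]
  have hab1 : u a₁ b₁ * u a₁ b₁ = 1 := by
    have e1 : m * f (y₁ * y₁, 1) * m⁻¹ = f (u a₁ b₁ * u a₁ b₁, 1) := by
      have e2 : f (y₁ * y₁, 1) = f (y₁, 1) * f (y₁, 1) := by rw [← map_mul, Prod.mk_mul_mk, mul_one]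
      have e3 : f (u a₁ b₁ * u a₁ b₁, 1) = f (u a₁ b₁, 1) * f (u a₁ b₁, 1) := by
        rw [← map_mul, Prod.mk_mul_mk, mul_one]
      rw [e2, e3, ← m1]; group
    rw [hy1] at e1
    have e4 : ((1 : W), (1 : W)) = 1 := rfl
    rw [e4, map_one, mul_one, mul_inv_cancel] at e1
    exact congrArg Prod.fst (hinj (e1.symm.trans (map_one f).symm))
  have hc's : c' * f (1, u (a + b) (a + b)) = f (1, u (a + b) (a + b)) * c' := by
    apply comm_of_conj
    rw [← hxx]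
    have e1 : f (1, x * x) = f (1, x) * f (1, x) := by rw [← map_mul, Prod.mk_mul_mk, mul_one]
    have e2 : f (u a₁ b₁, x) * f (u a₁ b₁, x) = f (1, x) * f (1, x) := by
      rw [← map_mul, ← map_mul, Prod.mk_mul_mk, Prod.mk_mul_mk, hab1, mul_one]
    calc c' * f (1, x * x) * c'⁻¹ = (c' * f (1, x) * c'⁻¹) * (c' * f (1, x) * c'⁻¹) := by rw [e1]; group
      _ = f (1, x * x) := by rw [hc'x, e2, e1]
  obtain ⟨k1, k2⟩ := key h hγ hc't hc's hc'x
  have h5 := m1 1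
  rw [k1, k2, hc.u_zero] at h5
  have e4 : ((1 : W), (1 : W)) = 1 := rfl
  rw [e4, map_one, conj_eq_one_iff] at h5
  exact congrArg Prod.fst (hinj (h5.trans (map_one f).symm))

end Cfsg.Agent.TypeLFive.CentWR
end

-- part: TypeLFive/CentWRData
section
/-!
# The data `CData` in the wreathed case (S0511, piece (C))
-/

set_option autoImplicit false

namespace Cfsg.Agent.TypeLFive.CentWRData

open Cfsg.Agent.TypeLFive.Model Cfsg.Agent.TypeLFive.Out Cfsg.Agent.TypeLFive.CentWR Cfsg.Agent.TypeLFive.CentData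
open Cfsg.Agent.TwoFusion.WreathedBasic

variable {G W : Type*} [Group G] [Group W] {n : ℕ} {f : W × W →* G} {w : G}
  {u : ZMod (2 ^ n) → ZMod (2 ^ n) → W} {s : W} [Finite G] {P : Sylow 2 G}

/-- `CData` from the normalised fusion data. -/
theorem cdata_of_norm (h : FusWRN (P : Subgroup G) f w u s) :
    CData f (QWR h.fus.coord) (u (2 ^ (n - 1)) (2 ^ (n - 1))) := by
  refine CentWR.cdata h ?_ ?_
  · intro c hc x hx y₁ y₂ he
    exact closed_Q h (DW_u h.fus.coord) (DW_us h.fus.coord) hc hx he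
  · intro c hc x y₁ y₂ he
    exact closed_W h hc he

/-- The data of steps (1)-(3) in the wreathed case. -/
theorem exists_cdata (F : FusWR (P : Subgroup G) f w u s) :
    ∃ f' : W × W →* G, ∃ F' : FusWR (P : Subgroup G) f' w u s, f'.range = f.range ∧
      (∀ a b : W, a * a = 1 → b * b = 1 → f' (a, b) = f (a, b)) ∧
      CData f' (QWR F'.coord) (u (2 ^ (n - 1)) (2 ^ (n - 1))) := by
  obtain ⟨μ, hμ, h1, h2, h3⟩ := exists_norm F
  refine ⟨f.comp (twistHom μ hμ), h3.fus, ?_, ?_, cdata_of_norm h3⟩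
  · -- the ranges
    have hfin : Finite W := F.coord.finite
    have hle : (f.comp (twistHom μ hμ)).range ≤ f.range := by
      rintro _ ⟨p, rfl⟩
      exact ⟨_, rfl⟩
    have hcard : Nat.card (f.comp (twistHom μ hμ)).range = Nat.card f.range := by
      rw [h3.fus.out.wr.card_range, F.out.wr.card_range]
    exact Subgroup.eq_of_le_of_card_ge hle hcard.ge
  · intro a b ha hb
    show f (a * μ b, b * μ a) = f (a, b)
    rw [h1 a ha, h1 b hb, mul_one, mul_one]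

end Cfsg.Agent.TypeLFive.CentWRData
end
end

-- part: TypeLFive/CentAbs
section
prune_inst 0x410200130410020000000001600003c06d4000092006b000159200f42020e9b00c0020f214ca03c1010022a10000400400000005000400000040004000000012080aa500002000104040007801007180c00000000000000000000000000041000000000000
set_option linter.all false
open scoped Cfsg.Agent.FastGrp

-- part: TypeLFive/CentCyc
section
/-!
# Strongly closed subgroups with cyclic quotient

`Q` strongly closed in the Sylow 2-subgroup `T` of `X`, `N` the normal closure of `Q`.  If `(N ∩ T)/Q` is cyclic then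
`N ∩ T = Q`.
-/

set_option autoImplicit false
set_option linter.style.haveILetI false

namespace Cfsg.Agent.TypeLFive.CentCyc

open Subgroup

variable {X : Type*} [Group X]

theorem mem_of_odd_zpow [Finite X] {Q : Subgroup X} {c : X} (hc : ∃ k : ℕ, c ^ 2 ^ k = 1) {i : ℤ} (hi : Odd i)
    (h : c ^ i ∈ Q) : c ∈ Q := by
  obtain ⟨k, hk⟩ := hc
  have hcop : IsCoprime i ((2 : ℤ) ^ k) := by
    apply IsCoprime.pow_right
    rw [Int.isCoprime_iff_gcd_eq_one]
    rw [Int.gcd_comm]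
    have := (Int.prime_two.coprime_iff_not_dvd (n := i)).2 (by
      rw [← even_iff_two_dvd, Int.not_even_iff_odd]; exact hi)
    rwa [Int.isCoprime_iff_gcd_eq_one] at this
  obtain ⟨u, v, huv⟩ := hcop
  have : c = (c ^ i) ^ u * (c ^ ((2 : ℕ) ^ k)) ^ v := by
    rw [← zpow_mul, ← zpow_natCast, ← zpow_mul, ← zpow_add]
    have : i * u + ((2 ^ k : ℕ) : ℤ) * v = 1 := by push_cast; linarith only [huv]
    rw [this, zpow_one]
  rw [this, hk, one_zpow, mul_one]
  exact Q.zpow_mem h u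

theorem zpow_mul_pow_mem {T Q : Subgroup X} (hn : ∀ x ∈ T, ∀ q ∈ Q, x * q * x⁻¹ ∈ Q) {c s : X} (hc : c ∈ T) {i : ℤ}
    (h : c ^ i * s ∈ Q) : ∀ k : ℕ, c ^ (i * k) * s ^ k ∈ Q := by
  intro k
  induction k with
  | zero => simp
  | succ k ih =>
    have e : c ^ (i * (k + 1 : ℕ)) * s ^ (k + 1) =
        (c ^ i * (c ^ (i * k) * s ^ k) * (c ^ i)⁻¹) * (c ^ i * s) := by
      have : i * ((k + 1 : ℕ) : ℤ) = i + i * k := by push_cast; ring
      rw [this, zpow_add, pow_succ]; group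
    rw [e]
    exact mul_mem (hn _ (T.zpow_mem hc i) _ ih) h

variable [Finite X]

/-- Cyclic quotient lemma. -/
theorem mem_of_cyclic (T : Sylow 2 X) {Q : Subgroup X} (hQ : Cfsg.IsStronglyClosed Q (T : Subgroup X)) {c : X}
    (hcT : c ∈ (T : Subgroup X)) (hcN : c ∈ normalClosure (Q : Set X))
    (hcyc : ∀ x ∈ (T : Subgroup X), x ∈ normalClosure (Q : Set X) → ∃ i : ℤ, c ^ i * x ∈ Q) :
    ∀ x ∈ (T : Subgroup X), x ∈ normalClosure (Q : Set X) → x ∈ Q := by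
  classical
  haveI : Fact (Nat.Prime 2) := ⟨Nat.prime_two⟩
  suffices hcQ : c ∈ Q by
    intro x hx hxN
    obtain ⟨i, hi⟩ := hcyc x hx hxN
    have := mul_mem (inv_mem (Q.zpow_mem hcQ i)) hi
    rwa [inv_mul_cancel_left] at this
  by_contra hcQ
  have hQT := hQ.1
  have hsc := hQ.2
  have hn : ∀ x ∈ (T : Subgroup X), ∀ q ∈ Q, x * q * x⁻¹ ∈ Q := fun x hx q hq =>
    hsc q hq x (mul_mem (mul_mem hx (hQT hq)) (inv_mem hx))
  have hc2 : ∃ k : ℕ, c ^ 2 ^ k = 1 := by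
    obtain ⟨k, hk⟩ := T.2 ⟨c, hcT⟩
    exact ⟨k, congrArg Subtype.val hk⟩
  have hex : ∃ m : ℕ, c ^ 2 ^ m ∈ Q := by
    obtain ⟨k, hk⟩ := hc2
    exact ⟨k, by rw [hk]; exact one_mem _⟩
  set m := Nat.find hex with hm
  have hm1 : c ^ 2 ^ m ∈ Q := Nat.find_spec hex
  have hm0 : m ≠ 0 := by
    intro h0
    rw [h0] at hm1
    exact hcQ (by simpa using hm1)
  obtain ⟨l, hl⟩ := Nat.exists_eq_succ_of_ne_zero hm0
  set a := 2 ^ l with ha
  have hca : c ^ a ∉ Q := Nat.find_min hex (m := l) (by omega)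
  have h2a : c ^ (2 * a) ∈ Q := by
    have : 2 * a = 2 ^ m := by rw [hl, Nat.succ_eq_add_one, pow_succ, ha, mul_comm]
    rw [this]; exact hm1
  -- parity
  have hpar : ∀ (s : X) (i : ℤ), c ^ i * s ∈ Q → (s ^ a ∈ Q ↔ Even i) := by
    intro s i his
    have h1 := zpow_mul_pow_mem hn hcT his a
    have h2 : s ^ a ∈ Q ↔ c ^ (i * a) ∈ Q := by
      constructor
      · intro hs
        have := mul_mem h1 (inv_mem hs)
        rwa [mul_inv_cancel_right] at this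
      · intro hs
        have := mul_mem (inv_mem hs) h1
        rwa [inv_mul_cancel_left] at this
    rw [h2]
    constructor
    · intro h3
      by_contra h4
      rw [Int.not_even_iff_odd] at h4
      apply hca
      refine mem_of_odd_zpow (Q := Q) (c := c ^ a) ?_ h4 ?_
      · obtain ⟨k, hk⟩ := hc2
        exact ⟨k, by rw [← pow_mul, mul_comm, pow_mul, hk, one_pow]⟩
      · rw [← zpow_natCast, ← zpow_mul, mul_comm]; exact h3
    · rintro ⟨j, rfl⟩
      have : (j + j) * (a : ℤ) = ((2 * a : ℕ) : ℤ) * j := by push_cast; ring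
      rw [this, zpow_mul, zpow_natCast]
      exact Q.zpow_mem h2a j
  set N := normalClosure (Q : Set X) with hN
  have hQN : Q ≤ N := fun x hx => subset_normalClosure hx
  haveI hNn : N.Normal := normalClosure_normal
  obtain ⟨P, hP⟩ := Cfsg.Agent.S0542.result 2 N hNn.isSubnormal T
  have hPm : ∀ x : N, x ∈ (P : Subgroup N) ↔ (x : X) ∈ (T : Subgroup X) := by
    intro x; rw [hP, mem_subgroupOf]
  let D : Subgroup N :=
    { carrier := {x | (x : X) ∈ (T : Subgroup X) ∧ ∃ i : ℤ, c ^ (2 * i) * (x : X) ∈ Q}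
      one_mem' := ⟨by simp [one_mem], 0, by simp only [_root_.MulZeroClass.mul_zero, _root_.zpow_ofNat, _root_.pow_zero, _root_.OneMemClass.coe_one, _root_.mul_one, _root_.OneMemClass.one_mem]⟩
      mul_mem' := by
        rintro x y ⟨hx, i, hi⟩ ⟨hy, j, hj⟩
        refine ⟨by rw [coe_mul]; exact mul_mem hx hy, i + j, ?_⟩
        have e : c ^ (2 * (i + j)) * ((x * y : N) : X) =
            (c ^ (2 * j) * (c ^ (2 * i) * (x : X)) * (c ^ (2 * j))⁻¹) * (c ^ (2 * j) * (y : X)) := by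
          have : 2 * (i + j) = 2 * j + 2 * i := by ring
          rw [this, zpow_add, coe_mul]; group
        rw [e]
        exact mul_mem (hn _ (zpow_mem hcT _) _ hi) hj
      inv_mem' := by
        rintro x ⟨hx, i, hi⟩
        refine ⟨by rw [coe_inv]; exact inv_mem hx, -i, ?_⟩
        have e : c ^ (2 * -i) * ((x⁻¹ : N) : X) = (x : X) * 1 * (c ^ (2 * i) * x)⁻¹ * (x : X)⁻¹ := by
          have : 2 * -i = -(2 * i) := by ring
          rw [this, zpow_neg, coe_inv]; group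
        rw [e, mul_one]
        exact hn _ hx _ (inv_mem hi) }
  have hDm : ∀ x : N, x ∈ D ↔ (x : X) ∈ (T : Subgroup X) ∧ ∃ i : ℤ, c ^ (2 * i) * (x : X) ∈ Q := fun x => Iff.rfl
  obtain ⟨K, hKn, -, hKD⟩ := Cfsg.Agent.TwoFusion.TransferIndex.exists_normal_of_fusion P D
    (fun x hx => (hPm x).2 hx.1) (by
      intro s hs g hgs
      replace hs := (hPm s).1 hs
      replace hgs := (hPm _).1 hgs
      obtain ⟨i, hi⟩ := hcyc s hs s.2
      obtain ⟨j, hj⟩ := hcyc _ hgs (g * s * g⁻¹).2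
      have h1 := hpar _ i hi
      have h2 := hpar _ j hj
      have h3 : ((s : X) ^ a ∈ Q) ↔ (((g * s * g⁻¹ : N) : X) ^ a ∈ Q) := by
        have e : ((g * s * g⁻¹ : N) : X) ^ a = (g : X) * (s : X) ^ a * (g : X)⁻¹ := by
          rw [coe_mul, coe_mul, coe_inv, conj_pow]
        constructor
        · intro h
          rw [e]
          refine hsc _ h _ ?_
          rw [← e]
          exact pow_mem hgs a
        · intro h
          rw [e] at h
          have := hsc _ h (g : X)⁻¹ (by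
            have e2 : (g : X)⁻¹ * ((g : X) * (s : X) ^ a * (g : X)⁻¹) * (g : X)⁻¹⁻¹ = (s : X) ^ a := by group
            rw [e2]; exact pow_mem hs a)
          have e2 : (g : X)⁻¹ * ((g : X) * (s : X) ^ a * (g : X)⁻¹) * (g : X)⁻¹⁻¹ = (s : X) ^ a := by group
          rwa [e2] at this
      have h4 : Even i ↔ Even j := by rw [← h1, ← h2]; exact h3
      have h5 : Even (j - i) := by rw [Int.even_sub]; exact h4.symm
      obtain ⟨r, hr⟩ := h5
      rw [hDm]
      refine ⟨?_, r, ?_⟩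
      · rw [coe_mul, coe_inv]; exact mul_mem (inv_mem hs) hgs
      · have hri : 2 * r = j - i := by rw [hr]; ring
        have e : c ^ (2 * r) * ((s⁻¹ * (g * s * g⁻¹) : N) : X) =
            (c ^ (j - i) * (c ^ i * (s : X))⁻¹ * (c ^ (j - i))⁻¹) * (c ^ j * ((g * s * g⁻¹ : N) : X)) := by
          rw [hri, coe_mul, coe_inv]
          have : j - i = j + -i := by ring
          rw [this, zpow_add, zpow_neg]; group
        rw [e]
        exact mul_mem (hn _ (zpow_mem hcT _) _ (inv_mem hi)) hj)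
  -- every conjugate of `Q` lies in `K`
  have hQK : ∀ (x : N), (x : X) ∈ Q → x ∈ K := by
    intro x hx
    have : x ∈ K ⊓ (P : Subgroup N) := by
      rw [hKD, hDm]
      exact ⟨hQT hx, 0, by simpa using hx⟩
    exact this.1
  have hall : N ≤ K.map N.subtype := by
    have hKle : ∀ (g : X), ∀ q ∈ Q, g * q * g⁻¹ ∈ K.map N.subtype := by
      intro g q hq
      -- the conjugate of `Q` as a subgroup of `N`
      let R : Subgroup N := (Q.map (MulAut.conj g).toMonoidHom).subgroupOf N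
      have hRp : IsPGroup 2 R := by
        rintro ⟨⟨y, hyN⟩, hy⟩
        obtain ⟨q', hq', hqy⟩ := hy
        obtain ⟨k, hk⟩ := T.2 ⟨q', hQT hq'⟩
        refine ⟨k, Subtype.ext (Subtype.ext ?_)⟩
        change y ^ 2 ^ k = 1
        have hk' : q' ^ 2 ^ k = 1 := congrArg Subtype.val hk
        have hy' : y = g * q' * g⁻¹ := by rw [← show (MulAut.conj g).toMonoidHom q' = y from hqy]; simp
        rw [hy', conj_pow, hk']; simp
      obtain ⟨P', hP'⟩ := hRp.exists_le_sylow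
      obtain ⟨n, hn'⟩ := MulAction.exists_smul_eq N P' P
      have hgq : g * q * g⁻¹ ∈ N := hNn.conj_mem _ (hQN hq) g
      have h1 : (⟨g * q * g⁻¹, hgq⟩ : N) ∈ R := ⟨q, hq, by simp⟩
      have h2 : n * ⟨g * q * g⁻¹, hgq⟩ * n⁻¹ ∈ (P : Subgroup N) := by
        rw [← hn']
        exact ⟨_, hP' h1, rfl⟩
      replace h2 := (hPm _).1 h2
      have h3 : ((n * ⟨g * q * g⁻¹, hgq⟩ * n⁻¹ : N) : X) ∈ Q := by
        have e : ((n * ⟨g * q * g⁻¹, hgq⟩ * n⁻¹ : N) : X) = ((n : X) * g) * q * ((n : X) * g)⁻¹ := by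
          push_cast; group
        rw [e] at h2 ⊢
        exact hsc q hq _ h2
      have h4 := hQK _ h3
      have h5 := hKn.conj_mem _ h4 n⁻¹
      have e : n⁻¹ * (n * ⟨g * q * g⁻¹, hgq⟩ * n⁻¹) * n⁻¹⁻¹ = (⟨g * q * g⁻¹, hgq⟩ : N) := by group
      rw [e] at h5
      exact ⟨_, h5, rfl⟩
    have hcl : N = _root_.Subgroup.closure (Group.conjugatesOfSet (Q : Set X)) := rfl
    refine hcl.le.trans ?_
    rw [closure_le]
    intro y hy
    rw [Group.mem_conjugatesOfSet_iff] at hy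
    obtain ⟨q, hq, hqy⟩ := hy
    obtain ⟨g, hg⟩ := isConj_iff.1 hqy
    rw [← hg]
    exact hKle g q hq
  obtain ⟨y, hy, hyc⟩ := hall hcN
  have hyc' : (y : X) = c := hyc
  have h1 : y ∈ K ⊓ (P : Subgroup N) := mem_inf.2 ⟨hy, (hPm y).2 (by rw [hyc']; exact hcT)⟩
  rw [hKD, hDm, hyc'] at h1
  obtain ⟨-, i, hi⟩ := h1
  apply hcQ
  refine mem_of_odd_zpow hc2 (i := 2 * i + 1) ⟨i, rfl⟩ ?_
  rw [zpow_add, zpow_one]; exact hi

end Cfsg.Agent.TypeLFive.CentCyc
end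

-- part: TypeLFive/CentAbs
section
/-!
# The abstract centraliser structure (S0511, piece (C), step (4))

`X` is a finite group with `O(X) = 1` and Sylow 2-subgroup `T = W1 * W2` (commuting factors meeting trivially),
`Q1 ≤ W1` and `W2` are strongly closed in `T`, and their normal closures `K`, `J` commute.  Then
`J ∩ T = W2`, `J` is simple, `X = J C_X(W2)`, `K ∩ J = 1` and `K ∩ T = Q1`.
-/

set_option autoImplicit false

namespace Cfsg.Agent.TypeLFive.CentAbs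

open Subgroup

/-- The hypotheses of step (4). -/
structure CHyp {X : Type*} [Group X] (T : Sylow 2 X) (W1 W2 Q1 : Subgroup X) : Prop where
  core : Cfsg.oddCore X = ⊥
  comm : ∀ a ∈ W1, ∀ b ∈ W2, a * b = b * a
  leT : W1 ≤ T
  fac : ∀ x ∈ (T : Subgroup X), ∃ a ∈ W1, ∃ b ∈ W2, x = a * b
  inf : ∀ x ∈ W1, x ∈ W2 → x = 1
  leW : Q1 ≤ W1
  clQ : Cfsg.IsStronglyClosed Q1 (T : Subgroup X)
  clW : Cfsg.IsStronglyClosed W2 (T : Subgroup X)
  centQ : ∃ c : X, ∀ x ∈ W1, (∀ q ∈ Q1, x * q = q * x) → x ∈ zpowers c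
  quoQ : ∃ w ∈ W1, ∀ x ∈ W1, ∃ i : ℤ, w ^ i * x ∈ Q1
  aut : ∀ g : X, Odd (orderOf g) → (∀ x, x ∈ W2 ↔ g * x * g⁻¹ ∈ W2) → ∀ x ∈ W2, g * x = x * g
  type : Cfsg.IsQuasiDihedral W2 ∨ Cfsg.IsWreathed W2
  gen : ∀ H : Subgroup X, (∀ x ∈ W2, ∀ g : X, g * x * g⁻¹ ∈ W2 → x⁻¹ * (g * x * g⁻¹) ∈ H) → W2 ≤ H
  kj : ∀ x ∈ normalClosure (Q1 : Set X), ∀ y ∈ normalClosure (W2 : Set X), x * y = y * x

variable {X : Type*} [Group X] [Finite X] {T : Sylow 2 X} {W1 W2 Q1 : Subgroup X}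

omit [Finite X] in
/-- elements of the join of two commuting subgroups. -/
theorem exists_of_mem_sup {A B : Subgroup X} (hc : ∀ a ∈ A, ∀ b ∈ B, a * b = b * a) {g : X} (hg : g ∈ A ⊔ B) :
    ∃ a ∈ A, ∃ b ∈ B, g = a * b := by
  let S : Subgroup X :=
    { carrier := {g | ∃ a ∈ A, ∃ b ∈ B, g = a * b}
      one_mem' := ⟨1, one_mem _, 1, one_mem _, by simp⟩
      mul_mem' := by
        rintro _ _ ⟨a, ha, b, hb, rfl⟩ ⟨a', ha', b', hb', rfl⟩
        refine ⟨a * a', mul_mem ha ha', b * b', mul_mem hb hb', ?_⟩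
        have := hc a' ha' b hb
        calc a * b * (a' * b') = a * (b * a') * b' := by group
          _ = a * (a' * b) * b' := by rw [this]
          _ = a * a' * (b * b') := by group
      inv_mem' := by
        rintro _ ⟨a, ha, b, hb, rfl⟩
        refine ⟨a⁻¹, inv_mem ha, b⁻¹, inv_mem hb, ?_⟩
        rw [mul_inv_rev, hc _ (inv_mem ha) _ (inv_mem hb)] }
  have h1 : A ⊔ B ≤ S := by
    apply sup_le
    · intro a ha; exact ⟨a, ha, 1, one_mem _, by simp⟩
    · intro b hb; exact ⟨1, one_mem _, b, hb, by simp⟩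
  exact h1 hg

namespace CHyp

omit [Finite X] in
theorem le_J (_h : CHyp T W1 W2 Q1) : W2 ≤ normalClosure (W2 : Set X) := subset_normalClosure

omit [Finite X] in
theorem le_K (_h : CHyp T W1 W2 Q1) : Q1 ≤ normalClosure (Q1 : Set X) := subset_normalClosure

/-- (b) `J ∩ T = W2`. -/
theorem mem_W2 (h : CHyp T W1 W2 Q1) {x : X} (hx : x ∈ (T : Subgroup X))
    (hJ : x ∈ normalClosure (W2 : Set X)) : x ∈ W2 := by
  set J := normalClosure (W2 : Set X) with hJd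
  obtain ⟨c, hc⟩ := h.centQ
  -- `J ∩ W1` is cyclic
  have h1 : J ⊓ W1 ≤ zpowers c := by
    intro y hy
    refine hc y hy.2 fun q hq => ?_
    exact (h.kj q (h.le_K hq) y hy.1).symm
  obtain ⟨d, hd⟩ : ∃ d : X, zpowers d = J ⊓ W1 := by
    have : IsCyclic ↥(zpowers c) := inferInstance
    obtain ⟨g, hg⟩ := IsCyclic.exists_generator (α := ↥((J ⊓ W1).subgroupOf (zpowers c)))
    refine ⟨((g : ↥(zpowers c)) : X), ?_⟩
    apply le_antisymm
    · rw [zpowers_le]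
      exact mem_subgroupOf.1 g.2
    · intro y hy
      obtain ⟨k, hk⟩ := mem_zpowers_iff.1 (hg ⟨⟨y, h1 hy⟩, mem_subgroupOf.2 hy⟩)
      refine mem_zpowers_iff.2 ⟨k, ?_⟩
      have := congrArg (fun z : ↥((J ⊓ W1).subgroupOf (zpowers c)) => ((z : ↥(zpowers c)) : X)) hk
      simpa using this
  have hdm : d ∈ J ⊓ W1 := by rw [← hd]; exact mem_zpowers d
  refine CentCyc.mem_of_cyclic T h.clW (c := d) (h.leT hdm.2) hdm.1 ?_ x hx hJ
  intro y hy hyJ
  obtain ⟨a, ha, b, hb, rfl⟩ := h.fac y hy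
  have haJ : a ∈ J := by
    have := mul_mem hyJ (inv_mem (h.le_J hb))
    rwa [mul_inv_cancel_right] at this
  have : a ∈ zpowers d := by rw [hd]; exact ⟨haJ, ha⟩
  obtain ⟨k, hk⟩ := mem_zpowers_iff.1 this
  refine ⟨-k, ?_⟩
  rw [zpow_neg, hk, inv_mul_cancel_left]
  exact hb

/-- The Sylow 2-subgroup of `J`. -/
theorem exists_sylow_J (h : CHyp T W1 W2 Q1) :
    ∃ P : Sylow 2 ↥(normalClosure (W2 : Set X)),
      (P : Subgroup ↥(normalClosure (W2 : Set X))) = W2.subgroupOf (normalClosure (W2 : Set X)) := by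
  have : Fact (Nat.Prime 2) := ⟨Nat.prime_two⟩
  obtain ⟨P, hP⟩ := Cfsg.Agent.S0542.result 2 (normalClosure (W2 : Set X))
    (Subgroup.Normal.isSubnormal inferInstance) T
  refine ⟨P, ?_⟩
  rw [hP]
  ext x
  rw [mem_subgroupOf, mem_subgroupOf]
  exact ⟨fun hx => h.mem_W2 hx x.2, fun hx => h.clW.1 hx⟩

/-- A finite group generated modulo ... : an element normalising `W2` is a product of an element of `W2` and one
centralising `W2`. -/
theorem norm_fac (h : CHyp T W1 W2 Q1) {g : X} (hg : ∀ x, x ∈ W2 ↔ g * x * g⁻¹ ∈ W2) :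
    ∃ b ∈ W2, ∀ x ∈ W2, (b⁻¹ * g) * x = x * (b⁻¹ * g) := by
  classical
  have : Fact (Nat.Prime 2) := ⟨Nat.prime_two⟩
  set N := Subgroup.normalizer (W2 : Set X) with hN
  set C := Subgroup.centralizer (W2 : Set X) with hC
  have hTN : (T : Subgroup X) ≤ N := by
    intro x hx
    rw [hN, mem_normalizer_iff]
    intro y
    constructor
    · intro hy
      exact h.clW.2 y hy x (mul_mem (mul_mem hx (h.clW.1 hy)) (inv_mem hx))
    · intro hy
      have := h.clW.2 _ hy x⁻¹ (by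
        have h1 : x⁻¹ * (x * y * x⁻¹) * x⁻¹⁻¹ = y := by group
        rw [h1]
        have h2 : y = x⁻¹ * (x * y * x⁻¹) * x := by group
        rw [h2]
        exact mul_mem (mul_mem (inv_mem hx) (h.clW.1 hy)) hx)
      have h1 : x⁻¹ * (x * y * x⁻¹) * x⁻¹⁻¹ = y := by group
      rwa [h1] at this
  -- the subgroup `D = W2 * C` of `N`
  have hD : ∀ g ∈ N, g ∈ W2 ⊔ C := by
    -- `D` is normal in `N`
    have hWN : W2 ≤ N := h.clW.1.trans hTN
    have hCN : C ≤ N := centralizer_le_normalizer _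
    -- work in `N`
    set D : Subgroup ↥N := (W2 ⊔ C).subgroupOf N with hDd
    have hDn : D.Normal := by
      have h1 : (W2.subgroupOf N).Normal := by
        rw [hN]; infer_instance
      have h2 : (C.subgroupOf N).Normal := by
        constructor
        intro n hn g
        rw [mem_subgroupOf, hC, mem_centralizer_iff] at hn ⊢
        intro x hx
        have hx' : (g : X)⁻¹ * x * g ∈ W2 := by
          have := (mem_normalizer_iff.1 (inv_mem g.2) x).1 hx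
          simpa using this
        have h3 := hn _ hx'
        calc x * ((g * n * g⁻¹ : ↥N) : X) = g * (((g : X)⁻¹ * x * g) * n) * (g : X)⁻¹ := by
              push_cast; group
          _ = g * (n * ((g : X)⁻¹ * x * g)) * (g : X)⁻¹ := by rw [h3]
          _ = ((g * n * g⁻¹ : ↥N) : X) * x := by push_cast; group
      have h3 : D = W2.subgroupOf N ⊔ C.subgroupOf N := by
        rw [hDd, Subgroup.subgroupOf_sup hWN hCN]
      rw [h3]
      infer_instance
    -- every element of `N ⧸ D` is trivial: it is generated by odd order elements and 2-elements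
    have hTD : ∀ x : ↥N, (x : X) ∈ (T : Subgroup X) → x ∈ D := by
      intro x hx
      obtain ⟨a, ha, b, hb, hab⟩ := h.fac x hx
      rw [hDd, mem_subgroupOf, hab]
      refine mul_mem ?_ (mem_sup_left hb)
      apply mem_sup_right
      rw [hC, mem_centralizer_iff]
      intro y hy
      exact (h.comm a ha y hy).symm
    have hodd : ∀ x : ↥N, Odd (orderOf x) → x ∈ D := by
      intro x hx
      rw [hDd, mem_subgroupOf]
      apply mem_sup_right
      rw [hC, mem_centralizer_iff]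
      intro y hy
      refine (h.aut (x : X) ?_ ?_ y hy).symm
      · rw [orderOf_coe]; exact hx
      · intro z; exact mem_normalizer_iff.1 x.2 z
    -- `D` contains a Sylow 2-subgroup, so its index is odd
    have hidx : Odd D.index := by
      rw [← Nat.not_even_iff_odd, even_iff_two_dvd]
      intro h2
      have h3 : ((T : Subgroup X).subgroupOf N).index ∣ (T : Subgroup X).index := by
        have := Subgroup.relIndex_dvd_index_of_le hTN
        exact this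
      have h4 : D.index ∣ ((T : Subgroup X).subgroupOf N).index :=
        Subgroup.index_dvd_of_le fun x hx => hTD x (mem_subgroupOf.1 hx)
      exact T.not_dvd_index ((h2.trans h4).trans h3)
    intro g hg
    -- the quotient has odd order
    have hq : ∀ x : ↥N, x ∈ D := by
      intro x
      -- `x ^ (2^k)` has odd order
      obtain ⟨k, m, hm, hkm⟩ : ∃ k m : ℕ, Odd m ∧ orderOf x = 2 ^ k * m := by
        obtain ⟨k, m, hm, hkm⟩ := Nat.exists_eq_two_pow_mul_odd (orderOf_pos x).ne'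
        exact ⟨k, m, hm, hkm⟩
      have h5 : x ^ 2 ^ k ∈ D := by
        apply hodd
        have : orderOf (x ^ 2 ^ k) = m := by
          rw [orderOf_pow_of_dvd (by positivity) (by rw [hkm]; exact Dvd.intro _ rfl), hkm]
          exact Nat.mul_div_cancel_left _ (by positivity)
        rw [this]; exact hm
      have h6 : x ^ D.index ∈ D := Subgroup.pow_index_mem D x
      have hcop : Nat.Coprime (2 ^ k) D.index := by
        apply Nat.Coprime.pow_left
        exact (Nat.coprime_two_left).2 hidx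
      have h7 : (QuotientGroup.mk x : ↥N ⧸ D) = 1 := by
        have e1 : (QuotientGroup.mk x : ↥N ⧸ D) ^ 2 ^ k = 1 := by
          rw [← QuotientGroup.mk_pow]; exact (QuotientGroup.eq_one_iff _).2 h5
        have e2 : (QuotientGroup.mk x : ↥N ⧸ D) ^ D.index = 1 := by
          rw [← QuotientGroup.mk_pow]; exact (QuotientGroup.eq_one_iff _).2 h6
        have e3 := Nat.dvd_gcd (orderOf_dvd_of_pow_eq_one e1) (orderOf_dvd_of_pow_eq_one e2)
        rw [hcop.gcd_eq_one, Nat.dvd_one] at e3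
        exact orderOf_eq_one_iff.1 e3
      exact (QuotientGroup.eq_one_iff _).1 h7
    exact mem_subgroupOf.1 (hq ⟨g, hg⟩)
  have hgN : g ∈ N := by
    rw [hN, mem_normalizer_iff]
    exact hg
  have hsup := hD g hgN
  have hcomm : ∀ b ∈ W2, ∀ c ∈ C, b * c = c * b := fun b hb c hc => mem_centralizer_iff.1 hc b hb
  have hfac : ∃ b ∈ W2, ∃ c ∈ C, g = b * c := exists_of_mem_sup hcomm hsup
  obtain ⟨b, hb, c, hc, rfl⟩ := hfac
  refine ⟨b, hb, fun x hx => ?_⟩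
  rw [inv_mul_cancel_left]
  exact (hcomm x hx c hc).symm

/-- (f) `X = J C_X(W2)`. -/
theorem exists_fac (h : CHyp T W1 W2 Q1) (g : X) :
    ∃ j ∈ normalClosure (W2 : Set X), ∃ c : X, (∀ x ∈ W2, c * x = x * c) ∧ g = j * c := by
  have : Fact (Nat.Prime 2) := ⟨Nat.prime_two⟩
  obtain ⟨P, hP⟩ := h.exists_sylow_J
  have hmap : (P : Subgroup ↥(normalClosure (W2 : Set X))).map (normalClosure (W2 : Set X)).subtype = W2 := by
    rw [hP, subgroupOf_map_subtype, inf_eq_left.2 h.le_J]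
  have hF := Sylow.normalizer_sup_eq_top P
  rw [hmap] at hF
  have hg : g ∈ Subgroup.normalizer (W2 : Set X) ⊔ normalClosure (W2 : Set X) := by rw [hF]; exact mem_top _
  rw [mem_sup_of_normal_right] at hg
  obtain ⟨n, hn, j, hj, rfl⟩ := hg
  obtain ⟨b, hb, hbc⟩ := h.norm_fac (g := n) (fun x => mem_normalizer_iff.1 hn x)
  refine ⟨n * j * n⁻¹ * b, ?_, b⁻¹ * n, hbc, by group⟩
  exact mul_mem (normalClosure_normal.conj_mem j hj n) (h.le_J hb)

/-- `J` lies in every subgroup of `J` containing `W2` normalised by `J`. -/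
theorem J_le (h : CHyp T W1 W2 Q1) {L : Subgroup X} (hL : W2 ≤ L)
    (hn : ∀ j ∈ normalClosure (W2 : Set X), ∀ l ∈ L, j * l * j⁻¹ ∈ L) : normalClosure (W2 : Set X) ≤ L := by
  rw [normalClosure, closure_le]
  intro x hx
  obtain ⟨y, hy, hyx⟩ := Group.mem_conjugatesOfSet_iff.1 hx
  obtain ⟨g, rfl⟩ := isConj_iff.1 hyx
  obtain ⟨j, hj, c, hc, rfl⟩ := h.exists_fac g
  have h1 : j * c * y * (j * c)⁻¹ = j * y * j⁻¹ := by
    calc j * c * y * (j * c)⁻¹ = j * (c * y) * c⁻¹ * j⁻¹ := by group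
      _ = j * (y * c) * c⁻¹ * j⁻¹ := by rw [hc y hy]
      _ = j * y * j⁻¹ := by group
  rw [h1]
  exact hn j hj y (hL hy)

/-- `J` has no subgroup of index 2. -/
theorem no_index_two (h : CHyp T W1 W2 Q1) : ∀ H : Subgroup ↥(normalClosure (W2 : Set X)), H.index ≠ 2 := by
  set J := normalClosure (W2 : Set X) with hJ
  intro H hH
  have hHn : H.Normal := Subgroup.normal_of_index_eq_two hH
  -- commutators of `J` are in `H`
  have hcomm : ∀ a b : ↥J, a * b * a⁻¹ * b⁻¹ ∈ H := by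
    intro a b
    have h1 : ∀ z : ↥J, z * z ∈ H := by
      intro z; rw [← sq]; rw [← hH]; exact Subgroup.pow_index_mem H z
    have hm := fun x y => Subgroup.mul_mem_iff_of_index_two hH (a := x) (b := y)
    rw [hm, hm, hm, inv_mem_iff, inv_mem_iff]
    (clear * -; tauto)
  have h2 : W2 ≤ H.map J.subtype := by
    apply h.gen
    intro x hx g hg
    obtain ⟨j, hj, c, hc, rfl⟩ := h.exists_fac g
    have h1 : j * c * x * (j * c)⁻¹ = j * x * j⁻¹ := by
      calc j * c * x * (j * c)⁻¹ = j * (c * x) * c⁻¹ * j⁻¹ := by group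
        _ = j * (x * c) * c⁻¹ * j⁻¹ := by rw [hc x hx]
        _ = j * x * j⁻¹ := by group
    rw [h1]
    refine ⟨(⟨x, h.le_J hx⟩ : ↥J)⁻¹ * (⟨j, hj⟩ * ⟨x, h.le_J hx⟩ * (⟨j, hj⟩ : ↥J)⁻¹), ?_, rfl⟩
    have := hcomm (⟨x, h.le_J hx⟩ : ↥J)⁻¹ ⟨j, hj⟩
    rw [inv_inv] at this
    have e : (⟨x, h.le_J hx⟩ : ↥J)⁻¹ * (⟨j, hj⟩ * ⟨x, h.le_J hx⟩ * (⟨j, hj⟩ : ↥J)⁻¹) =
        (⟨x, h.le_J hx⟩ : ↥J)⁻¹ * ⟨j, hj⟩ * ⟨x, h.le_J hx⟩ * (⟨j, hj⟩ : ↥J)⁻¹ := by group
    rw [e]; exact this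
  have h3 : J ≤ H.map J.subtype := by
    refine h.J_le h2 ?_
    rintro j hj _ ⟨l, hl, rfl⟩
    exact ⟨⟨j, hj⟩ * l * ⟨j, hj⟩⁻¹, hHn.conj_mem l hl _, rfl⟩
  have h4 : H = ⊤ := by
    rw [eq_top_iff]
    intro x _
    obtain ⟨y, hy, hyx⟩ := h3 x.2
    have : y = x := Subtype.ext hyx
    rwa [← this]
  rw [h4, index_top] at hH
  omega

/-- `O(J) = 1`. -/
theorem core_J (h : CHyp T W1 W2 Q1) : Cfsg.pPrimeCore 2 ↥(normalClosure (W2 : Set X)) = ⊥ := by
  have h1 := Lib.Cores.map_subtype_pPrimeCore (G := X) 2 (N := normalClosure (W2 : Set X)) normalClosure_normal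
  have h2 : Cfsg.pPrimeCore 2 X = ⊥ := h.core
  rw [h2, inf_bot_eq, Subgroup.map_eq_bot_iff, ker_subtype, le_bot_iff] at h1
  exact h1

/-- (c) `J` is simple and not commutative. -/
theorem simple_J (h : CHyp T W1 W2 Q1) :
    IsSimpleGroup ↥(normalClosure (W2 : Set X)) ∧ ¬ IsMulCommutative ↥(normalClosure (W2 : Set X)) := by
  have : Fact (Nat.Prime 2) := ⟨Nat.prime_two⟩
  set J := normalClosure (W2 : Set X) with hJ
  obtain ⟨P, hP⟩ := h.exists_sylow_J
  have e : ↥W2 ≃* ↥(P : Subgroup ↥J) := by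
    rw [hP]
    exact (Subgroup.subgroupOfEquivOfLe h.le_J).symm
  have hType : Cfsg.IsQuasiDihedral (P : Subgroup ↥J) ∨ Cfsg.IsWreathed (P : Subgroup ↥J) := by
    rcases h.type with h1 | h1
    · exact Or.inl (TwoFusion.SylowTypeTransfer.isQuasiDihedral_of_mulEquiv e h1)
    · exact Or.inr (TwoFusion.SylowTypeTransfer.isWreathed_of_mulEquiv e h1)
  obtain ⟨L, hLn, hLo, hLs, hLc⟩ :=
    TwoFusion.SimpleOddIndex.exists_simple_of_core_free P hType h.no_index_two h.core_J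
  have hLtop : L = ⊤ := by
    have hPL : (P : Subgroup ↥J) ≤ L := by
      intro x hx
      obtain ⟨k, hk⟩ := IsPGroup.iff_orderOf.1 P.isPGroup' ⟨x, hx⟩
      have hk' : x ^ 2 ^ k = 1 := by
        rw [Subgroup.orderOf_mk] at hk
        rw [← hk]; exact pow_orderOf_eq_one x
      have e1 : (QuotientGroup.mk x : ↥J ⧸ L) ^ 2 ^ k = 1 := by
        rw [← QuotientGroup.mk_pow]; exact (QuotientGroup.eq_one_iff _).2 (by rw [hk']; exact one_mem _)
      have e2 : (QuotientGroup.mk x : ↥J ⧸ L) ^ L.index = 1 := by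
        rw [← QuotientGroup.mk_pow]; exact (QuotientGroup.eq_one_iff _).2 (Subgroup.pow_index_mem L x)
      have hcop : Nat.Coprime (2 ^ k) L.index := by
        apply Nat.Coprime.pow_left
        exact (Nat.coprime_two_left).2 hLo
      have e3 := Nat.dvd_gcd (orderOf_dvd_of_pow_eq_one e1) (orderOf_dvd_of_pow_eq_one e2)
      rw [hcop.gcd_eq_one, Nat.dvd_one] at e3
      exact (QuotientGroup.eq_one_iff _).1 (orderOf_eq_one_iff.1 e3)
    have h2 : W2 ≤ L.map J.subtype := by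
      intro x hx
      refine ⟨⟨x, h.le_J hx⟩, hPL ?_, rfl⟩
      rw [hP, mem_subgroupOf]
      exact hx
    have h3 : J ≤ L.map J.subtype := by
      refine h.J_le h2 ?_
      rintro j hj _ ⟨l, hl, rfl⟩
      exact ⟨⟨j, hj⟩ * l * ⟨j, hj⟩⁻¹, hLn.conj_mem l hl _, rfl⟩
    rw [eq_top_iff]
    intro x _
    obtain ⟨y, hy, hyx⟩ := h3 x.2
    have : y = x := Subtype.ext hyx
    rwa [← this]
  rw [hLtop] at hLs hLc
  have eT : ↥(⊤ : Subgroup ↥J) ≃* ↥J := Subgroup.topEquiv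
  constructor
  · exact eT.isSimpleGroup_congr.1 hLs
  · intro hc
    apply hLc
    constructor
    constructor
    intro a b
    apply Subtype.ext
    have := hc.is_comm.comm (a : ↥J) (b : ↥J)
    simpa only [_root_.Subgroup.coe_mul] using this

/-- (d) `K ∩ J = 1`. -/
theorem K_inf_J (h : CHyp T W1 W2 Q1) {x : X} (hK : x ∈ normalClosure (Q1 : Set X))
    (hJ : x ∈ normalClosure (W2 : Set X)) : x = 1 := by
  obtain ⟨hs, hc⟩ := h.simple_J
  set J := normalClosure (W2 : Set X) with hJd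
  have h1 : (⟨x, hJ⟩ : ↥J) ∈ center ↥J := by
    rw [mem_center_iff]
    intro y
    exact Subtype.ext (h.kj x hK y y.2).symm
  rcases (inferInstance : (center ↥J).Normal).eq_bot_or_eq_top with h2 | h2
  · rw [h2, mem_bot] at h1
    exact congrArg Subtype.val h1
  · exfalso
    apply hc
    constructor
    constructor
    intro a b
    have := (mem_center_iff.1 (by rw [h2]; exact mem_top a : a ∈ center ↥J) b)
    exact this.symm

/-- (e) `K ∩ T = Q1`. -/
theorem mem_Q1 (h : CHyp T W1 W2 Q1) {x : X} (hx : x ∈ (T : Subgroup X))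
    (hK : x ∈ normalClosure (Q1 : Set X)) : x ∈ Q1 := by
  set K := normalClosure (Q1 : Set X) with hKd
  have hcm : ∀ a ∈ Q1, ∀ b ∈ W2, a * b = b * a := fun a ha b hb => h.comm a (h.leW ha) b hb
  have hnQ : ∀ x ∈ (T : Subgroup X), ∀ q ∈ Q1, x * q * x⁻¹ ∈ Q1 := fun x hx q hq =>
    h.clQ.2 q hq x (mul_mem (mul_mem hx (h.clQ.1 hq)) (inv_mem hx))
  have hnW : ∀ x ∈ (T : Subgroup X), ∀ q ∈ W2, x * q * x⁻¹ ∈ W2 := fun x hx q hq =>
    h.clW.2 q hq x (mul_mem (mul_mem hx (h.clW.1 hq)) (inv_mem hx))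
  set D : Subgroup ↥(T : Subgroup X) := (Q1 ⊔ W2).subgroupOf (T : Subgroup X) with hD
  have hDm : ∀ z : ↥(T : Subgroup X), z ∈ D ↔ ∃ q ∈ Q1, ∃ b ∈ W2, (z : X) = q * b := by
    intro z
    rw [hD, mem_subgroupOf]
    constructor
    · intro hz; exact exists_of_mem_sup hcm hz
    · rintro ⟨q, hq, b, hb, hz⟩
      rw [hz]; exact mul_mem (mem_sup_left hq) (mem_sup_right hb)
  have hDn : D.Normal := by
    constructor
    intro n hn g
    obtain ⟨q, hq, b, hb, hz⟩ := (hDm n).1 hn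
    refine (hDm _).2 ⟨g * q * (g : X)⁻¹, hnQ g g.2 q hq, g * b * (g : X)⁻¹, hnW g g.2 b hb, ?_⟩
    push_cast
    rw [hz]; group
  have hKD : ∀ z : ↥(T : Subgroup X), z ∈ D → (z : X) ∈ K → (z : X) ∈ Q1 := by
    intro z hz hzK
    obtain ⟨q, hq, b, hb, hz⟩ := (hDm z).1 hz
    have hbK : b ∈ K := by
      have := mul_mem (inv_mem (h.le_K hq)) hzK
      rwa [hz, inv_mul_cancel_left] at this
    have := h.K_inf_J hbK (h.le_J hb)
    rw [hz, this, mul_one]; exact hq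
  have hcyc : IsCyclic (↥(T : Subgroup X) ⧸ D) := by
    obtain ⟨w, hw, hwi⟩ := h.quoQ
    refine ⟨QuotientGroup.mk (⟨w, h.leT hw⟩ : ↥(T : Subgroup X)), ?_⟩
    intro z
    obtain ⟨z, rfl⟩ := QuotientGroup.mk_surjective z
    obtain ⟨a, ha, b, hb, hz⟩ := h.fac z z.2
    obtain ⟨i, hi⟩ := hwi a ha
    refine mem_zpowers_iff.2 ⟨-i, ?_⟩
    rw [← QuotientGroup.mk_zpow, QuotientGroup.eq, hDm]
    refine ⟨w ^ i * a, hi, b, hb, ?_⟩
    push_cast
    rw [hz, zpow_neg, inv_inv, mul_assoc]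
  obtain ⟨g, hg⟩ := IsCyclic.exists_generator (α := ↥((K.subgroupOf (T : Subgroup X)).map (QuotientGroup.mk' D)))
  obtain ⟨c, hc, hcg⟩ := g.2
  refine CentCyc.mem_of_cyclic T h.clQ (c := (c : X)) c.2 (mem_subgroupOf.1 hc) ?_ x hx hK
  intro y hy hyK
  obtain ⟨k, hk⟩ := mem_zpowers_iff.1 (hg ⟨QuotientGroup.mk' D ⟨y, hy⟩, ⟨⟨y, hy⟩, mem_subgroupOf.2 hyK, rfl⟩⟩)
  have hk' : (QuotientGroup.mk' D c) ^ k = QuotientGroup.mk' D ⟨y, hy⟩ := by
    have := congrArg Subtype.val hk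
    rw [hcg]
    simpa using this
  refine ⟨-k, ?_⟩
  rw [← map_zpow, QuotientGroup.mk'_apply, QuotientGroup.mk'_apply, QuotientGroup.eq] at hk'
  have := hKD _ hk' (by
    push_cast
    exact mul_mem (inv_mem (zpow_mem (mem_subgroupOf.1 hc) k)) hyK)
  rw [zpow_neg]
  simpa only [_root_.Subgroup.coe_mul, _root_.InvMemClass.coe_inv, _root_.SubgroupClass.coe_zpow] using this

end CHyp

end Cfsg.Agent.TypeLFive.CentAbs
end
end

-- part: TypeLFive/WRWeak_mg
section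
prune_inst 0x200010100020000000001600001c4686000092006800015800064006869f4040000920f4203c1000022204003c0048120000500040000004000400011801a0808810001000a104040007800004000000000000000000000000000000041000000000000
set_option linter.all false
open scoped Cfsg.Agent.FastGrp

-- part: TypeLFive/Facts
section
/-!
# Facts on the component `W` (semidihedral or wreathed)
-/

set_option autoImplicit false

namespace Cfsg.Agent.TypeLFive.Facts

open Cfsg.Agent.TwoFusion.QDBasic Cfsg.Agent.TwoFusion.WreathedBasic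
open scoped commutatorElement

/-- The facts on `W` used in both cases. -/
structure WBase {W : Type*} [Group W] (ζ : W) : Prop where
  finite : Finite W
  pgroup : IsPGroup 2 W
  ne : ζ ≠ 1
  sq : ζ * ζ = 1
  central : ∀ x, ζ * x = x * ζ
  uniq : ∀ x, (∀ y, x * y = y * x) → x * x = 1 → x = 1 ∨ x = ζ
  comm1 : ∃ x : W, (∀ y, x * y = y * x ∨ x * y = ζ * (y * x)) ∧ ∃ y, x * y = ζ * (y * x)
  derived_inv : ∀ c ∈ commutator W, c * c = 1 → c = 1 ∨ c = ζ
  derived_four : ∃ c ∈ commutator W, c * c = ζ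
  cent_abelian : ∀ x : W, x * x = 1 → x ≠ 1 → x ≠ ζ → ∀ v v', v * x = x * v → v' * x = x * v' →
    v * v' = v' * v

/-! ### the semidihedral case -/

section SD

variable {W : Type*} [Group W] {n : ℕ} {u : ZMod (2 ^ n) → W} {y : W}

theorem sd_two_ne (h : IsQDCoord n u y) (c : ZMod (2 ^ n)) :
    2 * (2 * c + 1) ≠ (2 : ZMod (2 ^ n)) ^ (n - 1) := by
  intro hc
  have h3 := h.three_le
  obtain ⟨m, rfl⟩ : ∃ m, n = m + 3 := ⟨n - 3, by omega⟩
  have e : (2 : ZMod (2 ^ (m + 3))) ^ (m + 3 - 1) = 2 * 2 ^ (m + 1) := by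
    rw [← pow_succ']; congr 1
  rw [e] at hc
  have h4 : 2 * (2 * c + 1 - 2 ^ (m + 1)) = (0 : ZMod (2 ^ (m + 3))) := by
    linear_combination hc
  have e5 : (2 : ZMod (2 ^ (m + 3))) ^ (m + 1) = 2 * 2 ^ m := pow_succ' 2 m
  rcases (two_mul_eq_zero_iff _ (by omega) _).1 h4 with h5 | h5
  · apply two_mul_ne_two_mul_add_one (m + 3) (by omega) (2 ^ m) c
    linear_combination h5 * (-1) - e5
  · apply two_mul_ne_two_mul_add_one (m + 3) (by omega) (2 ^ m + 2 ^ (m + 1)) c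
    rw [e] at h5
    linear_combination h5 * (-1) - e5

theorem sd_u_comm_uy_iff (h : IsQDCoord n u y) (c a : ZMod (2 ^ n)) :
    u c * (u a * y) = u a * y * u c ↔ c = 0 ∨ c = 2 ^ (n - 1) := by
  rw [h.u_mul_uy, h.uy_mul_u, mul_left_inj, h.u_eq_iff]
  constructor
  · intro h1
    have h2 : 2 * c = 2 ^ (n - 1) * c := by linear_combination h1
    rcases even_or_odd' n c with ⟨b, rfl⟩ | ⟨b, rfl⟩
    · have h3 : (2 : ZMod (2 ^ n)) ^ (n - 1) * (2 * b) = 0 := by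
        have := two_mul_half n h.one_le
        linear_combination b * this
      rw [h3] at h2
      exact (two_mul_eq_zero_iff n h.one_le _).1 h2
    · rw [half_mul_odd n h.one_le] at h2
      exact absurd h2 (sd_two_ne h b)
  · have := half_mul_half n h.two_le
    have h2 := two_mul_half n h.one_le
    rintro (rfl | rfl)
    · ring
    · linear_combination h2 - this

theorem sd_zeta_central (h : IsQDCoord n u y) (x : W) :
    u (2 ^ (n - 1)) * x = x * u (2 ^ (n - 1)) := by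
  rcases h.cases x with ⟨a, rfl⟩ | ⟨a, rfl⟩
  · rw [h.u_mul, h.u_mul, add_comm]
  · exact (sd_u_comm_uy_iff h _ _).2 (Or.inr rfl)

theorem sd_zeta_sq (h : IsQDCoord n u y) : u (2 ^ (n - 1)) * u (2 ^ (n - 1)) = 1 := by
  rw [h.u_mul, ← two_mul, two_mul_half n h.one_le, h.u_zero]

theorem sd_zeta_ne (h : IsQDCoord n u y) : u (2 ^ (n - 1)) ≠ 1 := by
  rw [Ne, h.u_eq_one_iff]
  exact half_ne_zero n h.one_le

theorem sd_u_sq_iff (h : IsQDCoord n u y) (a : ZMod (2 ^ n)) :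
    u a * u a = 1 ↔ a = 0 ∨ a = 2 ^ (n - 1) := by
  rw [h.u_mul, ← two_mul, h.u_eq_one_iff, two_mul_eq_zero_iff n h.one_le]

theorem sd_uy_sq_iff (h : IsQDCoord n u y) (a : ZMod (2 ^ n)) :
    u a * y * (u a * y) = 1 ↔ ∃ b, a = 2 * b := by
  rw [← pow_two, h.uy_sq, h.u_eq_one_iff]
  constructor
  · intro h1
    rcases even_or_odd' n a with ⟨b, rfl⟩ | ⟨b, rfl⟩
    · exact ⟨b, rfl⟩
    · rw [half_mul_odd n h.one_le] at h1
      exact absurd h1 (half_ne_zero n h.one_le)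
  · rintro ⟨b, rfl⟩
    have := two_mul_half n h.one_le
    linear_combination b * this

/-- the noncentral involutions -/
theorem sd_inv_cases (h : IsQDCoord n u y) (x : W) (hx : x * x = 1) (h1 : x ≠ 1)
    (h2 : x ≠ u (2 ^ (n - 1))) : ∃ b, x = u (2 * b) * y := by
  rcases h.cases x with ⟨a, rfl⟩ | ⟨a, rfl⟩
  · rcases (sd_u_sq_iff h a).1 hx with rfl | rfl
    · exact absurd h.u_zero h1
    · exact absurd rfl h2
  · obtain ⟨b, rfl⟩ := (sd_uy_sq_iff h a).1 hx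
    exact ⟨b, rfl⟩

/-- the centraliser of a noncentral involution -/
theorem sd_cent (h : IsQDCoord n u y) (b : ZMod (2 ^ n)) (v : W)
    (hv : v * (u b * y) = u b * y * v) :
    v = 1 ∨ v = u (2 ^ (n - 1)) ∨ v = u b * y ∨ v = u (2 ^ (n - 1)) * (u b * y) := by
  rcases h.cases v with ⟨a, rfl⟩ | ⟨a, rfl⟩
  · rcases (sd_u_comm_uy_iff h a b).1 hv with rfl | rfl
    · exact Or.inl h.u_zero
    · exact Or.inr (Or.inl rfl)
  · have h1 : u (a - b) * (u b * y) = u b * y * u (a - b) := by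
      have e : u (a - b) * (u b * y) = u a * y := by
        rw [h.u_mul_uy]; congr 2; ring
      have e2 : u (a - b) = u a * y * (u b * y)⁻¹ := by rw [← e]; group
      rw [e, e2]
      calc u a * y = u a * y * (u b * y)⁻¹ * (u b * y) := by group
        _ = (u a * y * (u b * y)) * (u b * y)⁻¹ * (u b * y)⁻¹ * (u b * y) := by group
        _ = (u b * y * (u a * y)) * (u b * y)⁻¹ * (u b * y)⁻¹ * (u b * y) := by rw [hv]
        _ = u b * y * (u a * y * (u b * y)⁻¹) := by group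
    rcases (sd_u_comm_uy_iff h _ _).1 h1 with h2 | h2
    · have : a = b := sub_eq_zero.1 h2
      subst this
      exact Or.inr (Or.inr (Or.inl rfl))
    · right; right; right
      rw [h.u_mul_uy]
      congr 2
      rw [← h2]; ring

theorem sd_conj_y (h : IsQDCoord n u y) (b : ZMod (2 ^ n)) :
    ∃ c, u c * y * (u c)⁻¹ = u (2 * b) * y := by
  have h3 := h.three_le
  obtain ⟨m, rfl⟩ : ∃ m, n = m + 3 := ⟨n - 3, by omega⟩
  have hu : IsUnit (2 * (-(2 ^ m)) + 1 : ZMod (2 ^ (m + 3))) := isUnit_odd _ _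
  obtain ⟨v, hv⟩ := hu
  refine ⟨b * ((v⁻¹ : (ZMod (2 ^ (m + 3)))ˣ) : ZMod (2 ^ (m + 3))), ?_⟩
  have h1 := h.u_conj_uy (b * ((v⁻¹ : (ZMod (2 ^ (m + 3)))ˣ) : ZMod (2 ^ (m + 3)))) 0
  rw [h.u_zero, one_mul] at h1
  rw [h1]
  congr 2
  have h4 : (v : ZMod (2 ^ (m + 3))) * ((v⁻¹ : (ZMod (2 ^ (m + 3)))ˣ) : ZMod (2 ^ (m + 3))) = 1 :=
    v.mul_inv
  rw [hv] at h4
  have e : (2 : ZMod (2 ^ (m + 3))) ^ (m + 3 - 1) = 4 * 2 ^ m := by
    rw [show m + 3 - 1 = m + 2 by omega, pow_add]; ring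
  rw [e]
  linear_combination 2 * b * h4

theorem sd_pgroup (h : IsQDCoord n u y) : IsPGroup 2 W := IsPGroup.of_card h.card

theorem sd_commutator (h : IsQDCoord n u y) (c : W) (hc : c ∈ commutator W) : ∃ a, c = u a := by
  let U : Subgroup W :=
    { carrier := {x | ∃ a, x = u a}
      one_mem' := ⟨0, h.u_zero.symm⟩
      mul_mem' := by rintro _ _ ⟨a, rfl⟩ ⟨b, rfl⟩; exact ⟨a + b, h.u_mul a b⟩
      inv_mem' := by rintro _ ⟨a, rfl⟩; exact ⟨-a, h.u_inv a⟩ }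
  have hU : commutator W ≤ U := by
    rw [commutator_def, Subgroup.commutator_le]
    intro x _ v _
    change ∃ a, ⁅x, v⁆ = u a
    rw [commutatorElement_def]
    rcases h.cases x with ⟨a, rfl⟩ | ⟨a, rfl⟩ <;> rcases h.cases v with ⟨b, rfl⟩ | ⟨b, rfl⟩
    · exact ⟨a + b + -a + -b, by rw [h.u_inv, h.u_inv, h.u_mul, h.u_mul, h.u_mul]⟩
    · rw [h.u_mul_uy, h.u_inv, h.uy_mul_u, h.uy_inv, h.uy_mul_uy]
      exact ⟨_, rfl⟩
    · rw [h.uy_mul_u, h.uy_inv, h.uy_mul_uy, h.u_inv, h.u_mul]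
      exact ⟨_, rfl⟩
    · rw [h.uy_mul_uy, h.uy_inv, h.uy_inv, h.u_mul_uy, h.uy_mul_uy]
      exact ⟨_, rfl⟩
  exact hU hc

theorem sd_derived_four (h : IsQDCoord n u y) : ∃ c ∈ commutator W, c * c = u (2 ^ (n - 1)) := by
  have h3 := h.three_le
  refine ⟨⁅u (2 ^ (n - 3)), y⁆, ?_, ?_⟩
  · rw [commutator_def]
    exact Subgroup.commutator_mem_commutator (Subgroup.mem_top _) (Subgroup.mem_top _)
  · have e : ⁅u (2 ^ (n - 3)), y⁆ = u (2 * 2 ^ (n - 3) - 2 ^ (n - 1) * 2 ^ (n - 3)) := by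
      rw [commutatorElement_def, h.u_inv, mul_assoc, mul_assoc, ← mul_assoc y, h.y_conj, h.u_mul]
      congr 1; ring
    rw [e, h.u_mul]
    congr 1
    have h2 := two_mul_half n h.one_le
    have e2 : (2 : ZMod (2 ^ n)) ^ (n - 1) = 4 * 2 ^ (n - 3) := by
      rw [show (4 : ZMod (2 ^ n)) = 2 ^ 2 by norm_num, ← pow_add]; congr 1; omega
    linear_combination (-(2 : ZMod (2 ^ n)) ^ (n - 3)) * h2 - e2

/-- The base facts in the semidihedral case. -/
theorem sd_base (h : IsQDCoord n u y) : WBase (u (2 ^ (n - 1))) where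
  finite := h.finite
  pgroup := sd_pgroup h
  ne := sd_zeta_ne h
  sq := sd_zeta_sq h
  central := sd_zeta_central h
  uniq x hx hxx := by
    by_contra hcon
    push Not at hcon
    obtain ⟨b, rfl⟩ := sd_inv_cases h x hxx hcon.1 hcon.2
    have h1 := (sd_u_comm_uy_iff h 1 (2 * b)).1 (hx (u 1)).symm
    rcases h1 with h1 | h1
    · have := two_mul_ne_two_mul_add_one n h.one_le 0 0
      apply this
      rw [mul_zero, zero_add]; exact h1.symm
    · have h3 := h.three_le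
      apply two_mul_ne_two_mul_add_one n h.one_le (2 ^ (n - 2)) 0
      rw [mul_zero, zero_add, h1, ← pow_succ']
      congr 1; omega
  comm1 := by
    have h3 := h.three_le
    have h2 := two_mul_half n h.one_le
    have e2 : (2 : ZMod (2 ^ n)) ^ (n - 1) = 2 * 2 ^ (n - 2) := by
      rw [← pow_succ']; congr 1; omega
    have e3 : (2 : ZMod (2 ^ n)) ^ (n - 1) * 2 ^ (n - 2) = 0 := by
      rw [← pow_add, show n - 1 + (n - 2) = n + (n - 3) by omega, pow_add, two_pow_eq_zero,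
        zero_mul]
    have key : ∀ a, u (2 ^ (n - 2)) * (u a * y) = u (2 ^ (n - 1)) * (u a * y * u (2 ^ (n - 2))) := by
      intro a
      rw [h.u_mul_uy, h.uy_mul_u, h.u_mul_uy]
      congr 2
      linear_combination -e3 - e2
    refine ⟨u (2 ^ (n - 2)), ?_, y, ?_⟩
    · intro v
      rcases h.cases v with ⟨a, rfl⟩ | ⟨a, rfl⟩
      · left; rw [h.u_mul, h.u_mul, add_comm]
      · right; exact key a
    · have := key 0
      rwa [h.u_zero, one_mul] at this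
  derived_inv c hc hcc := by
    obtain ⟨a, rfl⟩ := sd_commutator h c hc
    rcases (sd_u_sq_iff h a).1 hcc with rfl | rfl
    · exact Or.inl h.u_zero
    · exact Or.inr rfl
  derived_four := sd_derived_four h
  cent_abelian x hx h1 h2 v v' hv hv' := by
    obtain ⟨b, rfl⟩ := sd_inv_cases h x hx h1 h2
    have hz := sd_zeta_central h
    have hzz := sd_zeta_sq h
    rcases sd_cent h _ v hv with rfl | rfl | rfl | rfl
    · rw [one_mul, mul_one]
    · exact hz _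
    · exact hv'.symm
    · calc u (2 ^ (n - 1)) * (u (2 * b) * y) * v' = u (2 ^ (n - 1)) * (u (2 * b) * y * v') := by
            group
        _ = u (2 ^ (n - 1)) * (v' * (u (2 * b) * y)) := by rw [hv']
        _ = (u (2 ^ (n - 1)) * v') * (u (2 * b) * y) := by group
        _ = (v' * u (2 ^ (n - 1))) * (u (2 * b) * y) := by rw [hz]
        _ = _ := by group

/-- squares which are involutions -/
theorem sd_sq_cases (h : IsQDCoord n u y) (x : W) (hx : x * x * (x * x) = 1) :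
    x * x = 1 ∨ x * x = u (2 ^ (n - 1)) := by
  rcases h.cases x with ⟨a, rfl⟩ | ⟨a, rfl⟩
  · rw [h.u_mul] at hx ⊢
    rcases (sd_u_sq_iff h _).1 hx with h1 | h1
    · left; rw [h1, h.u_zero]
    · right; rw [h1]
  · rw [← pow_two, h.uy_sq]
    rcases even_or_odd' n a with ⟨b, rfl⟩ | ⟨b, rfl⟩
    · left
      rw [h.u_eq_one_iff]
      have := two_mul_half n h.one_le
      linear_combination b * this
    · right
      rw [half_mul_odd n h.one_le]

end SD

/-! ### the wreathed case -/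

section WR

variable {W : Type*} [Group W] {n : ℕ} {u : ZMod (2 ^ n) → ZMod (2 ^ n) → W} {s : W}

theorem wr_half (h : IsWCoord n u s) : (2 : ZMod (2 ^ n)) ^ (n - 1) = 2 * 2 ^ (n - 2) := by
  have := h.two_le
  rw [← pow_succ']; congr 1; omega

theorem wr_neg_half (h : IsWCoord n u s) :
    -(2 : ZMod (2 ^ n)) ^ (n - 1) = 2 ^ (n - 1) := by
  have := two_mul_half n h.one_le
  linear_combination -this

theorem wr_zeta_central (h : IsWCoord n u s) (x : W) :
    u (2 ^ (n - 1)) (2 ^ (n - 1)) * x = x * u (2 ^ (n - 1)) (2 ^ (n - 1)) := by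
  rcases h.cases x with ⟨a, b, rfl⟩ | ⟨a, b, rfl⟩
  · exact h.u_comm _ _ _ _
  · rw [h.u_mul_uz, h.uz_mul_u, add_comm, add_comm (2 ^ (n - 1)) b]

theorem wr_diag_central (h : IsWCoord n u s) (c : ZMod (2 ^ n)) (x : W) :
    u c c * x = x * u c c := by
  rcases h.cases x with ⟨a, b, rfl⟩ | ⟨a, b, rfl⟩
  · exact h.u_comm _ _ _ _
  · rw [h.u_mul_uz, h.uz_mul_u, add_comm, add_comm c b]

theorem wr_zeta_sq (h : IsWCoord n u s) :
    u (2 ^ (n - 1)) (2 ^ (n - 1)) * u (2 ^ (n - 1)) (2 ^ (n - 1)) = 1 := by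
  rw [h.u_mul, ← two_mul, two_mul_half n h.one_le, h.u_zero]

theorem wr_zeta_ne (h : IsWCoord n u s) : u (2 ^ (n - 1)) (2 ^ (n - 1)) ≠ 1 := by
  rw [Ne, h.u_eq_one_iff]
  exact fun hh => half_ne_zero n h.one_le hh.1

theorem wr_u_sq_iff (h : IsWCoord n u s) (a b : ZMod (2 ^ n)) :
    u a b * u a b = 1 ↔ (a = 0 ∨ a = 2 ^ (n - 1)) ∧ (b = 0 ∨ b = 2 ^ (n - 1)) := by
  rw [h.u_mul, ← two_mul, ← two_mul, h.u_eq_one_iff, two_mul_eq_zero_iff n h.one_le,
    two_mul_eq_zero_iff n h.one_le]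

theorem wr_us_sq_iff (h : IsWCoord n u s) (a b : ZMod (2 ^ n)) :
    u a b * s * (u a b * s) = 1 ↔ b = -a := by
  rw [← pow_two, h.uz_sq, h.u_eq_one_iff]
  constructor
  · rintro ⟨h1, -⟩; linear_combination h1
  · rintro rfl; constructor <;> ring

/-- the noncentral involutions -/
theorem wr_inv_cases (h : IsWCoord n u s) (x : W) (hx : x * x = 1) (h1 : x ≠ 1)
    (h2 : x ≠ u (2 ^ (n - 1)) (2 ^ (n - 1))) :
    x = u (2 ^ (n - 1)) 0 ∨ x = u 0 (2 ^ (n - 1)) ∨ ∃ a, x = u a (-a) * s := by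
  rcases h.cases x with ⟨a, b, rfl⟩ | ⟨a, b, rfl⟩
  · rcases (wr_u_sq_iff h a b).1 hx with ⟨rfl | rfl, rfl | rfl⟩
    · exact absurd h.u_zero h1
    · exact Or.inr (Or.inl rfl)
    · exact Or.inl rfl
    · exact absurd rfl h2
  · rw [wr_us_sq_iff h] at hx
    subst hx
    exact Or.inr (Or.inr ⟨a, rfl⟩)

theorem wr_cent_u (h : IsWCoord n u s) (a b : ZMod (2 ^ n)) (hab : a ≠ b) (v : W)
    (hv : v * u a b = u a b * v) : ∃ c d, v = u c d := by
  rcases h.cases v with ⟨c, d, rfl⟩ | ⟨c, d, rfl⟩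
  · exact ⟨c, d, rfl⟩
  · exfalso
    rw [h.uz_mul_u, h.u_mul_uz, mul_left_inj, h.u_eq_iff] at hv
    exact hab (by linear_combination -hv.1)

theorem wr_cent_us (h : IsWCoord n u s) (a b : ZMod (2 ^ n)) (v : W)
    (hv : v * (u a b * s) = u a b * s * v) :
    (∃ c, v = u c c) ∨ ∃ c, v = u c c * (u a b * s) := by
  have key : ∀ c d, u c d * (u a b * s) = u a b * s * u c d → c = d := by
    intro c d hcd
    rw [h.u_mul_uz, h.uz_mul_u, mul_left_inj, h.u_eq_iff] at hcd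
    linear_combination hcd.1
  rcases h.cases v with ⟨c, d, rfl⟩ | ⟨c, d, rfl⟩
  · obtain rfl := key c d hv
    exact Or.inl ⟨c, rfl⟩
  · right
    have e : u (c - a) (d - b) * (u a b * s) = u c d * s := by
      rw [h.u_mul_uz]; congr 2 <;> ring
    have e2 : u (c - a) (d - b) = u c d * s * (u a b * s)⁻¹ := by rw [← e]; group
    have h1 : u (c - a) (d - b) * (u a b * s) = u a b * s * u (c - a) (d - b) := by
      rw [e, e2]
      calc u c d * s = (u c d * s * (u a b * s)) * (u a b * s)⁻¹ := by group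
        _ = (u a b * s * (u c d * s)) * (u a b * s)⁻¹ := by rw [hv]
        _ = u a b * s * (u c d * s * (u a b * s)⁻¹) := by group
    have h2 := key _ _ h1
    refine ⟨c - a, ?_⟩
    rw [← e, ← h2]

theorem wr_pgroup (h : IsWCoord n u s) : IsPGroup 2 W := IsPGroup.of_card h.card

theorem wr_commutator (h : IsWCoord n u s) (c : W) (hc : c ∈ commutator W) :
    ∃ a, c = u a (-a) := by
  let U : Subgroup W :=
    { carrier := {x | ∃ a, x = u a (-a)}
      one_mem' := ⟨0, by rw [neg_zero, h.u_zero]⟩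
      mul_mem' := by
        rintro _ _ ⟨a, rfl⟩ ⟨b, rfl⟩
        exact ⟨a + b, by rw [h.u_mul]; congr 1; ring⟩
      inv_mem' := by rintro _ ⟨a, rfl⟩; exact ⟨-a, h.u_inv _ _⟩ }
  have hU : commutator W ≤ U := by
    rw [commutator_def, Subgroup.commutator_le]
    intro x _ v _
    change ∃ a, ⁅x, v⁆ = u a (-a)
    rw [commutatorElement_def]
    rcases h.cases x with ⟨a, b, rfl⟩ | ⟨a, b, rfl⟩ <;>
      rcases h.cases v with ⟨c, d, rfl⟩ | ⟨c, d, rfl⟩
    · refine ⟨0, ?_⟩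
      rw [h.u_inv, h.u_inv, h.u_mul, h.u_mul, h.u_mul]; congr 1 <;> ring
    · rw [h.u_mul_uz, h.u_inv, h.uz_mul_u, h.uz_inv, h.uz_mul_uz]
      exact ⟨_, by congr 1; ring⟩
    · rw [h.uz_mul_u, h.uz_inv, h.uz_mul_uz, h.u_inv, h.u_mul]
      exact ⟨_, by congr 1; ring⟩
    · rw [h.uz_mul_uz, h.uz_inv, h.uz_inv, h.u_mul_uz, h.uz_mul_uz]
      exact ⟨_, by congr 1; ring⟩
  exact hU hc

/-- The base facts in the wreathed case. -/
theorem wr_base (h : IsWCoord n u s) : WBase (u (2 ^ (n - 1)) (2 ^ (n - 1))) where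
  finite := h.finite
  pgroup := wr_pgroup h
  ne := wr_zeta_ne h
  sq := wr_zeta_sq h
  central := wr_zeta_central h
  uniq x hx hxx := by
    obtain ⟨a, rfl⟩ := (h.mem_center_iff x).1 (Subgroup.mem_center_iff.2 (fun g => (hx g).symm))
    rcases ((wr_u_sq_iff h a a).1 hxx).1 with rfl | rfl
    · exact Or.inl h.u_zero
    · exact Or.inr rfl
  comm1 := by
    have e2 := wr_half h
    have e3 := two_mul_half n h.one_le
    have key : ∀ a b, u (2 ^ (n - 2)) (-(2 ^ (n - 2))) * (u a b * s) =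
        u (2 ^ (n - 1)) (2 ^ (n - 1)) * (u a b * s * u (2 ^ (n - 2)) (-(2 ^ (n - 2)))) := by
      intro a b
      rw [h.u_mul_uz, h.uz_mul_u, h.u_mul_uz]
      congr 2
      · linear_combination -e2
      · linear_combination e2 - e3
    refine ⟨u (2 ^ (n - 2)) (-(2 ^ (n - 2))), ?_, s, ?_⟩
    · intro v
      rcases h.cases v with ⟨a, b, rfl⟩ | ⟨a, b, rfl⟩
      · left; exact h.u_comm _ _ _ _
      · right; exact key a b
    · have := key 0 0
      rwa [h.u_zero, one_mul] at this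
  derived_inv c hc hcc := by
    obtain ⟨a, rfl⟩ := wr_commutator h c hc
    rcases ((wr_u_sq_iff h _ _).1 hcc).1 with rfl | rfl
    · left; rw [neg_zero, h.u_zero]
    · right; rw [wr_neg_half h]
  derived_four := by
    refine ⟨⁅u (2 ^ (n - 2)) 0, s⁆, ?_, ?_⟩
    · rw [commutator_def]
      exact Subgroup.commutator_mem_commutator (Subgroup.mem_top _) (Subgroup.mem_top _)
    · have e : ⁅u (2 ^ (n - 2)) 0, s⁆ = u (2 ^ (n - 2)) (-(2 ^ (n - 2))) := by
        rw [commutatorElement_def, h.u_inv, mul_assoc, mul_assoc, ← mul_assoc s, h.z_conj_u,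
          h.u_mul]
        congr 1 <;> ring
      rw [e, h.u_mul]
      have e2 := wr_half h
      have e3 := two_mul_half n h.one_le
      congr 1
      · linear_combination -e2
      · linear_combination e2 - e3
  cent_abelian x hx h1 h2 v v' hv hv' := by
    rcases wr_inv_cases h x hx h1 h2 with rfl | rfl | ⟨a, rfl⟩
    · have h0 := half_ne_zero n h.one_le
      obtain ⟨c, d, rfl⟩ := wr_cent_u h _ _ h0 v hv
      obtain ⟨c', d', rfl⟩ := wr_cent_u h _ _ h0 v' hv'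
      exact h.u_comm _ _ _ _
    · have h0 := (half_ne_zero n h.one_le).symm
      obtain ⟨c, d, rfl⟩ := wr_cent_u h _ _ h0 v hv
      obtain ⟨c', d', rfl⟩ := wr_cent_u h _ _ h0 v' hv'
      exact h.u_comm _ _ _ _
    · rcases wr_cent_us h _ _ v hv with ⟨c, rfl⟩ | ⟨c, rfl⟩
      · exact wr_diag_central h c v'
      · calc u c c * (u a (-a) * s) * v' = u c c * (u a (-a) * s * v') := by group
          _ = u c c * (v' * (u a (-a) * s)) := by rw [hv']
          _ = u c c * v' * (u a (-a) * s) := by group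
          _ = v' * u c c * (u a (-a) * s) := by rw [wr_diag_central h]
          _ = _ := by group

end WR

end Cfsg.Agent.TypeLFive.Facts
end

-- part: TypeLFive/WRWeak
section
/-!
# The wreathed case: `A ≅ (Z_{2^n})^4` is weakly closed in `S`
-/

set_option autoImplicit false

namespace Cfsg.Agent.TypeLFive.WRWeak

open Cfsg.Agent.TypeLFive.Model Cfsg.Agent.TypeLFive.Facts
open Cfsg.Agent.TwoFusion.QDBasic Cfsg.Agent.TwoFusion.WreathedBasic

variable {G W : Type*} [Group G] [Group W] {n : ℕ} {u : ZMod (2 ^ n) → ZMod (2 ^ n) → W} {s : W}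

/-- The homocyclic abelian subgroup `A = f '' (A₀ × A₀)`. -/
def abA (f : W × W →* G) (h : IsWCoord n u s) : Subgroup G := (h.base.prod h.base).map f

theorem mem_abA (f : W × W →* G) (h : IsWCoord n u s) (g : G) :
    g ∈ abA f h ↔ ∃ a b c d, g = f (u a b, u c d) := by
  constructor
  · rintro ⟨⟨x, y⟩, ⟨⟨a, b, hx⟩, ⟨c, d, hy⟩⟩, rfl⟩
    simp only at hx hy
    exact ⟨a, b, c, d, by rw [hx, hy]⟩
  · rintro ⟨a, b, c, d, rfl⟩
    exact ⟨_, ⟨⟨a, b, rfl⟩, ⟨c, d, rfl⟩⟩, rfl⟩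

theorem f_mem_abA (f : W × W →* G) (h : IsWCoord n u s) (a b c d : ZMod (2 ^ n)) :
    f (u a b, u c d) ∈ abA f h := (mem_abA f h _).2 ⟨a, b, c, d, rfl⟩

theorem abA_comm (f : W × W →* G) (h : IsWCoord n u s) (x : G) (hx : x ∈ abA f h) (y : G)
    (hy : y ∈ abA f h) : x * y = y * x := by
  obtain ⟨a, b, c, d, rfl⟩ := (mem_abA f h x).1 hx
  obtain ⟨a', b', c', d', rfl⟩ := (mem_abA f h y).1 hy
  rw [← map_mul, ← map_mul, Prod.mk_mul_mk, Prod.mk_mul_mk, h.u_comm a b, h.u_comm c d]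

theorem card_abA (f : W × W →* G) (hf : Function.Injective f) (h : IsWCoord n u s) :
    Nat.card (abA f h) = 2 ^ (4 * n) := by
  unfold abA
  rw [Subgroup.card_map_of_injective hf]
  have e : Nat.card (h.base.prod h.base) = Nat.card h.base * Nat.card h.base := by
    rw [Nat.card_congr (Subgroup.prodEquiv h.base h.base).toEquiv, Nat.card_prod]
  rw [e, h.card_base, ← pow_add]
  congr 1; ring

theorem abA_le {S : Subgroup G} {f : W × W →* G} {w : G} (hw : Wr S f w) (h : IsWCoord n u s) :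
    abA f h ≤ S := by
  rintro _ ⟨p, -, rfl⟩
  exact hw.mem p

/-- covering a subgroup by the values of a function. -/
theorem card_le_of_cover {α : Type*} [Finite α] {H : Type*} [Group H] (C : Subgroup H)
    (g : α → H) (hg : ∀ x ∈ C, ∃ a, g a = x) : Nat.card C ≤ Nat.card α := by
  choose k hk using fun x : C => hg x x.2
  apply Nat.card_le_card_of_injective k
  intro x y hxy
  apply Subtype.ext
  rw [← hk x, ← hk y, hxy]

/-- abelian subgroups of `W`. -/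
theorem abelian_card (h : IsWCoord n u s) (C : Subgroup W)
    (hC : ∀ x ∈ C, ∀ y ∈ C, x * y = y * x) : C ≤ h.base ∨ Nat.card C ≤ 2 ^ (n + 1) := by
  by_cases hCb : C ≤ h.base
  · exact Or.inl hCb
  · right
    rw [SetLike.not_le_iff_exists] at hCb
    obtain ⟨x, hx, hxb⟩ := hCb
    obtain ⟨a, b, rfl⟩ := (h.not_mem_base x).1 hxb
    have h1 : Nat.card C ≤ Nat.card (ZMod (2 ^ n) ⊕ ZMod (2 ^ n)) := by
      apply card_le_of_cover C
        (Sum.elim (fun c => u c c) (fun c => u c c * (u a b * s)))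
      intro v hv
      rcases wr_cent_us h a b v (hC v hv _ hx) with ⟨c, rfl⟩ | ⟨c, rfl⟩
      · exact ⟨Sum.inl c, rfl⟩
      · exact ⟨Sum.inr c, rfl⟩
    rw [Nat.card_sum, Nat.card_zmod] at h1
    calc Nat.card C ≤ 2 ^ n + 2 ^ n := h1
      _ = 2 ^ (n + 1) := by ring

theorem card_prod_le {A B : Type*} [Group A] [Group B] [Finite A] [Finite B]
    (C : Subgroup (A × B)) :
    Nat.card C ≤ Nat.card (C.map (MonoidHom.fst A B)) * Nat.card (C.map (MonoidHom.snd A B)) := by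
  rw [← Nat.card_prod]
  apply Nat.card_le_card_of_injective
    (fun x : C => ((⟨x.1.1, ⟨x.1, x.2, rfl⟩⟩ : C.map (MonoidHom.fst A B)),
      (⟨x.1.2, ⟨x.1, x.2, rfl⟩⟩ : C.map (MonoidHom.snd A B))))
  intro x y hxy
  rw [Prod.mk.injEq] at hxy
  exact Subtype.ext (Prod.ext (congrArg Subtype.val hxy.1) (congrArg Subtype.val hxy.2))

/-- an abelian subgroup of `S` of the order of `A` is `A`. -/
theorem le_abA {S : Subgroup G} {f : W × W →* G} {w : G} (hw : Wr S f w) (h : IsWCoord n u s)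
    (B : Subgroup G) (hBS : B ≤ S) (hB : ∀ x ∈ B, ∀ y ∈ B, x * y = y * x)
    (hcard : Nat.card B = 2 ^ (4 * n)) : B ≤ abA f h := by
  have hn := h.two_le
  have hfin := h.finite
  have hfinB : Finite B := Nat.finite_of_card_ne_zero (by rw [hcard]; positivity)
  by_cases hBT : B ≤ f.range
  · -- inside `T`
    let C : Subgroup (W × W) := B.comap f
    have hCmap : C.map f = B := Subgroup.map_comap_eq_self hBT
    have hCcard : Nat.card C = 2 ^ (4 * n) := by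
      rw [← hcard, ← hCmap, Subgroup.card_map_of_injective hw.inj]
    let C1 : Subgroup W := C.map (MonoidHom.fst W W)
    let C2 : Subgroup W := C.map (MonoidHom.snd W W)
    have hCc : ∀ p ∈ C, ∀ q ∈ C, p * q = q * p := by
      intro p hp q hq
      apply hw.inj
      rw [map_mul, map_mul]
      exact hB _ hp _ hq
    have hC1 : ∀ x ∈ C1, ∀ y ∈ C1, x * y = y * x := by
      rintro _ ⟨p, hp, rfl⟩ _ ⟨q, hq, rfl⟩
      rw [← map_mul, ← map_mul, hCc p hp q hq]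
    have hC2 : ∀ x ∈ C2, ∀ y ∈ C2, x * y = y * x := by
      rintro _ ⟨p, hp, rfl⟩ _ ⟨q, hq, rfl⟩
      rw [← map_mul, ← map_mul, hCc p hp q hq]
    have hle : 2 ^ (4 * n) ≤ Nat.card C1 * Nat.card C2 := by
      rw [← hCcard]; exact card_prod_le C
    have hbd : ∀ D : Subgroup W, (∀ x ∈ D, ∀ y ∈ D, x * y = y * x) →
        Nat.card D ≤ 2 ^ (2 * n) := by
      intro D hD
      rcases abelian_card h D hD with h1 | h1
      · have h2 : Nat.card D ≤ Nat.card h.base := Nat.le_of_dvd Nat.card_pos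
          (Subgroup.card_dvd_of_le h1)
        rwa [h.card_base] at h2
      · exact h1.trans (Nat.pow_le_pow_right (by norm_num) (by omega))
    have hlt : 2 ^ (n + 1) * 2 ^ (2 * n) < 2 ^ (4 * n) := by
      rw [← pow_add]
      exact Nat.pow_lt_pow_right (by norm_num) (by omega)
    have h1 : C1 ≤ h.base := by
      rcases abelian_card h C1 hC1 with h1 | h1
      · exact h1
      · exfalso
        have h2 := Nat.mul_le_mul h1 (hbd C2 hC2)
        omega
    have h2 : C2 ≤ h.base := by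
      rcases abelian_card h C2 hC2 with h2 | h2
      · exact h2
      · exfalso
        have h3 := Nat.mul_le_mul (hbd C1 hC1) h2
        rw [mul_comm (2 ^ (2 * n))] at h3
        omega
    rw [← hCmap]
    rintro _ ⟨p, hp, rfl⟩
    exact ⟨p, ⟨h1 ⟨p, hp, rfl⟩, h2 ⟨p, hp, rfl⟩⟩, rfl⟩
  · -- not inside `T`
    exfalso
    rw [SetLike.not_le_iff_exists] at hBT
    obtain ⟨x, hx, hxT⟩ := hBT
    obtain ⟨a, b, rfl⟩ : ∃ a b, x = f (a, b) * w := by
      rcases hw.cases x (hBS hx) with ⟨a, b, rfl⟩ | h1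
      · exact absurd ⟨_, rfl⟩ hxT
      · exact h1
    have h1 : Nat.card B ≤ Nat.card (W ⊕ W) := by
      apply card_le_of_cover B
        (Sum.elim (fun v => f (v, a⁻¹ * v * a)) (fun v => f (v, a⁻¹ * v * a) * (f (a, b) * w)))
      intro y hy
      have key : ∀ p q, f (p, q) ∈ B → q = a⁻¹ * p * a := by
        intro p q hpq
        have h2 := ((hw.fw_comm_f_iff a b p q).1 (hB _ hx _ hpq)).1
        calc q = a⁻¹ * (a * q) := by group
          _ = a⁻¹ * (p * a) := by rw [h2]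
          _ = _ := by group
      rcases hw.cases y (hBS hy) with ⟨p, q, rfl⟩ | ⟨p, q, rfl⟩
      · refine ⟨Sum.inl p, ?_⟩
        rw [Sum.elim_inl, ← key p q hy]
      · have h3 : f (p, q) * w * (f (a, b) * w)⁻¹ = f (p * a⁻¹, q * b⁻¹) := by
          rw [hw.fw_inv, hw.fw_mul_fw]
        have h4 : f (p * a⁻¹, q * b⁻¹) ∈ B := by
          rw [← h3]; exact B.mul_mem hy (B.inv_mem hx)
        refine ⟨Sum.inr (p * a⁻¹), ?_⟩
        rw [Sum.elim_inr, ← key _ _ h4, ← h3]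
        group
    rw [Nat.card_sum, h.card, hcard] at h1
    have h2 : 2 ^ (2 * n + 1) + 2 ^ (2 * n + 1) = 2 ^ (2 * n + 2) := by ring
    rw [h2] at h1
    have h3 : 2 ^ (2 * n + 2) < 2 ^ (4 * n) := Nat.pow_lt_pow_right (by norm_num) (by omega)
    omega

/-- `A` is weakly closed in `S`. -/
theorem weak {S : Subgroup G} {f : W × W →* G} {w : G} (hw : Wr S f w) (h : IsWCoord n u s)
    (g : G) (hg : (abA f h).map (MulAut.conj g).toMonoidHom ≤ S) :
    (abA f h).map (MulAut.conj g).toMonoidHom = abA f h := by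
  have hcard : Nat.card ((abA f h).map (MulAut.conj g).toMonoidHom) = 2 ^ (4 * n) := by
    rw [Subgroup.card_map_of_injective (MulAut.conj g).injective, card_abA f hw.inj h]
  have hfin : Finite (abA f h) :=
    Nat.finite_of_card_ne_zero (by rw [card_abA f hw.inj h]; positivity)
  apply Subgroup.eq_of_le_of_card_ge
  · apply le_abA hw h _ hg _ hcard
    rintro _ ⟨x, hx, rfl⟩ _ ⟨y, hy, rfl⟩
    rw [← map_mul, ← map_mul, abA_comm f h x hx y hy]
  · rw [hcard, card_abA f hw.inj h]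

end Cfsg.Agent.TypeLFive.WRWeak
end

-- part: TypeLFive/EOrbit
section
/-!
# Type `PSL(5,q)`: the orbits on `E = 2^4`

`V = (ZMod 2)^4`, `φ : V → G` an embedding, `N` a subgroup of `G` normalising `E = range φ` and
inducing (at least) the dihedral group `⟨(01),(23),(02)(13)⟩` on the basis.

`main`: if `t = 1100` is not fused with `z = 1111` in `N`, `t` is fused with `1010`, and `z` is fused
with another element, then `N` induces `S₅` on `E`.
-/

set_option autoImplicit false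

namespace Cfsg.Agent.TypeLFive.EOrbit

abbrev V : Type := Fin 4 → ZMod 2

/-- `z = 1111` -/
def vz : V := ![1, 1, 1, 1]
/-- `t = 1100` -/
def vt : V := ![1, 1, 0, 0]
/-- `ζ₂ = 0011` -/
def vt2 : V := ![0, 0, 1, 1]
/-- `2' = 1010` -/
def vy : V := ![1, 0, 1, 0]
/-- `e₁ = 1000` -/
def v1 : V := ![1, 0, 0, 0]
/-- `0111` -/
def v3 : V := ![0, 1, 1, 1]

/-- the two possible five element orbits -/
def o1 : Fin 5 → V := ![![1, 0, 0, 0], ![0, 1, 0, 0], ![0, 0, 1, 0], ![0, 0, 0, 1], ![1, 1, 1, 1]]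
def o3 : Fin 5 → V := ![![0, 1, 1, 1], ![1, 0, 1, 1], ![1, 1, 0, 1], ![1, 1, 1, 0], ![1, 1, 1, 1]]

variable {G : Type*} [Group G]

/-- an embedding of `(ZMod 2)^4` -/
structure Emb (φ : V → G) : Prop where
  add : ∀ x y, φ (x + y) = φ x * φ y
  inj : ∀ x, φ x = 1 → x = 0

theorem Emb.zero {φ : V → G} (h : Emb φ) : φ 0 = 1 := by
  have h1 := h.add 0 0
  rw [add_zero] at h1
  exact (left_eq_mul.1 h1)

theorem V.add_self (x : V) : x + x = 0 := by
  funext i
  have h : ∀ a : ZMod 2, a + a = 0 := by decide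
  exact h _

theorem Emb.sq {φ : V → G} (h : Emb φ) (x : V) : φ x * φ x = 1 := by
  rw [← h.add, V.add_self, h.zero]

theorem Emb.injective {φ : V → G} (h : Emb φ) {x y : V} (hxy : φ x = φ y) : x = y := by
  have h1 : φ (x + y) = 1 := by rw [h.add, hxy, h.sq]
  have h2 := h.inj _ h1
  have h3 : x + y + y = y := by rw [h2, zero_add]
  rwa [add_assoc, V.add_self, add_zero] at h3

theorem Emb.comm {φ : V → G} (h : Emb φ) (x y : V) : φ x * φ y = φ y * φ x := by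
  rw [← h.add, ← h.add, add_comm]

/-- fusion inside `N` -/
def Rel (N : Subgroup G) (φ : V → G) (x y : V) : Prop := ∃ g ∈ N, g * φ x * g⁻¹ = φ y

/-- the standing hypotheses -/
structure Hyp (N : Subgroup G) (φ : V → G) : Prop extends Emb φ where
  norm : ∀ g ∈ N, ∀ x, ∃ y, g * φ x * g⁻¹ = φ y
  a : ∃ g ∈ N, ∀ x : V, g * φ x * g⁻¹ = φ (x ∘ (Equiv.swap (0 : Fin 4) 1 : Equiv.Perm (Fin 4)))
  b : ∃ g ∈ N, ∀ x : V, g * φ x * g⁻¹ = φ (x ∘ (Equiv.swap (2 : Fin 4) 3 : Equiv.Perm (Fin 4)))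
  c : ∃ g ∈ N, ∀ x : V, g * φ x * g⁻¹ =
    φ (x ∘ (Equiv.swap (0 : Fin 4) 2 * Equiv.swap (1 : Fin 4) 3 : Equiv.Perm (Fin 4)))

/-- the dihedral group of order `8` -/
def D : Finset (Equiv.Perm (Fin 4)) :=
  {1, Equiv.swap (0 : Fin 4) 1, Equiv.swap (2 : Fin 4) 3, Equiv.swap (0 : Fin 4) 1 * Equiv.swap (2 : Fin 4) 3,
    Equiv.swap (0 : Fin 4) 2 * Equiv.swap (1 : Fin 4) 3, Equiv.swap (0 : Fin 4) 1 * (Equiv.swap (0 : Fin 4) 2 * Equiv.swap (1 : Fin 4) 3),
    Equiv.swap (2 : Fin 4) 3 * (Equiv.swap (0 : Fin 4) 2 * Equiv.swap (1 : Fin 4) 3),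
    Equiv.swap (0 : Fin 4) 1 * (Equiv.swap (2 : Fin 4) 3 * (Equiv.swap (0 : Fin 4) 2 * Equiv.swap (1 : Fin 4) 3))}

variable {N : Subgroup G} {φ : V → G}

theorem Rel.refl (x : V) : Rel N φ x x := ⟨1, N.one_mem, by simp⟩

theorem Rel.symm {x y : V} (h : Rel N φ x y) : Rel N φ y x := by
  obtain ⟨g, hg, e⟩ := h
  refine ⟨g⁻¹, N.inv_mem hg, ?_⟩
  rw [← e]; group

theorem Rel.trans {x y w : V} (h : Rel N φ x y) (h' : Rel N φ y w) : Rel N φ x w := by
  obtain ⟨g, hg, e⟩ := h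
  obtain ⟨k, hk, e'⟩ := h'
  refine ⟨k * g, N.mul_mem hk hg, ?_⟩
  rw [← e', ← e]; group

namespace Hyp

theorem perm_mul (p q : Equiv.Perm (Fin 4))
    (hp : ∃ g ∈ N, ∀ x : V, g * φ x * g⁻¹ = φ (x ∘ p))
    (hq : ∃ g ∈ N, ∀ x : V, g * φ x * g⁻¹ = φ (x ∘ q)) :
    ∃ g ∈ N, ∀ x : V, g * φ x * g⁻¹ = φ (x ∘ (p * q : Equiv.Perm (Fin 4))) := by
  obtain ⟨g, hg, e⟩ := hp
  obtain ⟨k, hk, e'⟩ := hq
  refine ⟨k * g, N.mul_mem hk hg, fun x => ?_⟩
  have h1 : k * g * φ x * (k * g)⁻¹ = k * (g * φ x * g⁻¹) * k⁻¹ := by group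
  rw [h1, e, e']
  rfl

theorem perm_mem (h : Hyp N φ) (p : Equiv.Perm (Fin 4)) (hp : p ∈ D) :
    ∃ g ∈ N, ∀ x : V, g * φ x * g⁻¹ = φ (x ∘ p) := by
  have hab := perm_mul _ _ h.a h.b
  have hac := perm_mul _ _ h.a h.c
  have hbc := perm_mul _ _ h.b h.c
  have habc := perm_mul _ _ h.a hbc
  simp only [D, Finset.mem_insert, Finset.mem_singleton] at hp
  rcases hp with rfl | rfl | rfl | rfl | rfl | rfl | rfl | rfl
  · exact ⟨1, N.one_mem, fun x => by simp⟩
  · exact h.a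
  · exact h.b
  · exact hab
  · exact h.c
  · exact hac
  · exact hbc
  · exact habc

theorem rel_perm (h : Hyp N φ) (p : Equiv.Perm (Fin 4)) (hp : p ∈ D) (x : V) :
    Rel N φ x (x ∘ p) := by
  obtain ⟨g, hg, e⟩ := h.perm_mem p hp
  exact ⟨g, hg, e x⟩

theorem cases_aux : ∀ y : V, y = 0 ∨ y = vz ∨ (∃ p ∈ D, y = v1 ∘ p) ∨ (∃ p ∈ D, y = v3 ∘ p) ∨
    (∃ p ∈ D, y = vt ∘ p) ∨ (∃ p ∈ D, y = vy ∘ p) := by
  decide +kernel

theorem cases (h : Hyp N φ) (y : V) : y = 0 ∨ y = vz ∨ Rel N φ v1 y ∨ Rel N φ v3 y ∨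
    Rel N φ vt y ∨ Rel N φ vy y := by
  rcases cases_aux y with h1 | h1 | ⟨p, hp, rfl⟩ | ⟨p, hp, rfl⟩ | ⟨p, hp, rfl⟩ | ⟨p, hp, rfl⟩
  · exact Or.inl h1
  · exact Or.inr (Or.inl h1)
  · exact Or.inr (Or.inr (Or.inl (h.rel_perm p hp _)))
  · exact Or.inr (Or.inr (Or.inr (Or.inl (h.rel_perm p hp _))))
  · exact Or.inr (Or.inr (Or.inr (Or.inr (Or.inl (h.rel_perm p hp _)))))
  · exact Or.inr (Or.inr (Or.inr (Or.inr (Or.inr (h.rel_perm p hp _)))))

theorem ne_zero_of_rel (h : Hyp N φ) {x y : V} (hx : x ≠ 0) (hr : Rel N φ x y) : y ≠ 0 := by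
  rintro rfl
  obtain ⟨g, _, e⟩ := hr
  rw [h.zero] at e
  apply hx
  apply h.inj
  have : φ x = g⁻¹ * (g * φ x * g⁻¹) * g := by group
  rw [this, e]; group

end Hyp

/-- parity of the weight -/
def wt (x : V) : ZMod 2 := x 0 + x 1 + x 2 + x 3

theorem wt_add (x y : V) : wt (x + y) = wt x + wt y := by
  simp only [wt, Pi.add_apply]; ring

theorem even_cases : ∀ y : V, wt y = 0 → y = 0 ∨ y = vz ∨ (∃ p ∈ D, y = vt ∘ p) ∨
    (∃ p ∈ D, y = vy ∘ p) := by
  decide +kernel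

theorem odd_cases : ∀ y : V, wt y ≠ 0 → (∃ p ∈ D, y = v1 ∘ p) ∨ (∃ p ∈ D, y = v3 ∘ p) := by
  decide +kernel

theorem o1_cases : ∀ y : V, (∃ p ∈ D, y = v1 ∘ p) ∨ y = vz ↔ ∃ i, y = o1 i := by
  decide +kernel

theorem o3_cases : ∀ y : V, (∃ p ∈ D, y = v3 ∘ p) ∨ y = vz ↔ ∃ i, y = o3 i := by
  decide +kernel

/-- **the orbit of `z`.** -/
theorem orbit (h : Hyp N φ) (ht : ¬ Rel N φ vt vz) (h1 : Rel N φ vt vy)
    (h2 : ∃ y, y ≠ vz ∧ Rel N φ vz y) :
    (∀ y, Rel N φ vz y ↔ ∃ i, y = o1 i) ∨ (∀ y, Rel N φ vz y ↔ ∃ i, y = o3 i) := by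
  -- the elements of even weight in the orbit
  have hz0 : vz ≠ 0 := by decide
  have hev : ∀ y, Rel N φ vz y → wt y = 0 → y = vz := by
    intro y hy hw
    rcases even_cases y hw with h3 | h3 | ⟨p, hp, h3⟩ | ⟨p, hp, h3⟩
    · exact absurd h3 (h.ne_zero_of_rel hz0 hy)
    · exact h3
    · exfalso
      apply ht
      exact (h.rel_perm p hp vt).trans (h3 ▸ hy.symm)
    · exfalso
      apply ht
      exact (h1.trans (h.rel_perm p hp vy)).trans (h3 ▸ hy.symm)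
  -- not both
  have hnot : ¬ (Rel N φ vz v1 ∧ Rel N φ vz v3) := by
    rintro ⟨ha, hb⟩
    obtain ⟨y, hy, g, hg, hgy⟩ := h2
    have hodd : ∀ u : V, wt u ≠ 0 → Rel N φ vz u := by
      intro u hu
      rcases odd_cases u hu with ⟨p, hp, rfl⟩ | ⟨p, hp, rfl⟩
      · exact ha.trans (h.rel_perm p hp _)
      · exact hb.trans (h.rel_perm p hp _)
    obtain ⟨u, hu⟩ := h.norm g hg vt
    obtain ⟨v, hv⟩ := h.norm g hg vt2
    have hadd : vz = vt + vt2 := by decide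
    have huv : y = u + v := by
      apply h.injective
      rw [h.add, ← hu, ← hv, ← hgy, hadd, h.add]; group
    have hu0 : wt u = 0 := by
      by_contra hc
      exact ht (Rel.trans (⟨g, hg, hu⟩ : Rel N φ vt u) (hodd u hc).symm)
    have ht2 : Rel N φ vt vt2 := by
      have := h.rel_perm (Equiv.swap (0 : Fin 4) 2 * Equiv.swap (1 : Fin 4) 3) (by decide) vt
      have e : vt ∘ (Equiv.swap (0 : Fin 4) 2 * Equiv.swap (1 : Fin 4) 3 : Equiv.Perm (Fin 4)) = vt2 := by decide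
      rwa [e] at this
    have hv0 : wt v = 0 := by
      by_contra hc
      exact ht (Rel.trans (Rel.trans ht2 (⟨g, hg, hv⟩ : Rel N φ vt2 v)) (hodd v hc).symm)
    apply hy
    apply hev y ⟨g, hg, hgy⟩
    rw [huv, wt_add, hu0, hv0, add_zero]
  -- at least one
  obtain ⟨y, hy, hyr⟩ := h2
  have hyw : wt y ≠ 0 := fun hc => hy (hev y hyr hc)
  rcases odd_cases y hyw with ⟨p, hp, rfl⟩ | ⟨p, hp, rfl⟩
  · left
    have ha : Rel N φ vz v1 := hyr.trans (h.rel_perm p hp _).symm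
    intro w
    rw [← o1_cases]
    constructor
    · intro hw
      by_cases hw0 : wt w = 0
      · exact Or.inr (hev w hw hw0)
      · rcases odd_cases w hw0 with h3 | ⟨q, hq, rfl⟩
        · exact Or.inl h3
        · exact absurd ⟨ha, hw.trans (h.rel_perm q hq _).symm⟩ hnot
    · rintro (⟨q, hq, rfl⟩ | rfl)
      · exact ha.trans (h.rel_perm q hq _)
      · exact Rel.refl _
  · right
    have ha : Rel N φ vz v3 := hyr.trans (h.rel_perm p hp _).symm
    intro w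
    rw [← o3_cases]
    constructor
    · intro hw
      by_cases hw0 : wt w = 0
      · exact Or.inr (hev w hw hw0)
      · rcases odd_cases w hw0 with ⟨q, hq, rfl⟩ | h3
        · exact absurd ⟨hw.trans (h.rel_perm q hq _).symm, ha⟩ hnot
        · exact Or.inl h3
    · rintro (⟨q, hq, rfl⟩ | rfl)
      · exact ha.trans (h.rel_perm q hq _)
      · exact Rel.refl _

/-- the permutations of a five element family induced by `N` -/
def perms (N : Subgroup G) (φ : V → G) (o : Fin 5 → V) : Subgroup (Equiv.Perm (Fin 5)) where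
  carrier := {σ | ∃ g ∈ N, ∀ i, g * φ (o i) * g⁻¹ = φ (o (σ i))}
  one_mem' := ⟨1, N.one_mem, fun i => by simp⟩
  mul_mem' := by
    rintro σ τ ⟨g, hg, e⟩ ⟨k, hk, e'⟩
    refine ⟨g * k, N.mul_mem hg hk, fun i => ?_⟩
    have h1 : g * k * φ (o i) * (g * k)⁻¹ = g * (k * φ (o i) * k⁻¹) * g⁻¹ := by group
    rw [h1, e', e]
    rfl
  inv_mem' := by
    rintro σ ⟨g, hg, e⟩
    refine ⟨g⁻¹, N.inv_mem hg, fun i => ?_⟩
    have h1 := e (σ⁻¹ i)
    have h2 : σ (σ⁻¹ i) = i := by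
      rw [← Equiv.Perm.mul_apply, mul_inv_cancel, Equiv.Perm.one_apply]
    rw [h2] at h1
    rw [← h1]; group

theorem exists_perm (h : Hyp N φ) (o : Fin 5 → V) (hinj : Function.Injective o)
    (hor : ∀ y, Rel N φ vz y ↔ ∃ i, y = o i) (g : G) (hg : g ∈ N) :
    ∃ σ : Equiv.Perm (Fin 5), ∀ i, g * φ (o i) * g⁻¹ = φ (o (σ i)) := by
  have h1 : ∀ i, ∃ j, g * φ (o i) * g⁻¹ = φ (o j) := by
    intro i
    obtain ⟨y, hy⟩ := h.norm g hg (o i)
    have h2 : Rel N φ vz y := ((hor _).2 ⟨i, rfl⟩).trans ⟨g, hg, hy⟩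
    obtain ⟨j, rfl⟩ := (hor _).1 h2
    exact ⟨j, hy⟩
  choose f hf using h1
  have hfi : Function.Injective f := by
    intro i j hij
    have h2 := hf i
    rw [hij, ← hf j] at h2
    have h3 : φ (o i) = φ (o j) := by
      have := mul_right_cancel h2
      exact mul_left_cancel this
    exact hinj (h.injective h3)
  exact ⟨Equiv.ofBijective f (Finite.injective_iff_bijective.1 hfi), hf⟩

theorem perms_eq_top (h : Hyp N φ) (o : Fin 5 → V) (hinj : Function.Injective o)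
    (hor : ∀ y, Rel N φ vz y ↔ ∃ i, y = o i) (h4 : o 4 = vz)
    (hsw : ∀ i, (o i) ∘ (Equiv.swap 0 1 : Equiv.Perm (Fin 4)) = o (Equiv.swap (0 : Fin 5) 1 i)) :
    perms N φ o = ⊤ := by
  classical
  have htr : ∀ i : Fin 5, ∃ σ ∈ perms N φ o, σ 4 = i := by
    intro i
    obtain ⟨g, hg, e⟩ := (hor (o i)).2 ⟨i, rfl⟩
    obtain ⟨σ, hσ⟩ := exists_perm h o hinj hor g hg
    refine ⟨σ, ⟨g, hg, hσ⟩, ?_⟩
    apply hinj
    apply h.injective
    rw [← hσ 4, h4, e]
  have hcard : Fintype.card (Fin 5) ∣ Fintype.card (perms N φ o) := by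
    have h1 := MulAction.card_orbit_mul_card_stabilizer_eq_card_group (perms N φ o) (4 : Fin 5)
    have h2 : Fintype.card (MulAction.orbit (perms N φ o) (4 : Fin 5)) = Fintype.card (Fin 5) := by
      have h3 : MulAction.orbit (perms N φ o) (4 : Fin 5) = Set.univ := by
        ext i
        simp only [Set.mem_univ, iff_true]
        obtain ⟨σ, hσ, hi⟩ := htr i
        exact ⟨⟨σ, hσ⟩, hi⟩
      rw [← Set.toFinset_card, ← Finset.card_univ]
      congr 1
      ext i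
      simp [h3]
    rw [← h1, h2]
    exact Dvd.intro _ rfl
  obtain ⟨g, hg, e⟩ := h.a
  refine Equiv.Perm.subgroup_eq_top_of_swap_mem (τ := Equiv.swap 0 1) (by decide) hcard
    ⟨g, hg, fun i => ?_⟩ ⟨0, 1, by decide, rfl⟩
  rw [e, hsw]

/-- **`N` induces `S₅` on `E`.** -/
theorem main (h : Hyp N φ) (ht : ¬ Rel N φ vt vz) (h1 : Rel N φ vt vy)
    (h2 : ∃ y, y ≠ vz ∧ Rel N φ vz y) :
    ∃ o : Fin 5 → V, (o = o1 ∨ o = o3) ∧ (∀ y, Rel N φ vz y ↔ ∃ i, y = o i) ∧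
      ∀ σ : Equiv.Perm (Fin 5), ∃ g ∈ N, ∀ i, g * φ (o i) * g⁻¹ = φ (o (σ i)) := by
  rcases orbit h ht h1 h2 with hor | hor
  · refine ⟨o1, Or.inl rfl, hor, fun σ => ?_⟩
    have h3 := perms_eq_top h o1 (by decide) hor (by decide) (by decide +kernel)
    have h4 : σ ∈ perms N φ o1 := by rw [h3]; trivial
    exact h4
  · refine ⟨o3, Or.inr rfl, hor, fun σ => ?_⟩
    have h3 := perms_eq_top h o3 (by decide) hor (by decide) (by decide +kernel)
    have h4 : σ ∈ perms N φ o3 := by rw [h3]; trivial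
    exact h4

end Cfsg.Agent.TypeLFive.EOrbit
end

-- part: TypeLFive/TNotZ
section
/-!
# S0511 (F), step (1): `t = (ζ, 1)` is not conjugate to `z = (ζ, ζ)`, `T` is Sylow in `C_G(t)`
-/

set_option autoImplicit false

namespace Cfsg.Agent.TypeLFive.TNotZ

open Cfsg.Agent.TypeLFive.Model Cfsg.Agent.TypeLFive.Facts

variable {G W : Type*} [Group G] [Group W]

theorem relIndex_range {S : Subgroup G} {f : W × W →* G} {w : G} (h : Wr S f w) :
    f.range.relIndex S = 2 := by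
  rw [Subgroup.relIndex, Subgroup.index_eq_two_iff]
  refine ⟨⟨w, h.w_mem⟩, ?_⟩
  rintro ⟨b, hb⟩
  rw [Subgroup.mem_subgroupOf, Subgroup.mem_subgroupOf]
  change Xor (b * w ∈ f.range) (b ∈ f.range)
  rcases h.cases b hb with ⟨x, y, rfl⟩ | ⟨x, y, rfl⟩
  · right; exact ⟨⟨_, rfl⟩, h.fw_not_mem_range _⟩
  · left
    refine ⟨?_, h.fw_not_mem_range _⟩
    rw [mul_assoc, h.w_w, mul_one]
    exact ⟨_, rfl⟩

/-- Elements of `S` commuting with everything in `T`. -/
theorem central_iff {S : Subgroup G} {f : W × W →* G} {w : G} (h : Wr S f w) {ζ : W}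
    (b : WBase ζ) (s : G) (hs : s ∈ S) (hc : ∀ p, s * f p = f p * s) :
    ∃ x y, s = f (x, y) ∧ (∀ v, x * v = v * x) ∧ (∀ v, y * v = v * y) := by
  rcases h.cases s hs with ⟨x, y, rfl⟩ | ⟨x, y, rfl⟩
  · refine ⟨x, y, rfl, fun v => ?_, fun v => ?_⟩
    · exact ((h.f_comm_f_iff x y v v).1 (hc (v, v))).1
    · exact ((h.f_comm_f_iff x y v v).1 (hc (v, v))).2
  · exfalso
    have h1 := (h.fw_comm_f_iff x y ζ 1).1 (hc (ζ, 1))
    apply b.ne
    have h2 := h1.1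
    rw [mul_one] at h2
    exact mul_eq_right.1 h2.symm

/-- `z` is the only involution of the centre of `S`. -/
theorem center_inv {S : Subgroup G} {f : W × W →* G} {w : G} (h : Wr S f w) {ζ : W}
    (b : WBase ζ) (s : G) (hs : s ∈ S) (hc : ∀ r ∈ S, s * r = r * s) (hss : s * s = 1)
    (hs1 : s ≠ 1) : s = f (ζ, ζ) := by
  obtain ⟨x, y, rfl, hx, hy⟩ := central_iff h b s hs (fun p => hc _ (h.mem p))
  have h1 := (h.f_comm_w_iff x y).1 (hc _ h.w_mem)
  subst h1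
  rw [h.f_mul_f, h.f_eq_one_iff, Prod.mk_eq_one] at hss
  rcases b.uniq x hx hss.1 with rfl | rfl
  · exact absurd (map_one f) hs1
  · rfl

theorem z_comm {S : Subgroup G} {f : W × W →* G} {w : G} (h : Wr S f w) {ζ : W}
    (b : WBase ζ) (r : G) (hr : r ∈ S) : r * f (ζ, ζ) = f (ζ, ζ) * r := by
  rcases h.cases r hr with ⟨x, y, rfl⟩ | ⟨x, y, rfl⟩
  · rw [h.f_comm_f_iff]
    exact ⟨(b.central x).symm, (b.central y).symm⟩
  · rw [h.fw_comm_f_iff]
    exact ⟨(b.central x).symm, (b.central y).symm⟩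

theorem t_comm {S : Subgroup G} {f : W × W →* G} {w : G} (h : Wr S f w) {ζ : W}
    (b : WBase ζ) (p : W × W) : f p * f (ζ, 1) = f (ζ, 1) * f p := by
  obtain ⟨x, y⟩ := p
  rw [h.f_comm_f_iff]
  exact ⟨(b.central x).symm, by rw [one_mul, mul_one]⟩

/-- **(F)(1)**: `t` is not conjugate to `z`. -/
theorem not_conj [Finite G] {S : Sylow 2 G} {f : W × W →* G} {w : G}
    (h : Wr (S : Subgroup G) f w) {ζ : W} (b : WBase ζ) :
    ¬ IsConj (f (ζ, 1)) (f (ζ, ζ)) := by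
  intro hcon
  rw [isConj_iff] at hcon
  obtain ⟨g, hg, hgS⟩ := SylowSp4.Extremal.exists_conj_of_central S
    (fun y hy => z_comm h b y hy) hcon
  have hgT : ∀ p, g * f p * g⁻¹ ∈ (S : Subgroup G) := fun p => hgS _ (h.mem p) (t_comm h b p)
  have hfinW := b.finite
  by_cases hc : ∀ p, ∃ q, g * f p * g⁻¹ = f q
  · -- `g` normalises `T`
    choose φ hφ using hc
    have hinj : Function.Injective φ := by
      intro p q hpq
      have h1 : g * f p * g⁻¹ = g * f q * g⁻¹ := by rw [hφ, hφ, hpq]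
      exact h.inj (mul_left_cancel (mul_right_cancel h1))
    have hsurj : Function.Surjective φ := Finite.surjective_of_injective hinj
    obtain ⟨x1, hx1, y1, hy1⟩ := b.comm1
    obtain ⟨⟨a, c⟩, hac⟩ : ∃ q, φ (x1, 1) = q := ⟨_, rfl⟩
    have hfac : g * f (x1, 1) * g⁻¹ = f (a, c) := by rw [hφ, hac]
    have key : ∀ q : W × W, f (a, c) * f q = f q * f (a, c) ∨
        f (a, c) * f q = f (ζ, ζ) * (f q * f (a, c)) := by
      intro q
      obtain ⟨⟨p1, p2⟩, rfl⟩ := hsurj q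
      rw [← hφ, ← hfac]
      rcases hx1 p1 with h1 | h1
      · left
        have h2 : f (x1, 1) * f (p1, p2) = f (p1, p2) * f (x1, 1) := by
          rw [h.f_comm_f_iff]
          exact ⟨h1, by rw [one_mul, mul_one]⟩
        calc g * f (x1, 1) * g⁻¹ * (g * f (p1, p2) * g⁻¹) = g * (f (x1, 1) * f (p1, p2)) * g⁻¹ := by
              group
          _ = g * (f (p1, p2) * f (x1, 1)) * g⁻¹ := by rw [h2]
          _ = _ := by group
      · right
        have h2 : f (x1, 1) * f (p1, p2) = f (ζ, 1) * (f (p1, p2) * f (x1, 1)) := by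
          rw [h.f_mul_f, h.f_mul_f, h.f_mul_f, h1, one_mul, one_mul, mul_one]
        rw [← hg]
        calc g * f (x1, 1) * g⁻¹ * (g * f (p1, p2) * g⁻¹) = g * (f (x1, 1) * f (p1, p2)) * g⁻¹ := by
              group
          _ = g * (f (ζ, 1) * (f (p1, p2) * f (x1, 1))) * g⁻¹ := by rw [h2]
          _ = _ := by group
    have ha : ∀ v, a * v = v * a := by
      intro v
      rcases key (v, 1) with h1 | h1
      · exact ((h.f_comm_f_iff _ _ _ _).1 h1).1
      · exfalso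
        rw [h.f_mul_f, h.f_mul_f, h.f_mul_f, h.f_eq_iff, Prod.mk.injEq, one_mul, mul_one] at h1
        exact b.ne (mul_eq_right.1 h1.2.symm)
    have hc' : ∀ v, c * v = v * c := by
      intro v
      rcases key (1, v) with h1 | h1
      · exact ((h.f_comm_f_iff _ _ _ _).1 h1).2
      · exfalso
        rw [h.f_mul_f, h.f_mul_f, h.f_mul_f, h.f_eq_iff, Prod.mk.injEq, one_mul, mul_one] at h1
        exact b.ne (mul_eq_right.1 h1.1.symm)
    -- contradiction: `(x1, 1)` is central in `T`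
    have h3 : f (x1, 1) * f (y1, 1) = f (y1, 1) * f (x1, 1) := by
      obtain ⟨⟨d1, d2⟩, hd⟩ : ∃ q, φ (y1, 1) = q := ⟨_, rfl⟩
      have hfd : g * f (y1, 1) * g⁻¹ = f (d1, d2) := by rw [hφ, hd]
      have h4 : f (a, c) * f (d1, d2) = f (d1, d2) * f (a, c) := by
        rw [h.f_comm_f_iff]; exact ⟨ha _, hc' _⟩
      rw [← hfac, ← hfd] at h4
      have h5 : g * (f (x1, 1) * f (y1, 1)) * g⁻¹ = g * (f (y1, 1) * f (x1, 1)) * g⁻¹ := by
        calc g * (f (x1, 1) * f (y1, 1)) * g⁻¹ = g * f (x1, 1) * g⁻¹ * (g * f (y1, 1) * g⁻¹) := by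
              group
          _ = _ := h4
          _ = _ := by group
      exact mul_left_cancel (mul_right_cancel h5)
    have h4 := ((h.f_comm_f_iff _ _ _ _).1 h3).1
    rw [hy1] at h4
    exact b.ne (mul_eq_right.1 h4)
  · -- `T^g ≠ T`
    push Not at hc
    obtain ⟨p0, hp0⟩ := hc
    obtain ⟨a, c, hac⟩ : ∃ a c, g * f p0 * g⁻¹ = f (a, c) * w := by
      rcases h.cases _ (hgT p0) with ⟨x, y, hxy⟩ | ⟨x, y, hxy⟩
      · exact absurd hxy (hp0 _)
      · exact ⟨x, y, hxy⟩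
    let T1 : Subgroup G := f.range.map (MulAut.conj g).toMonoidHom
    have hT1 : T1 ≤ (S : Subgroup G) := by
      rintro _ ⟨_, ⟨p, rfl⟩, rfl⟩
      exact hgT p
    have hT1card : Nat.card T1 = Nat.card f.range :=
      (Nat.card_congr (f.range.equivMapOfInjective _ (MulAut.conj g).injective).toEquiv).symm
    have hidx : (T1.subgroupOf (S : Subgroup G)).index = 2 := by
      have e1 : Nat.card (T1.subgroupOf (S : Subgroup G)) * (T1.subgroupOf (S : Subgroup G)).index =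
        Nat.card (S : Subgroup G) := Subgroup.card_mul_index _
      have e2 : Nat.card (f.range.subgroupOf (S : Subgroup G)) *
        (f.range.subgroupOf (S : Subgroup G)).index = Nat.card (S : Subgroup G) :=
        Subgroup.card_mul_index _
      have e3 : (f.range.subgroupOf (S : Subgroup G)).index = 2 := relIndex_range h
      have e4 : Nat.card (T1.subgroupOf (S : Subgroup G)) = Nat.card T1 :=
        Nat.card_congr (Subgroup.subgroupOfEquivOfLe hT1).toEquiv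
      have e5 : Nat.card (f.range.subgroupOf (S : Subgroup G)) = Nat.card f.range :=
        Nat.card_congr (Subgroup.subgroupOfEquivOfLe h.range_le).toEquiv
      rw [e4, hT1card] at e1
      rw [e5, e3] at e2
      have e6 : 0 < Nat.card f.range := by
        have : Finite f.range := inferInstance
        exact Nat.card_pos
      exact Nat.eq_of_mul_eq_mul_left e6 (e1.trans e2.symm)
    -- the index two property
    have hK : ∀ p q : W × W, f p ∉ T1 → f q ∉ T1 → f p * f q ∈ T1 := by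
      intro p q hp hq
      have h1 := Subgroup.mul_mem_iff_of_index_two hidx (a := ⟨f p, h.mem p⟩)
        (b := ⟨f q, h.mem q⟩)
      exact h1.2 ⟨fun h => absurd h hp, fun h => absurd h hq⟩
    have hyT1 : f (a, c) * w ∈ T1 := ⟨f p0, ⟨p0, rfl⟩, hac⟩
    -- conjugation by `y = f (a, c) w`
    have hyc : ∀ p1 p2, f (p1, p2) ∈ T1 → f (a * p2 * a⁻¹, c * p1 * c⁻¹) ∈ T1 := by
      intro p1 p2 hp
      have h1 := T1.mul_mem (T1.mul_mem hyT1 hp) (T1.inv_mem hyT1)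
      have e : f (a, c) * w * f (p1, p2) * (f (a, c) * w)⁻¹ =
          f (a * p2 * a⁻¹, c * p1 * c⁻¹) := by
        rw [h.fw_inv, h.fw_mul_f, h.fw_mul_fw]
      rwa [e] at h1
    have hproj1 : ∀ x, ∃ v, f (x, v) ∈ T1 := by
      by_contra hcon
      push Not at hcon
      obtain ⟨x, hx⟩ := hcon
      have hx' : f (x⁻¹, 1) ∉ T1 := by
        intro h1
        apply hx 1
        have h2 := T1.inv_mem h1
        rwa [← map_inv, Prod.inv_mk, inv_inv, inv_one] at h2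
      have h1 : ∀ v, f (1, v) ∈ T1 := by
        intro v
        have h2 := hK (x, v) (x⁻¹, 1) (hx v) hx'
        rwa [h.f_mul_f, mul_inv_cancel, mul_one] at h2
      have h2 : ∀ v, f (v, 1) ∈ T1 := by
        intro v
        have h3 := hyc 1 (a⁻¹ * v * a) (h1 _)
        have e : a * (a⁻¹ * v * a) * a⁻¹ = v := by group
        rwa [e, mul_one, mul_inv_cancel] at h3
      exact hx 1 (h2 x)
    have hproj2 : ∀ x, ∃ v, f (v, x) ∈ T1 := by
      intro x
      obtain ⟨v, hv⟩ := hproj1 (c⁻¹ * x * c)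
      have h1 := hyc _ _ hv
      have e : c * (c⁻¹ * x * c) * c⁻¹ = x := by group
      rw [e] at h1
      exact ⟨_, h1⟩
    have hζ1 : f (ζ, 1) ∈ T1 := by
      obtain ⟨x1, hx1, y1, hy1⟩ := b.comm1
      obtain ⟨v, hv⟩ := hproj1 x1
      have hn : (T1.subgroupOf (S : Subgroup G)).Normal := Subgroup.normal_of_index_eq_two hidx
      have h1 : f (y1, 1) * f (x1, v) * (f (y1, 1))⁻¹ ∈ T1 :=
        hn.conj_mem ⟨f (x1, v), h.mem _⟩ hv ⟨f (y1, 1), h.mem _⟩
      have h2 := T1.mul_mem hv (T1.inv_mem h1)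
      have e : f (x1, v) * (f (y1, 1) * f (x1, v) * (f (y1, 1))⁻¹)⁻¹ = f (ζ, 1) := by
        rw [← map_inv f (y1, 1), h.f_mul_f, Prod.inv_mk, h.f_mul_f, ← map_inv, h.f_mul_f,
          h.f_eq_iff, Prod.mk.injEq]
        refine ⟨?_, by simp only [_root_.one_mul, _root_.inv_one, _root_.mul_one, _root_.Prod.inv_mk, _root_.mul_inv_rev, _root_.inv_inv, _root_.mul_inv_cancel]⟩
        calc x1 * (y1 * x1 * y1⁻¹)⁻¹ = (x1 * y1) * x1⁻¹ * y1⁻¹ := by group
          _ = ζ * (y1 * x1) * x1⁻¹ * y1⁻¹ := by rw [hy1]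
          _ = ζ := by group
      rwa [e] at h2
    -- the element `r = g (1, ζ) g⁻¹` of the centre of `T1`
    have hrT1 : g * f (1, ζ) * g⁻¹ ∈ T1 := ⟨_, ⟨_, rfl⟩, rfl⟩
    have hrc : ∀ r ∈ T1, g * f (1, ζ) * g⁻¹ * r = r * (g * f (1, ζ) * g⁻¹) := by
      rintro _ ⟨_, ⟨⟨p1, p2⟩, rfl⟩, rfl⟩
      have h1 : f (1, ζ) * f (p1, p2) = f (p1, p2) * f (1, ζ) := by
        rw [h.f_comm_f_iff]
        exact ⟨by rw [one_mul, mul_one], b.central p2⟩
      change g * f (1, ζ) * g⁻¹ * (g * f (p1, p2) * g⁻¹) = g * f (p1, p2) * g⁻¹ * (g * f (1, ζ) * g⁻¹)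
      calc g * f (1, ζ) * g⁻¹ * (g * f (p1, p2) * g⁻¹) = g * (f (1, ζ) * f (p1, p2)) * g⁻¹ := by
            group
        _ = g * (f (p1, p2) * f (1, ζ)) * g⁻¹ := by rw [h1]
        _ = _ := by group
    have hrr : g * f (1, ζ) * g⁻¹ * (g * f (1, ζ) * g⁻¹) = 1 := by
      have h1 : f (1, ζ) * f (1, ζ) = 1 := by
        rw [h.f_mul_f, one_mul, b.sq]; exact map_one f
      calc g * f (1, ζ) * g⁻¹ * (g * f (1, ζ) * g⁻¹) = g * (f (1, ζ) * f (1, ζ)) * g⁻¹ := by group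
        _ = 1 := by rw [h1]; group
    have hr1 : g * f (1, ζ) * g⁻¹ ≠ 1 := by
      rw [Ne, conj_eq_one_iff, h.f_eq_one_iff, Prod.mk_eq_one]
      exact fun hh => b.ne hh.2
    have hrz : g * f (1, ζ) * g⁻¹ ≠ f (ζ, ζ) := by
      rw [← hg, Ne, mul_left_inj, mul_right_inj, h.f_eq_iff, Prod.mk.injEq]
      exact fun hh => b.ne hh.2
    rcases h.cases _ (hgT (1, ζ)) with ⟨r1, r2, hr⟩ | ⟨r1, r2, hr⟩
    · rw [hr] at hrc hrr hr1 hrz
      have hr1c : ∀ v, r1 * v = v * r1 := by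
        intro v
        obtain ⟨v', hv'⟩ := hproj1 v
        exact ((h.f_comm_f_iff _ _ _ _).1 (hrc _ hv')).1
      have hr2c : ∀ v, r2 * v = v * r2 := by
        intro v
        obtain ⟨v', hv'⟩ := hproj2 v
        exact ((h.f_comm_f_iff _ _ _ _).1 (hrc _ hv')).2
      rw [h.f_mul_f, h.f_eq_one_iff, Prod.mk_eq_one] at hrr
      have h5 := (h.fw_comm_f_iff _ _ _ _).1 (hrc _ hyT1).symm
      rcases b.uniq r1 hr1c hrr.1 with rfl | rfl <;> rcases b.uniq r2 hr2c hrr.2 with rfl | rfl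
      · exact hr1 (map_one f)
      · have h6 := h5.1
        rw [one_mul] at h6
        exact b.ne (mul_eq_left.1 h6)
      · have h6 := h5.2
        rw [one_mul] at h6
        exact b.ne (mul_eq_left.1 h6)
      · exact hrz rfl
    · rw [hr] at hrc
      have h5 := (h.fw_comm_f_iff _ _ _ _).1 (hrc _ hζ1)
      have h6 := h5.1
      rw [mul_one] at h6
      exact b.ne (mul_eq_right.1 h6.symm)

/-- `T` is a Sylow 2-subgroup of `C_G(t)`. -/
theorem sylow_t [Finite G] {S : Sylow 2 G} {f : W × W →* G} {w : G}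
    (h : Wr (S : Subgroup G) f w) {ζ : W} (b : WBase ζ) (R : Subgroup G) (hR : IsPGroup 2 R)
    (hTR : f.range ≤ R) (hRt : ∀ r ∈ R, r * f (ζ, 1) = f (ζ, 1) * r) : R = f.range := by
  by_contra hne
  -- `|R| = |S|`
  obtain ⟨Q, hQ⟩ := hR.exists_le_sylow
  have hfR : Finite R := inferInstance
  have hT : f.range < R := lt_of_le_of_ne hTR (Ne.symm hne)
  have e2 : Nat.card (f.range.subgroupOf (S : Subgroup G)) *
    (f.range.subgroupOf (S : Subgroup G)).index = Nat.card (S : Subgroup G) :=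
    Subgroup.card_mul_index _
  have e3 : (f.range.subgroupOf (S : Subgroup G)).index = 2 := relIndex_range h
  have e5 : Nat.card (f.range.subgroupOf (S : Subgroup G)) = Nat.card f.range :=
    Nat.card_congr (Subgroup.subgroupOfEquivOfLe h.range_le).toEquiv
  rw [e3, e5] at e2
  have e6 : Nat.card (Q : Subgroup G) = Nat.card (S : Subgroup G) := Nat.card_congr (Sylow.equiv Q S).toEquiv
  have e7 : Nat.card R ∣ Nat.card (Q : Subgroup G) := Subgroup.card_dvd_of_le hQ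
  have e8 : Nat.card f.range ∣ Nat.card R := Subgroup.card_dvd_of_le hTR
  obtain ⟨k, hk⟩ := e8
  obtain ⟨l, hl⟩ := e7
  have hpos : 0 < Nat.card f.range := Nat.card_pos
  have hkl : k * l = 2 := by
    rw [e6, ← e2, hk, mul_assoc] at hl
    exact (Nat.eq_of_mul_eq_mul_left hpos hl).symm
  have hk1 : k ≠ 1 := by
    rintro rfl
    rw [mul_one] at hk
    exact hne (Subgroup.eq_of_le_of_card_ge hTR hk.le).symm
  have hl1 : l = 1 := by
    have : k ∣ 2 := ⟨l, hkl.symm⟩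
    rcases (Nat.dvd_prime Nat.prime_two).1 this with h1 | h1
    · exact absurd h1 hk1
    · subst h1; omega
  have hRQ : R = (Q : Subgroup G) := Subgroup.eq_of_le_of_card_ge hQ (by rw [hl, hl1, mul_one])
  obtain ⟨n, hn⟩ := MulAction.exists_smul_eq G Q S
  have hnR : ∀ y, y ∈ (S : Subgroup G) ↔ n⁻¹ * y * n ∈ R := by
    intro y
    rw [← hn, Sylow.coe_subgroup_smul, hRQ, Subgroup.mem_pointwise_smul_iff_inv_smul_mem]
    simp only [← map_inv, _root_.MulAut.smul_def, _root_.MulAut.conj_apply, _root_.inv_inv]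
  apply not_conj h b
  rw [isConj_iff]
  refine ⟨n, ?_⟩
  have hn1 : ∀ x, n⁻¹ * (n * x * n⁻¹) * n = x := by intro x; group
  have htR : f (ζ, 1) ∈ R := hTR ⟨_, rfl⟩
  have htt : f (ζ, 1) * f (ζ, 1) = 1 := by
    rw [h.f_mul_f, one_mul, b.sq]; exact map_one f
  apply center_inv h b
  · rw [hnR, hn1]; exact htR
  · intro r hr
    have h1 := hRt _ ((hnR r).1 hr)
    calc n * f (ζ, 1) * n⁻¹ * r = n * (f (ζ, 1) * (n⁻¹ * r * n)) * n⁻¹ := by group
      _ = n * (n⁻¹ * r * n * f (ζ, 1)) * n⁻¹ := by rw [h1]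
      _ = r * (n * f (ζ, 1) * n⁻¹) := by group
  · calc n * f (ζ, 1) * n⁻¹ * (n * f (ζ, 1) * n⁻¹) = n * (f (ζ, 1) * f (ζ, 1)) * n⁻¹ := by group
      _ = 1 := by rw [htt]; group
  · rw [Ne, conj_eq_one_iff, h.f_eq_one_iff, Prod.mk_eq_one]
    exact fun hh => b.ne hh.1

end Cfsg.Agent.TypeLFive.TNotZ
end

-- part: TypeLFive/Control
section
/-!
# Control of fusion lemmas
-/

set_option autoImplicit false

namespace Cfsg.Agent.TypeLFive.Control

open Subgroup Cfsg.Agent.Lib.GoldschmidtFusion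
open Cfsg.Agent.TypeLFive.Model Cfsg.Agent.TypeLFive.Facts

variable {G : Type*} [Group G] [Finite G]

omit [Finite G] in
theorem map_conj_mul (A : Subgroup G) (a b : G) :
    (A.map (MulAut.conj b).toMonoidHom).map (MulAut.conj a).toMonoidHom =
      A.map (MulAut.conj (a * b)).toMonoidHom := by
  rw [Subgroup.map_map, map_mul]
  rfl

omit [Finite G] in
theorem map_conj_inj {A B : Subgroup G} {k : G}
    (h : A.map (MulAut.conj k).toMonoidHom = B.map (MulAut.conj k).toMonoidHom) : A = B :=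
  Subgroup.map_injective (MulAut.conj k).injective h

/-- A weakly closed abelian subgroup: its normaliser controls fusion in it, also inside any
subgroup `C` containing it. -/
theorem control_weak {p : ℕ} [Fact p.Prime] (S : Sylow p G) (A : Subgroup G)
    (hA : IsPGroup p A) (hab : ∀ x ∈ A, ∀ y ∈ A, x * y = y * x)
    (hw : ∀ g : G, A.map (MulAut.conj g).toMonoidHom ≤ (S : Subgroup G) →
      A.map (MulAut.conj g).toMonoidHom = A)
    (C : Subgroup G) (hAC : A ≤ C) (g : G) (hgC : g ∈ C) (x : G) (_hx : x ∈ A)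
    (hgx : g * x * g⁻¹ ∈ A) (hxA : ∀ y ∈ A, x * y = y * x) :
    ∃ n ∈ C, A.map (MulAut.conj n).toMonoidHom = A ∧ n * x * n⁻¹ = g * x * g⁻¹ := by
  let N : Subgroup G := C ⊓ centralizer ({g * x * g⁻¹} : Set G)
  have hAN : A ≤ N := by
    intro y hy
    exact ⟨hAC hy, mem_centralizer_singleton_iff.2 (hab _ hy _ hgx)⟩
  have hAgN : A.map (MulAut.conj g).toMonoidHom ≤ N := by
    rintro _ ⟨y, hy, rfl⟩
    refine Subgroup.mem_inf.2 ⟨C.mul_mem (C.mul_mem hgC (hAC hy)) (C.inv_mem hgC),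
      mem_centralizer_singleton_iff.2 ?_⟩
    change g * y * g⁻¹ * (g * x * g⁻¹) = g * x * g⁻¹ * (g * y * g⁻¹)
    have h1 := hxA y hy
    calc g * y * g⁻¹ * (g * x * g⁻¹) = g * (y * x) * g⁻¹ := by group
      _ = g * (x * y) * g⁻¹ := by rw [h1]
      _ = _ := by group
  obtain ⟨R, hAR, hRN, hR, hRi⟩ := exists_sylow_in (p := p) hAN hA
  obtain ⟨m, hm, hmD⟩ := exists_conj_le_in hR hRi hAgN (hA.map _)
  obtain ⟨Q, hQ⟩ := hR.exists_le_sylow
  obtain ⟨k, hk⟩ := MulAction.exists_smul_eq G Q S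
  have hkS : ∀ B : Subgroup G, B ≤ R → B.map (MulAut.conj k).toMonoidHom ≤ (S : Subgroup G) := by
    rintro B hB _ ⟨y, hy, rfl⟩
    rw [← hk, Sylow.coe_subgroup_smul]
    have := Subgroup.smul_mem_pointwise_smul _ (MulAut.conj k) _ (hQ (hB hy))
    simpa only [_root_.MulEquiv.toMonoidHom_eq_coe, _root_.MonoidHom.coe_coe, _root_.MulAut.conj_apply, _root_.MulAut.smul_def] using this
  have h1 := hw k (hkS A hAR)
  have h2 := hkS _ hmD
  rw [map_conj_mul, map_conj_mul] at h2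
  have h3 := hw _ h2
  refine ⟨m * g, C.mul_mem hm.1 hgC, ?_, ?_⟩
  · apply map_conj_inj (k := k)
    rw [map_conj_mul, h1, ← mul_assoc, h3]
  · have h4 := mem_centralizer_singleton_iff.1 hm.2
    calc m * g * x * (m * g)⁻¹ = m * (g * x * g⁻¹) * m⁻¹ := by group
      _ = g * x * g⁻¹ * m * m⁻¹ := by rw [h4]
      _ = _ := by group

/-- Fusion of `x` and `v` is controlled by `N_G(E)` if a Sylow subgroup `R` of `C_G(x)` has one
class of conjugates of `E`. -/
theorem control_of {p : ℕ} [Fact p.Prime] (R : Subgroup G) (hR : IsPGroup p R) (x v : G)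
    (hRi : ¬ p ∣ R.relIndex (centralizer ({x} : Set G))) (hRx : ∀ y ∈ R, y * x = x * y)
    (E : Subgroup G) (hE : IsPGroup p E) (hEv : ∀ y ∈ E, y * v = v * y)
    (hcl : ∀ g : G, E.map (MulAut.conj g).toMonoidHom ≤ R →
      ∃ s ∈ R, E.map (MulAut.conj (s * g)).toMonoidHom = E)
    (g : G) (hg : g * x * g⁻¹ = v) :
    ∃ n, E.map (MulAut.conj n).toMonoidHom = E ∧ n * x * n⁻¹ = v := by
  have hD : E.map (MulAut.conj g⁻¹).toMonoidHom ≤ centralizer ({x} : Set G) := by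
    rintro _ ⟨y, hy, rfl⟩
    rw [mem_centralizer_singleton_iff]
    change g⁻¹ * y * g⁻¹⁻¹ * x = x * (g⁻¹ * y * g⁻¹⁻¹)
    have h1 := hEv y hy
    rw [← hg] at h1
    rw [inv_inv]
    calc g⁻¹ * y * g * x = g⁻¹ * (y * (g * x * g⁻¹)) * g := by group
      _ = g⁻¹ * (g * x * g⁻¹ * y) * g := by rw [h1]
      _ = _ := by group
  obtain ⟨m, hm, hmD⟩ := exists_conj_le_in hR hRi hD (hE.map _)
  rw [map_conj_mul] at hmD
  obtain ⟨s, hs, hsE⟩ := hcl _ hmD
  refine ⟨(s * (m * g⁻¹))⁻¹, ?_, ?_⟩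
  · apply map_conj_inj (k := s * (m * g⁻¹))
    rw [map_conj_mul, mul_inv_cancel, hsE]
    ext y
    simp only [_root_.map_one, _root_.MulEquiv.toMonoidHom_eq_coe, _root_.Subgroup.mem_map, _root_.MonoidHom.coe_coe, _root_.MulAut.one_apply, _root_.exists_eq_right]
  · have h4 := mem_centralizer_singleton_iff.1 hm
    have h5 := hRx s hs
    have h6 : s * (m * g⁻¹) * v * (s * (m * g⁻¹))⁻¹ = x := by
      rw [← hg]
      calc s * (m * g⁻¹) * (g * x * g⁻¹) * (s * (m * g⁻¹))⁻¹ = s * (m * x) * m⁻¹ * s⁻¹ := by group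
        _ = s * (x * m) * m⁻¹ * s⁻¹ := by rw [h4]
        _ = s * x * s⁻¹ := by group
        _ = x * s * s⁻¹ := by rw [h5]
        _ = x := by group
    rw [← h6]; group

section

variable {W : Type*} [Group W]

/-- `|C_G(t) : T|` is odd. -/
theorem not_dvd_relIndex_t {S : Sylow 2 G} {f : W × W →* G} {w : G}
    (h : Wr (S : Subgroup G) f w) {ζ : W} (b : WBase ζ) :
    ¬ 2 ∣ f.range.relIndex (centralizer ({f (ζ, 1)} : Set G)) := by
  have hle : f.range ≤ centralizer ({f (ζ, 1)} : Set G) := by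
    rintro _ ⟨p, rfl⟩
    rw [mem_centralizer_singleton_iff]
    exact TNotZ.t_comm h b p
  obtain ⟨R, hTR, hRN, hR, hRi⟩ := exists_sylow_in (p := 2) hle (S.isPGroup'.to_le h.range_le)
  have h1 := TNotZ.sylow_t h b R hR hTR (fun r hr => mem_centralizer_singleton_iff.1 (hRN hr))
  rwa [h1] at hRi

/-- `|C_G(z) : S|` is odd. -/
theorem not_dvd_relIndex_z (S : Sylow 2 G) (z : G)
    (hz : ∀ y ∈ (S : Subgroup G), y * z = z * y) :
    ¬ 2 ∣ (S : Subgroup G).relIndex (centralizer ({z} : Set G)) := by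
  have hle : (S : Subgroup G) ≤ centralizer ({z} : Set G) := fun y hy =>
    mem_centralizer_singleton_iff.2 (hz y hy)
  intro hd
  exact S.not_dvd_index (hd.trans (relIndex_dvd_index_of_le hle))

end

end Cfsg.Agent.TypeLFive.Control
end

-- part: TypeLFive/FrameE
section
/-!
# S0511 (F): the embedding `(ZMod 2)^4 → E` and the frame
-/

set_option autoImplicit false

namespace Cfsg.Agent.TypeLFive.FrameE

open Subgroup Cfsg.Agent.TypeLFive.Model Cfsg.Agent.TypeLFive.Facts Cfsg.Agent.TypeLFive.EOrbit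

section W

variable {W : Type*} [Group W] {ζ e : W}

/-- the noncentral involution `e` -/
structure EData (ζ e : W) : Prop where
  ee : e * e = 1
  e_ne : e ≠ 1
  e_ζ : e ≠ ζ

/-- power of an involution -/
def pw (a : W) (k : ZMod 2) : W := if k = 0 then 1 else a

theorem z2 (k : ZMod 2) : k = 0 ∨ k = 1 := by revert k; decide

theorem pw_zero (a : W) : pw a 0 = 1 := if_pos rfl

theorem pw_one (a : W) : pw a 1 = a := if_neg (by decide)

theorem pw_add (a : W) (ha : a * a = 1) (k l : ZMod 2) : pw a (k + l) = pw a k * pw a l := by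
  rcases z2 k with rfl | rfl <;> rcases z2 l with rfl | rfl
  · rw [add_zero, pw_zero, one_mul]
  · rw [zero_add, pw_zero, one_mul]
  · rw [add_zero, pw_zero, mul_one]
  · rw [show (1 : ZMod 2) + 1 = 0 by decide, pw_zero, pw_one, ha]

theorem pw_comm (a c : W) (hac : a * c = c * a) (k l : ZMod 2) :
    pw a k * pw c l = pw c l * pw a k := by
  rcases z2 k with rfl | rfl <;> rcases z2 l with rfl | rfl
  · rw [pw_zero, pw_zero]
  · rw [pw_zero, one_mul, mul_one]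
  · rw [pw_zero, one_mul, mul_one]
  · rw [pw_one, pw_one, hac]

/-- `ψ k l = e ^ k * (e ζ) ^ l`. -/
def psi (ζ e : W) (k l : ZMod 2) : W := pw e k * pw (e * ζ) l

theorem eζ_sq (b : WBase ζ) (d : EData ζ e) : e * ζ * (e * ζ) = 1 := by
  calc e * ζ * (e * ζ) = e * (ζ * e) * ζ := by group
    _ = e * (e * ζ) * ζ := by rw [b.central e]
    _ = (e * e) * (ζ * ζ) := by group
    _ = 1 := by rw [d.ee, b.sq, one_mul]

theorem e_eζ (b : WBase ζ) : e * (e * ζ) = e * ζ * e := by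
  rw [mul_assoc e ζ e, b.central e]

theorem psi_add (b : WBase ζ) (d : EData ζ e) (k l k' l' : ZMod 2) :
    psi ζ e (k + k') (l + l') = psi ζ e k l * psi ζ e k' l' := by
  unfold psi
  rw [pw_add e d.ee, pw_add _ (eζ_sq b d)]
  have h1 := pw_comm e (e * ζ) (e_eζ b) k' l
  calc pw e k * pw e k' * (pw (e * ζ) l * pw (e * ζ) l')
      = pw e k * (pw e k' * pw (e * ζ) l) * pw (e * ζ) l' := by group
    _ = pw e k * (pw (e * ζ) l * pw e k') * pw (e * ζ) l' := by rw [h1]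
    _ = _ := by group

theorem psi_00 : psi ζ e 0 0 = 1 := by
  unfold psi; rw [pw_zero, pw_zero, one_mul]

theorem psi_10 : psi ζ e 1 0 = e := by
  unfold psi; rw [pw_one, pw_zero, mul_one]

theorem psi_01 : psi ζ e 0 1 = e * ζ := by
  unfold psi; rw [pw_one, pw_zero, one_mul]

theorem psi_11 (d : EData ζ e) : psi ζ e 1 1 = ζ := by
  unfold psi; rw [pw_one, pw_one, ← mul_assoc, d.ee, one_mul]

theorem psi_inj (b : WBase ζ) (d : EData ζ e) (k l : ZMod 2) (h : psi ζ e k l = 1) :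
    k = 0 ∧ l = 0 := by
  rcases z2 k with rfl | rfl <;> rcases z2 l with rfl | rfl
  · exact ⟨rfl, rfl⟩
  · exfalso
    rw [psi_01] at h
    apply d.e_ζ
    rw [eq_inv_of_mul_eq_one_left h, inv_eq_of_mul_eq_one_left b.sq]
  · exfalso
    rw [psi_10] at h
    exact d.e_ne h
  · exfalso
    rw [psi_11 d] at h
    exact b.ne h

theorem psi_swap (b : WBase ζ) (d : EData ζ e) (s1 : W) (hs : s1 * e * s1⁻¹ = e * ζ)
    (k l : ZMod 2) : s1 * psi ζ e k l * s1⁻¹ = psi ζ e l k := by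
  have h2 : s1 * ζ * s1⁻¹ = ζ := by rw [← b.central, mul_inv_cancel_right]
  rcases z2 k with rfl | rfl <;> rcases z2 l with rfl | rfl
  · rw [psi_00]; group
  · rw [psi_01, psi_10]
    calc s1 * (e * ζ) * s1⁻¹ = (s1 * e * s1⁻¹) * (s1 * ζ * s1⁻¹) := by group
      _ = e * ζ * ζ := by rw [hs, h2]
      _ = e := by rw [mul_assoc, b.sq, mul_one]
  · rw [psi_01, psi_10, hs]
  · rw [psi_11 d, h2]

/-- the values of `psi` -/
theorem psi_cases (d : EData ζ e) (v : W) :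
    (∃ k l, v = psi ζ e k l) ↔ v = 1 ∨ v = ζ ∨ v = e ∨ v = e * ζ := by
  constructor
  · rintro ⟨k, l, rfl⟩
    rcases z2 k with rfl | rfl <;> rcases z2 l with rfl | rfl
    · exact Or.inl psi_00
    · exact Or.inr (Or.inr (Or.inr psi_01))
    · exact Or.inr (Or.inr (Or.inl psi_10))
    · exact Or.inr (Or.inl (psi_11 d))
  · rintro (rfl | rfl | rfl | rfl)
    · exact ⟨0, 0, psi_00.symm⟩
    · exact ⟨1, 1, (psi_11 d).symm⟩
    · exact ⟨1, 0, psi_10.symm⟩
    · exact ⟨0, 1, psi_01.symm⟩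

end W

variable {G W : Type*} [Group G] [Group W] {S : Subgroup G} {f : W × W →* G} {w : G} {ζ e : W}

/-- the embedding `(ZMod 2)^4 → G` -/
def phi (f : W × W →* G) (ζ e : W) (x : V) : G := f (psi ζ e (x 0) (x 1), psi ζ e (x 2) (x 3))

theorem emb (h : Wr S f w) (b : WBase ζ) (d : EData ζ e) : Emb (phi f ζ e) where
  add x y := by
    unfold phi
    rw [← map_mul, Prod.mk_mul_mk, ← psi_add b d, ← psi_add b d]
    rfl
  inj x hx := by
    unfold phi at hx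
    rw [h.f_eq_one_iff, Prod.mk_eq_one] at hx
    obtain ⟨h0, h1⟩ := psi_inj b d _ _ hx.1
    obtain ⟨h2, h3⟩ := psi_inj b d _ _ hx.2
    funext i
    fin_cases i
    · exact h0
    · exact h1
    · exact h2
    · exact h3

theorem phi_vt (d : EData ζ e) : phi f ζ e vt = f (ζ, 1) := by
  change f (psi ζ e 1 1, psi ζ e 0 0) = _
  rw [psi_11 d, psi_00]

theorem phi_vz (d : EData ζ e) : phi f ζ e vz = f (ζ, ζ) := by
  change f (psi ζ e 1 1, psi ζ e 1 1) = _
  rw [psi_11 d]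

theorem phi_vy : phi f ζ e vy = f (e, e) := by
  change f (psi ζ e 1 0, psi ζ e 1 0) = _
  rw [psi_10]

/-- The standing hypotheses of `EOrbit` for `N`. -/
theorem hyp (h : Wr S f w) (b : WBase ζ) (d : EData ζ e) (N : Subgroup G)
    (hN : ∀ g ∈ N, ∀ x, ∃ y, g * phi f ζ e x * g⁻¹ = phi f ζ e y)
    (s1 : W) (hs : s1 * e * s1⁻¹ = e * ζ) (hs1 : f (s1, 1) ∈ N) (hs2 : f (1, s1) ∈ N)
    (hw : w ∈ N) : Hyp N (phi f ζ e) where
  toEmb := emb h b d
  norm := hN
  a := by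
    refine ⟨_, hs1, fun x => ?_⟩
    have e1 : phi f ζ e (x ∘ (Equiv.swap (0 : Fin 4) 1 : Equiv.Perm (Fin 4))) =
      f (psi ζ e (x 1) (x 0), psi ζ e (x 2) (x 3)) := rfl
    rw [e1]
    unfold phi
    rw [← map_inv, Prod.inv_mk, h.f_mul_f, h.f_mul_f, psi_swap b d s1 hs, one_mul, inv_one,
      mul_one]
  b := by
    refine ⟨_, hs2, fun x => ?_⟩
    have e1 : phi f ζ e (x ∘ (Equiv.swap (2 : Fin 4) 3 : Equiv.Perm (Fin 4))) =
      f (psi ζ e (x 0) (x 1), psi ζ e (x 3) (x 2)) := rfl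
    rw [e1]
    unfold phi
    rw [← map_inv, Prod.inv_mk, h.f_mul_f, h.f_mul_f, psi_swap b d s1 hs, one_mul, inv_one,
      mul_one]
  c := by
    refine ⟨_, hw, fun x => ?_⟩
    have e1 : phi f ζ e (x ∘ (Equiv.swap (0 : Fin 4) 2 * Equiv.swap (1 : Fin 4) 3 : Equiv.Perm (Fin 4))) =
      f (psi ζ e (x 2) (x 3), psi ζ e (x 0) (x 1)) := rfl
    rw [e1]
    unfold phi
    rw [h.w_conj]

/-- **The frame**: `N` induces `S₅`. -/
theorem frame (h : Wr S f w) (b : WBase ζ) (d : EData ζ e) (N : Subgroup G)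
    (hN : ∀ g ∈ N, ∀ x, ∃ y, g * phi f ζ e x * g⁻¹ = phi f ζ e y)
    (s1 : W) (hs : s1 * e * s1⁻¹ = e * ζ) (hs1 : f (s1, 1) ∈ N) (hs2 : f (1, s1) ∈ N)
    (hw : w ∈ N) (hnc : ¬ IsConj (f (ζ, 1)) (f (ζ, ζ)))
    (ht : ∃ g ∈ N, g * f (ζ, 1) * g⁻¹ = f (e, e))
    (hz : ∃ g ∈ N, ∃ x, g * f (ζ, ζ) * g⁻¹ = phi f ζ e x ∧ x ≠ vz) :
    (∀ σ : Equiv.Perm (Fin 5), ∃ g ∈ N, ∀ i, g * phi f ζ e (o1 i) * g⁻¹ = phi f ζ e (o1 (σ i))) ∨
    (∀ σ : Equiv.Perm (Fin 5), ∃ g ∈ N, ∀ i,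
      g * phi f ζ e (o3 i) * g⁻¹ = phi f ζ e (o3 (σ i))) := by
  have hyp := hyp h b d N hN s1 hs hs1 hs2 hw
  obtain ⟨o, ho, -, hperm⟩ := EOrbit.main hyp
    (by
      rintro ⟨g, -, hg⟩
      rw [phi_vt d, phi_vz d] at hg
      exact hnc (isConj_iff.2 ⟨g, hg⟩))
    (by
      obtain ⟨g, hg, e1⟩ := ht
      exact ⟨g, hg, by rw [phi_vt d, phi_vy, e1]⟩)
    (by
      obtain ⟨g, hg, x, e1, hx⟩ := hz
      exact ⟨x, hx, g, hg, by rw [phi_vz d, e1]⟩)
  rcases ho with rfl | rfl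
  · exact Or.inl hperm
  · exact Or.inr hperm

theorem phi_o3 (d : EData ζ e) (i : Fin 5) : phi f ζ e (o3 i) = f (Out.zv ζ e i) := by
  fin_cases i
  · change f (psi ζ e 0 1, psi ζ e 1 1) = f (e * ζ, ζ)
    rw [psi_01, psi_11 d]
  · change f (psi ζ e 1 0, psi ζ e 1 1) = f (e, ζ)
    rw [psi_10, psi_11 d]
  · change f (psi ζ e 1 1, psi ζ e 0 1) = f (ζ, e * ζ)
    rw [psi_01, psi_11 d]
  · change f (psi ζ e 1 1, psi ζ e 1 0) = f (ζ, e)
    rw [psi_10, psi_11 d]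
  · change f (psi ζ e 1 1, psi ζ e 1 1) = f (ζ, ζ)
    rw [psi_11 d]

theorem phi_o1 (d : EData ζ e) (i : Fin 5) : phi f ζ e (o1 i) =
    f (![(e, 1), (e * ζ, 1), (1, e), (1, e * ζ), (ζ, ζ)] i) := by
  fin_cases i
  · change f (psi ζ e 1 0, psi ζ e 0 0) = f (e, 1)
    rw [psi_10, psi_00]
  · change f (psi ζ e 0 1, psi ζ e 0 0) = f (e * ζ, 1)
    rw [psi_01, psi_00]
  · change f (psi ζ e 0 0, psi ζ e 1 0) = f (1, e)
    rw [psi_10, psi_00]
  · change f (psi ζ e 0 0, psi ζ e 0 1) = f (1, e * ζ)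
    rw [psi_01, psi_00]
  · change f (psi ζ e 1 1, psi ζ e 1 1) = f (ζ, ζ)
    rw [psi_11 d]

/-- After a twist with `μ e = ζ`, `μ ζ = 1`, the pattern `o1` becomes `zv`. -/
theorem perm_twist (b : WBase ζ) (d : EData ζ e) (μ : W →* W)
    (hμ : ∀ x y, μ x * y = y * μ x) (hμe : μ e = ζ) (hμζ : μ ζ = 1) (P : G → Prop)
    (hperm : ∀ σ : Equiv.Perm (Fin 5), ∃ g, P g ∧
      ∀ i, g * phi f ζ e (o1 i) * g⁻¹ = phi f ζ e (o1 (σ i)))
    (σ : Equiv.Perm (Fin 5)) : ∃ g, P g ∧ ∀ i,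
      g * (f.comp (twistHom μ hμ)) (Out.zv ζ e i) * g⁻¹ =
        (f.comp (twistHom μ hμ)) (Out.zv ζ e (σ i)) := by
  have hμ2 : μ (e * ζ) = ζ := by rw [map_mul, hμe, hμζ, mul_one]
  have key : ∀ i : Fin 5, (f.comp (twistHom μ hμ)) (Out.zv ζ e i) =
      phi f ζ e (o1 ((Equiv.swap (0 : Fin 5) 1 * Equiv.swap (2 : Fin 5) 3 : Equiv.Perm (Fin 5)) i)) := by
    intro i
    rw [phi_o1 d, MonoidHom.comp_apply]
    congr 1
    fin_cases i
    · change twistHom μ hμ (e * ζ, ζ) = (e * ζ, 1)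
      rw [twistHom_apply, hμζ, hμ2, mul_one, b.sq]
    · change twistHom μ hμ (e, ζ) = (e, 1)
      rw [twistHom_apply, hμζ, hμe, mul_one, b.sq]
    · change twistHom μ hμ (ζ, e * ζ) = (1, e * ζ)
      rw [twistHom_apply, hμζ, hμ2, mul_one, b.sq]
    · change twistHom μ hμ (ζ, e) = (1, e)
      rw [twistHom_apply, hμζ, hμe, mul_one, b.sq]
    · change twistHom μ hμ (ζ, ζ) = (ζ, ζ)
      rw [twistHom_apply, hμζ, mul_one]
  obtain ⟨g, hg, h1⟩ := hperm ((Equiv.swap (0 : Fin 5) 1 * Equiv.swap (2 : Fin 5) 3 : Equiv.Perm (Fin 5)) * σ *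
    (Equiv.swap (0 : Fin 5) 1 * Equiv.swap (2 : Fin 5) 3 : Equiv.Perm (Fin 5)))
  refine ⟨g, hg, fun i => ?_⟩
  rw [key, key, h1]
  congr 2
  have h2 : ((Equiv.swap (0 : Fin 5) 1 * Equiv.swap (2 : Fin 5) 3 : Equiv.Perm (Fin 5)) *
    (Equiv.swap (0 : Fin 5) 1 * Equiv.swap (2 : Fin 5) 3 : Equiv.Perm (Fin 5))) = 1 := by decide
  have h3 := congrArg (fun p : Equiv.Perm (Fin 5) => p i) h2
  simp only [Equiv.Perm.coe_mul, Function.comp_apply, Equiv.Perm.coe_one, id_eq] at h3 ⊢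
  rw [h3]

end Cfsg.Agent.TypeLFive.FrameE
end

-- part: TypeLFive/Simple
section
/-!
# S0511 (F): use of the simplicity of `G`
-/

set_option autoImplicit false

namespace Cfsg.Agent.TypeLFive.Simple

open Subgroup Cfsg.Agent.TypeLFive.Model Cfsg.Agent.TypeLFive.Facts

variable {G W : Type*} [Group G] [Group W] [Finite G] [IsSimpleGroup G]
  {S : Sylow 2 G} {f : W × W →* G} {w : G} {ζ : W}

omit [Finite G] [IsSimpleGroup G] in
theorem not_comm {S : Subgroup G} (h : Wr S f w) (b : WBase ζ) : ¬ ∀ x y : G, x * y = y * x := by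
  intro hc
  obtain ⟨x1, -, y1, hy1⟩ := b.comm1
  have h1 := hc (f (x1, 1)) (f (y1, 1))
  rw [h.f_comm_f_iff] at h1
  rw [h1.1] at hy1
  exact b.ne (mul_eq_right.1 hy1.symm)

omit [Finite G] in
theorem char_one {S : Subgroup G} (h : Wr S f w) (b : WBase ζ) (φ : G →* ℤˣ) (x : G) :
    φ x = 1 := by
  rcases IsSimpleGroup.eq_bot_or_eq_top_of_normal φ.ker inferInstance with h1 | h1
  · exfalso
    apply not_comm h b
    intro a c
    have hinj : Function.Injective φ := (MonoidHom.ker_eq_bot_iff φ).1 h1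
    apply hinj
    rw [map_mul, map_mul, mul_comm]
  · have : x ∈ φ.ker := by rw [h1]; trivial
    exact MonoidHom.mem_ker.1 this

omit [Finite G] in
theorem index_ne_two {S : Subgroup G} (h : Wr S f w) (b : WBase ζ) (M : Subgroup G) :
    M.index ≠ 2 := by
  intro hM
  obtain ⟨φ, hφ⟩ := SylowSp4.Extremal.exists_char M hM
  have : M = ⊤ := by
    rw [eq_top_iff]
    intro x _
    exact (hφ x).1 (char_one h b φ x)
  rw [this, index_top] at hM
  norm_num at hM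

/-- `z` is not isolated in `S` (Glauberman's `Z*`-theorem). -/
theorem z_fused (h : Wr (S : Subgroup G) f w) (b : WBase ζ) :
    ∃ g : G, g * f (ζ, ζ) * g⁻¹ ∈ (S : Subgroup G) ∧ g * f (ζ, ζ) * g⁻¹ ≠ f (ζ, ζ) := by
  by_contra hcon
  push Not at hcon
  have hz1 : f (ζ, ζ) ≠ 1 := by
    rw [Ne, h.f_eq_one_iff, Prod.mk_eq_one]
    exact fun hh => b.ne hh.1
  have hzz : f (ζ, ζ) * f (ζ, ζ) = 1 := by
    rw [h.f_mul_f, b.sq]; exact map_one f
  have ho : orderOf (f (ζ, ζ)) = 2 := orderOf_eq_prime (by rw [pow_two, hzz]) hz1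
  obtain ⟨N, hN, hodd, hc⟩ := Cfsg.Agent.S0215.result S (f (ζ, ζ)) ho (h.mem _) hcon
  have hNbot : N = ⊥ := by
    rcases IsSimpleGroup.eq_bot_or_eq_top_of_normal N hN with h1 | h1
    · exact h1
    · exfalso
      rw [h1, Subgroup.card_top, ← Nat.not_even_iff_odd, even_iff_two_dvd, ← ho] at hodd
      exact hodd (_root_.orderOf_dvd_natCard _)
  have hzc : f (ζ, ζ) ∈ center G := by
    rw [mem_center_iff]
    intro g
    have h1 := hc g
    rw [hNbot, mem_bot] at h1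
    calc g * f (ζ, ζ) = 1 * (g * f (ζ, ζ)) := by rw [one_mul]
      _ = f (ζ, ζ) * g * (f (ζ, ζ))⁻¹ * g⁻¹ * (g * f (ζ, ζ)) := by rw [h1]
      _ = f (ζ, ζ) * g := by group
  rcases IsSimpleGroup.eq_bot_or_eq_top_of_normal (center G) inferInstance with h1 | h1
  · rw [h1, mem_bot] at hzc
    exact hz1 hzc
  · apply not_comm h b
    intro x y
    have hx : x ∈ center G := by rw [h1]; trivial
    exact ((mem_center_iff.1 hx) y).symm

/-- the conjugate of `z` can be taken in `T` when `w` is conjugate to `t`. -/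
theorem z_fused_T (h : Wr (S : Subgroup G) f w) (b : WBase ζ) (hw : IsConj (f (ζ, 1)) w) :
    ∃ g : G, ∃ x y : W, g * f (ζ, ζ) * g⁻¹ = f (x, y) ∧ x * x = 1 ∧ y * y = 1 ∧
      ¬ (x = 1 ∧ y = 1) ∧ ¬ (x = ζ ∧ y = ζ) := by
  obtain ⟨g, hg, hgz⟩ := z_fused h b
  have hsq : g * f (ζ, ζ) * g⁻¹ * (g * f (ζ, ζ) * g⁻¹) = 1 := by
    have hzz : f (ζ, ζ) * f (ζ, ζ) = 1 := by
      rw [h.f_mul_f, b.sq]; exact map_one f
    calc g * f (ζ, ζ) * g⁻¹ * (g * f (ζ, ζ) * g⁻¹) = g * (f (ζ, ζ) * f (ζ, ζ)) * g⁻¹ := by group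
      _ = 1 := by rw [hzz]; group
  have hne : g * f (ζ, ζ) * g⁻¹ ≠ 1 := by
    rw [Ne, conj_eq_one_iff, h.f_eq_one_iff, Prod.mk_eq_one]
    exact fun hh => b.ne hh.1
  rcases h.cases _ hg with ⟨x, y, hxy⟩ | ⟨x, y, hxy⟩
  · rw [hxy] at hsq hne hgz
    refine ⟨g, x, y, hxy, ?_⟩
    rw [h.f_mul_f, h.f_eq_one_iff, Prod.mk_eq_one] at hsq
    refine ⟨hsq.1, hsq.2, ?_, ?_⟩
    · rintro ⟨rfl, rfl⟩
      exact hne (map_one f)
    · rintro ⟨rfl, rfl⟩
      exact hgz rfl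
  · exfalso
    rw [hxy, h.fw_sq_eq_one_iff] at hsq
    subst hsq
    apply TNotZ.not_conj h b
    refine hw.trans ?_
    apply IsConj.symm
    rw [isConj_iff]
    refine ⟨(f (x, 1))⁻¹ * g, ?_⟩
    have h1 := h.f_conj_w x 1
    rw [inv_one, mul_one, one_mul] at h1
    calc (f (x, 1))⁻¹ * g * f (ζ, ζ) * ((f (x, 1))⁻¹ * g)⁻¹
        = (f (x, 1))⁻¹ * (g * f (ζ, ζ) * g⁻¹) * f (x, 1) := by group
      _ = (f (x, 1))⁻¹ * (f (x, 1) * w * (f (x, 1))⁻¹) * f (x, 1) := by rw [hxy, h1]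
      _ = w := by group

end Cfsg.Agent.TypeLFive.Simple
end

-- part: TypeLFive/CentFive
section
/-!
# Step (5) of the centraliser analysis of S0511: comparison of `C(t)` and `C(t')`

`K` (the normal closure of `Q₁` in `C(t)/O(C(t))`) is isomorphic to the normal closure of `Q₂` in
`C_J(t')`.
-/

set_option autoImplicit false

namespace Cfsg.Agent.TypeLFive.CentFive

open Subgroup Cfsg.Agent.TypeLFive.CentAbs

section cc

variable {G : Type*} [Group G]

/-- the subgroup generated by the `N`-conjugates of `S` -/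
def cc (N S : Subgroup G) : Subgroup G := _root_.Subgroup.closure {x | ∃ n ∈ N, ∃ s ∈ S, x = n * s * n⁻¹}

theorem le_cc (N S : Subgroup G) : S ≤ cc N S :=
  fun s hs => subset_closure ⟨1, one_mem _, s, hs, by simp⟩

theorem conj_mem_cc {N S : Subgroup G} {n s : G} (hn : n ∈ N) (hs : s ∈ S) :
    n * s * n⁻¹ ∈ cc N S := subset_closure ⟨n, hn, s, hs, rfl⟩

theorem cc_le {N S M : Subgroup G} (h : ∀ n ∈ N, ∀ s ∈ S, n * s * n⁻¹ ∈ M) : cc N S ≤ M := by
  rw [cc, closure_le]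
  rintro _ ⟨n, hn, s, hs, rfl⟩
  exact h n hn s hs

theorem cc_conj {N S : Subgroup G} {n x : G} (hn : n ∈ N) (hx : x ∈ cc N S) :
    n * x * n⁻¹ ∈ cc N S := by
  have h : cc N S ≤ (cc N S).comap (MulAut.conj n).toMonoidHom := by
    apply cc_le
    intro m hm s hs
    have h1 : (MulAut.conj n).toMonoidHom (m * s * m⁻¹) = (n * m) * s * (n * m)⁻¹ := by
      simp only [MulEquiv.coe_toMonoidHom, MulAut.conj_apply]; group
    rw [mem_comap, h1]
    exact conj_mem_cc (mul_mem hn hm) hs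
  exact h hx

theorem cc_le_of {N S M : Subgroup G} (hS : S ≤ M) (hM : ∀ n ∈ N, ∀ m ∈ M, n * m * n⁻¹ ∈ M) :
    cc N S ≤ M := cc_le fun n hn s hs => hM n hn s (hS hs)

theorem map_cc {H : Type*} [Group H] (φ : G →* H) (N S : Subgroup G) :
    (cc N S).map φ = cc (N.map φ) (S.map φ) := by
  apply le_antisymm
  · rw [map_le_iff_le_comap]
    apply cc_le
    intro n hn s hs
    rw [mem_comap, map_mul, map_mul, map_inv]
    exact conj_mem_cc (mem_map_of_mem φ hn) (mem_map_of_mem φ hs)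
  · apply cc_le
    rintro _ ⟨n, hn, rfl⟩ _ ⟨s, hs, rfl⟩
    rw [← map_inv, ← map_mul, ← map_mul]
    exact mem_map_of_mem φ (conj_mem_cc hn hs)

theorem cc_top (S : Subgroup G) : cc ⊤ S = normalClosure (S : Set G) := by
  apply le_antisymm
  · apply cc_le
    intro n _ s hs
    exact normalClosure_normal.conj_mem s (subset_normalClosure hs) n
  · have : (cc ⊤ S).Normal := ⟨fun x hx n => cc_conj (mem_top n) hx⟩
    exact normalClosure_le_normal (le_cc ⊤ S)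

end cc

section cores

theorem ker_eq_oddCore {H A : Type*} [Group H] [Finite H] [Group A] [Finite A] (f : H →* A)
    (hf : Function.Surjective f) (hk : Odd (Nat.card f.ker)) (hA : Cfsg.oddCore A = ⊥) :
    f.ker = Cfsg.oddCore H := by
  apply le_antisymm
  · exact Lib.Cores.le_pPrimeCore inferInstance (Nat.coprime_two_right.2 hk)
  · have hn : ((Cfsg.oddCore H).map f).Normal :=
      Lib.Cores.map_normal_of_surjective hf (Lib.Cores.pPrimeCore_normal 2)
    have h1 : (Cfsg.oddCore H).map f ≤ Cfsg.oddCore A := by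
      refine Lib.Cores.le_pPrimeCore hn ?_
      exact Nat.Coprime.coprime_dvd_left (card_map_dvd _ f) (Lib.Cores.pPrimeCore_coprime 2)
    rw [hA, le_bot_iff, Subgroup.map_eq_bot_iff] at h1
    exact h1

theorem nonempty_equiv {H₁ H₂ A₁ A₂ : Type*} [Group H₁] [Finite H₁] [Group A₁] [Finite A₁]
    [Group H₂] [Finite H₂] [Group A₂] [Finite A₂] (e : H₁ ≃* H₂) (f₁ : H₁ →* A₁) (f₂ : H₂ →* A₂)
    (hf₁ : Function.Surjective f₁) (hf₂ : Function.Surjective f₂) (hk₁ : Odd (Nat.card f₁.ker))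
    (hk₂ : Odd (Nat.card f₂.ker)) (hA₁ : Cfsg.oddCore A₁ = ⊥) (hA₂ : Cfsg.oddCore A₂ = ⊥) :
    Nonempty (A₁ ≃* A₂) := by
  have h1 := ker_eq_oddCore f₁ hf₁ hk₁ hA₁
  have h2 := ker_eq_oddCore f₂ hf₂ hk₂ hA₂
  have h3 : f₁.ker.map (e : H₁ →* H₂) = f₂.ker := by
    rw [h1, h2]
    exact Lib.Cores.map_equiv_pPrimeCore e 2
  exact ⟨((QuotientGroup.quotientKerEquivOfSurjective f₁ hf₁).symm.trans
    (QuotientGroup.congr _ _ e h3)).trans (QuotientGroup.quotientKerEquivOfSurjective f₂ hf₂)⟩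

end cores

section lift

/-- An element commuting with `φ t'` lifts to an element commuting with the involution `t'`. -/
theorem exists_lift {C X : Type*} [Group C] [Finite C] [Group X] (φ : C →* X)
    (hφ : Function.Surjective φ) (hk : Odd (Nat.card φ.ker)) {s : C} (hs : s * s = 1) {x : X}
    (hx : x * φ s = φ s * x) : ∃ m : C, m * s = s * m ∧ φ m = x := by
  obtain ⟨c, rfl⟩ := hφ x
  have h2 : Fact (Nat.Prime 2) := ⟨Nat.prime_two⟩
  have hP : IsPGroup 2 (zpowers s) := by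
    apply IsPGroup.of_card (n := Nat.log 2 (Nat.card (zpowers s)))
    rw [Nat.card_zpowers]
    have : orderOf s ∣ 2 := orderOf_dvd_of_pow_eq_one (by rw [pow_two, hs])
    rcases (Nat.dvd_prime Nat.prime_two).1 this with h | h
    · rw [h]; simp
    · rw [h]; rfl
  have hg : ∀ y ∈ zpowers s, c * y * c⁻¹ ∈ zpowers s ⊔ φ.ker := by
    intro y hy
    obtain ⟨k, rfl⟩ := mem_zpowers_iff.1 hy
    rw [← conj_zpow]
    apply zpow_mem
    have h1 : c * s * c⁻¹ = s * (s⁻¹ * (c * s * c⁻¹)) := by group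
    rw [h1]
    refine mul_mem (mem_sup_left (mem_zpowers s)) (mem_sup_right ?_)
    rw [MonoidHom.mem_ker]
    simp only [map_mul, map_inv]
    rw [hx]; group
  obtain ⟨n, hn, hnc⟩ := Lib.LocalCore.exists_mul_mem_normalizer 2 φ.ker (zpowers s)
    (Nat.coprime_two_right.2 hk) hP hg
  refine ⟨n * c, ?_, by rw [map_mul, MonoidHom.mem_ker.1 hn, one_mul]⟩
  have h3 : (n * c) * s * (n * c)⁻¹ ∈ zpowers s :=
    (mem_normalizer_iff.1 hnc s).1 (mem_zpowers s)
  obtain ⟨k, hk'⟩ := mem_zpowers_iff.1 h3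
  have hss : s ^ (2 : ℤ) = 1 := by rw [zpow_two, hs]
  rcases Int.even_or_odd' k with ⟨l, rfl | rfl⟩
  · rw [zpow_mul, hss, one_zpow] at hk'
    have h4 : s = 1 := conj_eq_one_iff.1 hk'.symm
    rw [h4]; simp
  · rw [zpow_add, zpow_mul, hss, one_zpow, one_mul, zpow_one] at hk'
    calc n * c * s = (n * c) * s * (n * c)⁻¹ * (n * c) := by group
      _ = s * (n * c) := by rw [← hk']

theorem odd_card_ker_subgroupMap {C X : Type*} [Group C] [Finite C] [Group X] (φ : C →* X)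
    (hk : Odd (Nat.card φ.ker)) (H : Subgroup C) : Odd (Nat.card (φ.subgroupMap H).ker) := by
  have h1 : (φ.subgroupMap H).ker.map H.subtype ≤ φ.ker := by
    rintro _ ⟨y, hy, rfl⟩
    have := congrArg Subtype.val (MonoidHom.mem_ker.1 hy)
    exact this
  have h2 := card_dvd_of_le h1
  rw [card_map_of_injective H.subtype_injective] at h2
  exact hk.of_dvd_nat h2

end lift

section main

variable {G : Type*} [Group G] [Finite G] {X : Type*} [Group X] [Finite X]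
  {T : Sylow 2 X} {W1 W2 Q1 : Subgroup X}

/-- `K` is the normal closure of `Q₁` in `C_X(z)`, `z ∈ W₂`. -/
theorem cc_Q1 (h : CHyp T W1 W2 Q1) {z : X} (hz : z ∈ W2) :
    cc (centralizer ({z} : Set X)) Q1 = normalClosure (Q1 : Set X) := by
  rw [← cc_top]
  apply le_antisymm
  · exact cc_le fun n _ s hs => conj_mem_cc (mem_top n) hs
  · apply cc_le
    intro g _ q hq
    obtain ⟨j, hj, c, hc, hg⟩ := h.exists_fac g⁻¹
    have hg' : g = c⁻¹ * j⁻¹ := by rw [← inv_inv g, hg]; group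
    have h1 : j⁻¹ * q = q * j⁻¹ := by
      have := h.kj q (h.le_K hq) j⁻¹ (inv_mem hj)
      exact this.symm
    have h2 : g * q * g⁻¹ = c⁻¹ * q * c⁻¹⁻¹ := by
      rw [hg']
      calc c⁻¹ * j⁻¹ * q * (c⁻¹ * j⁻¹)⁻¹ = c⁻¹ * (j⁻¹ * q) * j * c := by group
        _ = c⁻¹ * (q * j⁻¹) * j * c := by rw [h1]
        _ = c⁻¹ * q * c⁻¹⁻¹ := by group
    rw [h2]
    refine conj_mem_cc ?_ hq
    apply inv_mem
    rw [mem_centralizer_singleton_iff]
    exact hc z hz

/-- the normal closure of `Q₂` in `C_X(z)` and in `C_J(z)` is the same. -/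
theorem cc_Q2 (h : CHyp T W1 W2 Q1) {z : X} (hz : z ∈ W2) {Q2 : Subgroup X} (hQ2 : Q2 ≤ W2) :
    cc (centralizer ({z} : Set X)) Q2 =
      cc (normalClosure (W2 : Set X) ⊓ centralizer ({z} : Set X)) Q2 := by
  apply le_antisymm
  · apply cc_le
    intro g hg q hq
    obtain ⟨j, hj, c, hc, rfl⟩ := h.exists_fac g
    have h1 : j * c * q * (j * c)⁻¹ = j * q * j⁻¹ := by
      calc j * c * q * (j * c)⁻¹ = j * (c * q) * c⁻¹ * j⁻¹ := by group
        _ = j * (q * c) * c⁻¹ * j⁻¹ := by rw [hc q (hQ2 hq)]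
        _ = j * q * j⁻¹ := by group
    rw [h1]
    refine conj_mem_cc ⟨hj, ?_⟩ hq
    have h2 : c ∈ centralizer ({z} : Set X) := by
      rw [mem_centralizer_singleton_iff]; exact hc z hz
    have := mul_mem hg (inv_mem h2)
    rwa [mul_inv_cancel_right] at this
  · exact cc_le fun n hn s hs => conj_mem_cc hn.2 hs

theorem core_K (h : CHyp T W1 W2 Q1) : Cfsg.oddCore ↥(normalClosure (Q1 : Set X)) = ⊥ := by
  have h1 := Lib.Cores.map_subtype_pPrimeCore (G := X) 2 (N := normalClosure (Q1 : Set X)) normalClosure_normal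
  have h2 : Cfsg.pPrimeCore 2 X = ⊥ := h.core
  rw [h2, inf_bot_eq, Subgroup.map_eq_bot_iff, ker_subtype, le_bot_iff] at h1
  exact h1

/-- **Comparison of `C(t)` and `C(t')`**. -/
theorem nonempty_equiv_K {t t' w : G} {C : Subgroup G} (hC : ∀ g, g ∈ C ↔ g * t = t * g)
    (φ : ↥C →* X) (hφ : Function.Surjective φ) (hk : Odd (Nat.card φ.ker))
    (h : CHyp T W1 W2 Q1) (htt : t' * t' = 1) (hc : t' ∈ C)
    (hw : w * t * w⁻¹ = t') (hw' : w * t' * w⁻¹ = t) {P1 P2 : Subgroup G}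
    (hP1 : P1 ≤ C ⊓ centralizer ({t'} : Set G)) (hP2 : P2 ≤ C ⊓ centralizer ({t'} : Set G))
    (hPw : P2.map (MulAut.conj w).toMonoidHom = P1)
    (hQ1 : (P1.subgroupOf C).map φ = Q1) {Q2 : Subgroup X}
    (hQ2 : (P2.subgroupOf C).map φ = Q2) (hQW : Q2 ≤ W2)
    (htW : φ ⟨t', hc⟩ ∈ W2)
    (hA : Cfsg.oddCore ↥(cc (normalClosure (W2 : Set X) ⊓ centralizer ({φ ⟨t', hc⟩} : Set X)) Q2) = ⊥) :
    Nonempty (↥(cc (normalClosure (W2 : Set X) ⊓ centralizer ({φ ⟨t', hc⟩} : Set X)) Q2) ≃*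
      ↥(normalClosure (Q1 : Set X))) := by
  set M : Subgroup G := C ⊓ centralizer ({t'} : Set G) with hM
  set z : X := φ ⟨t', hc⟩ with hz
  -- the image of `M` in `X`
  have hMφ : (M.subgroupOf C).map φ = centralizer ({z} : Set X) := by
    apply le_antisymm
    · rintro _ ⟨m, hm, rfl⟩
      rw [mem_centralizer_singleton_iff, hz, ← map_mul, ← map_mul]
      congr 1
      apply Subtype.ext
      exact mem_centralizer_singleton_iff.1 (mem_inf.1 (mem_subgroupOf.1 hm)).2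
    · intro x hx
      rw [mem_centralizer_singleton_iff] at hx
      obtain ⟨m, hm, hmx⟩ := exists_lift φ hφ hk (s := ⟨t', hc⟩) (Subtype.ext htt) hx
      refine ⟨m, mem_subgroupOf.2 (mem_inf.2 ⟨m.2, ?_⟩), hmx⟩
      rw [mem_centralizer_singleton_iff]
      exact congrArg Subtype.val hm
  -- `w` normalises `M`
  have hMw : M.map (MulAut.conj w).toMonoidHom = M := by
    have h1 : M.map (MulAut.conj w).toMonoidHom ≤ M := by
      rintro _ ⟨m, hm, rfl⟩
      have hm1 := (hC m).1 hm.1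
      have hm2 := mem_centralizer_singleton_iff.1 hm.2
      simp only [MulEquiv.coe_toMonoidHom, MulAut.conj_apply]
      refine mem_inf.2 ⟨?_, ?_⟩
      · rw [hC, ← hw']
        calc w * m * w⁻¹ * (w * t' * w⁻¹) = w * (m * t') * w⁻¹ := by group
          _ = w * (t' * m) * w⁻¹ := by rw [hm2]
          _ = w * t' * w⁻¹ * (w * m * w⁻¹) := by group
      · rw [mem_centralizer_singleton_iff, ← hw]
        calc w * m * w⁻¹ * (w * t * w⁻¹) = w * (m * t) * w⁻¹ := by group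
          _ = w * (t * m) * w⁻¹ := by rw [hm1]
          _ = w * t * w⁻¹ * (w * m * w⁻¹) := by group
    apply Subgroup.eq_of_le_of_card_ge h1
    rw [card_map_of_injective (MulAut.conj w).injective]
  -- the two normal closures
  set Y1 : Subgroup ↥C := cc (M.subgroupOf C) (P1.subgroupOf C) with hY1
  set Y2 : Subgroup ↥C := cc (M.subgroupOf C) (P2.subgroupOf C) with hY2
  have hY1m : Y1.map C.subtype = cc M P1 := by
    rw [hY1, map_cc, subgroupOf_map_subtype, subgroupOf_map_subtype,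
      inf_eq_left.2 (hP1.trans inf_le_left), inf_eq_left.2 (inf_le_left : M ≤ C)]
  have hY2m : Y2.map C.subtype = cc M P2 := by
    rw [hY2, map_cc, subgroupOf_map_subtype, subgroupOf_map_subtype,
      inf_eq_left.2 (hP2.trans inf_le_left), inf_eq_left.2 (inf_le_left : M ≤ C)]
  have hY12 : (Y2.map C.subtype).map (MulAut.conj w).toMonoidHom = Y1.map C.subtype := by
    rw [hY1m, hY2m, map_cc, hMw, hPw]
  have e : ↥Y2 ≃* ↥Y1 :=
    ((Y2.equivMapOfInjective C.subtype C.subtype_injective).trans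
      (((Y2.map C.subtype).equivMapOfInjective _ (MulAut.conj w).injective).trans
        (MulEquiv.subgroupCongr hY12))).trans
      (Y1.equivMapOfInjective C.subtype C.subtype_injective).symm
  have hY1X : Y1.map φ = normalClosure (Q1 : Set X) := by
    rw [hY1, map_cc, hMφ, hQ1, cc_Q1 h htW]
  have hY2X : Y2.map φ = cc (normalClosure (W2 : Set X) ⊓ centralizer ({z} : Set X)) Q2 := by
    rw [hY2, map_cc, hMφ, hQ2, cc_Q2 h htW hQW]
  rw [← hY1X, ← hY2X]
  rw [← hY2X] at hA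
  have hK := core_K h
  rw [← hY1X] at hK
  exact nonempty_equiv e (φ.subgroupMap Y2) (φ.subgroupMap Y1) (φ.subgroupMap_surjective Y2)
    (φ.subgroupMap_surjective Y1) (odd_card_ker_subgroupMap φ hk Y2)
    (odd_card_ker_subgroupMap φ hk Y1) hA hK

end main

end Cfsg.Agent.TypeLFive.CentFive
end

-- part: TypeLFive/CentFiveJ
section
/-!
# Step (5) of the centraliser analysis of S0511: the normal closure of `Q₂` in `C_J(z)`
-/

set_option autoImplicit false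

namespace Cfsg.Agent.TypeLFive.CentFiveJ

open Subgroup Cfsg.Agent.TypeLFive.CentAbs Cfsg.Agent.TypeLFive.CentFive Cfsg.Agent.TypeLFive.QUniq

/-- The fact about the centralisers of the involutions of `J`. -/
def SLFact (J : Type*) [Group J] (F : Type*) [Field F] : Prop :=
  ∀ z : J, z ≠ 1 → z * z = 1 → ∃ B : Subgroup J, (∀ b ∈ B, b * z = z * b) ∧
    (∀ c : J, c * z = z * c → ∀ b ∈ B, c * b * c⁻¹ ∈ B) ∧
    Nonempty (↥B ≃* Matrix.SpecialLinearGroup (Fin 2) F)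

theorem SLFact.congr {J J' : Type*} [Group J] [Group J'] {F : Type*} [Field F] (h : SLFact J F)
    (e : J ≃* J') : SLFact J' F := by
  intro z hz1 hz2
  obtain ⟨B, h1, h2, ⟨f⟩⟩ := h (e.symm z) (fun hc => hz1 (by
    have := congrArg e hc
    simpa only [_root_.MulEquiv.apply_symm_apply, _root_.map_one] using this)) (by rw [← map_mul, hz2, map_one])
  refine ⟨B.map e.toMonoidHom, ?_, ?_, ⟨(B.equivMapOfInjective e.toMonoidHom e.injective).symm.trans f⟩⟩
  · rintro _ ⟨b, hb, rfl⟩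
    have := congrArg e (h1 b hb)
    simpa only [_root_.MulEquiv.toMonoidHom_eq_coe, _root_.MonoidHom.coe_coe, _root_.map_mul, _root_.MulEquiv.apply_symm_apply] using this
  · rintro c hc _ ⟨b, hb, rfl⟩
    have h3 := h2 (e.symm c) (by rw [← map_mul, hc, map_mul]) b hb
    exact ⟨_, h3, by simp only [_root_.MulEquiv.toMonoidHom_eq_coe, _root_.MonoidHom.coe_coe, _root_.map_mul, _root_.MulEquiv.apply_symm_apply, _root_.map_inv]⟩

section

variable {X : Type*} [Group X] [Finite X] {T : Sylow 2 X} {W1 W2 Q1 Q2 : Subgroup X}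

/-- A Sylow 2-subgroup of `J` lying in `N ≤ J` meets a subgroup normalised by `N` in a Sylow subgroup. -/
theorem exists_sylow (h : CHyp T W1 W2 Q1) {N B : Subgroup X} (hN : N ≤ normalClosure (W2 : Set X))
    (hW : W2 ≤ N) (hBN : B ≤ N) (hn : ∀ c ∈ N, ∀ b ∈ B, c * b * c⁻¹ ∈ B) :
    ∃ P : Sylow 2 ↥B, (P : Subgroup ↥B) = W2.subgroupOf B := by
  have : Fact (Nat.Prime 2) := ⟨Nat.prime_two⟩
  obtain ⟨P, hP⟩ := h.exists_sylow_J
  have h2W : IsPGroup 2 ↥W2 := T.isPGroup'.to_le h.clW.1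
  have hind : ¬ 2 ∣ W2.relIndex N := by
    intro h2
    have h3 : W2.relIndex (normalClosure (W2 : Set X)) =
        (P : Subgroup ↥(normalClosure (W2 : Set X))).index := by
      rw [hP]; rfl
    have h4 := Subgroup.relIndex_mul_relIndex W2 N (normalClosure (W2 : Set X)) hW hN
    apply P.not_dvd_index
    rw [← h3, ← h4]
    exact h2.mul_right _
  let S : Sylow 2 ↥N := (h2W.comap_of_injective N.subtype N.subtype_injective).toSylow
    (P := W2.subgroupOf N) hind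
  have hBnor : (B.subgroupOf N).Normal := by
    constructor
    intro b hb c
    exact hn c c.2 b hb
  obtain ⟨Q, hQ⟩ := Cfsg.Agent.S0542.result 2 (B.subgroupOf N)
    (Subgroup.Normal.isSubnormal inferInstance) S
  have h5 : ¬ 2 ∣ W2.relIndex B := by
    intro h2
    apply Q.not_dvd_index
    rw [hQ]
    have h6 : ((W2.subgroupOf N).subgroupOf (B.subgroupOf N)).index = W2.relIndex B := by
      have := Subgroup.relIndex_subgroupOf (H := W2) hBN
      exact this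
    have h7 : ((S : Subgroup ↥N).subgroupOf (B.subgroupOf N)).index = W2.relIndex B := h6
    rw [h7]; exact h2
  exact ⟨(h2W.comap_of_injective B.subtype B.subtype_injective).toSylow (P := W2.subgroupOf B) h5, rfl⟩

theorem eq_Q2 (h : CHyp T W1 W2 Q1) (hQ2 : Q2 ≤ W2) (hQn : ∀ g ∈ W2, ∀ q ∈ Q2, g * q * g⁻¹ ∈ Q2)
    (hQL : QLike Q2) {R : Subgroup X} (hR : R ≤ W2) (hRn : ∀ g ∈ W2, ∀ q ∈ R, g * q * g⁻¹ ∈ R)
    (hRL : QLike R) : R = Q2 := by
  have h1 : R.subgroupOf W2 = Q2.subgroupOf W2 := by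
    refine unique h.type ⟨fun n hn g => hRn g g.2 n hn⟩ ⟨fun n hn g => hQn g g.2 n hn⟩
      (hRL.comap W2.subtype W2.subtype_injective (by rwa [range_subtype]))
      (hQL.comap W2.subtype W2.subtype_injective (by rwa [range_subtype]))
  have h2 := congrArg (Subgroup.map W2.subtype) h1
  rwa [subgroupOf_map_subtype, subgroupOf_map_subtype, inf_eq_left.2 hR, inf_eq_left.2 hQ2] at h2

/-- The subgroup `B` of `C_J(z)`. -/
theorem exists_B (h : CHyp T W1 W2 Q1) (hQ2 : Q2 ≤ W2) (hQn : ∀ g ∈ W2, ∀ q ∈ Q2, g * q * g⁻¹ ∈ Q2)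
    (hQL : QLike Q2) {z : X} (hz : z ∈ W2) (hz1 : z ≠ 1) (hz2 : z * z = 1)
    (hzc : ∀ g ∈ W2, g * z = z * g) {F : Type*} [Field F] [Fintype F] (hF : Odd (Fintype.card F))
    (hJ : SLFact ↥(normalClosure (W2 : Set X)) F) :
    ∃ B : Subgroup X, B ≤ normalClosure (W2 : Set X) ⊓ centralizer ({z} : Set X) ∧
      (∀ c ∈ normalClosure (W2 : Set X) ⊓ centralizer ({z} : Set X), ∀ b ∈ B, c * b * c⁻¹ ∈ B) ∧
      Nonempty (↥B ≃* Matrix.SpecialLinearGroup (Fin 2) F) ∧ Q2 ≤ B ∧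
      ∃ P : Sylow 2 ↥B, (P : Subgroup ↥B) = Q2.subgroupOf B := by
  set J := normalClosure (W2 : Set X) with hJd
  obtain ⟨B0, hB1, hB2, ⟨e⟩⟩ := hJ ⟨z, h.le_J hz⟩ (fun hc => hz1 (congrArg Subtype.val hc))
    (Subtype.ext hz2)
  set B := B0.map J.subtype with hB
  have hBN : B ≤ J ⊓ centralizer ({z} : Set X) := by
    rintro _ ⟨b, hb, rfl⟩
    refine mem_inf.2 ⟨b.2, ?_⟩
    rw [mem_centralizer_singleton_iff]
    exact congrArg Subtype.val (hB1 b hb)
  have hBn : ∀ c ∈ J ⊓ centralizer ({z} : Set X), ∀ b ∈ B, c * b * c⁻¹ ∈ B := by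
    rintro c hc _ ⟨b, hb, rfl⟩
    exact ⟨_, hB2 ⟨c, hc.1⟩ (Subtype.ext (mem_centralizer_singleton_iff.1 hc.2)) b hb, rfl⟩
  have hWN : W2 ≤ J ⊓ centralizer ({z} : Set X) := by
    intro g hg
    refine mem_inf.2 ⟨h.le_J hg, ?_⟩
    rw [mem_centralizer_singleton_iff]
    exact hzc g hg
  obtain ⟨P, hP⟩ := exists_sylow h inf_le_left hWN hBN hBn
  have eB : ↥B ≃* Matrix.SpecialLinearGroup (Fin 2) F :=
    (B0.equivMapOfInjective J.subtype J.subtype_injective).symm.trans e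
  have hPL := SLTwoCore.qlike_sylow hF eB P
  rw [hP] at hPL
  have hL := hPL.map B.subtype B.subtype_injective
  rw [subgroupOf_map_subtype] at hL
  have hWB : W2 ⊓ B = Q2 := by
    refine eq_Q2 h hQ2 hQn hQL inf_le_left ?_ hL
    intro g hg q hq
    exact mem_inf.2 ⟨W2.mul_mem (W2.mul_mem hg hq.1) (W2.inv_mem hg), hBn g (hWN hg) q hq.2⟩
  have hQB : Q2 ≤ B := by rw [← hWB]; exact inf_le_right
  refine ⟨B, hBN, hBn, ⟨eB⟩, hQB, P, ?_⟩
  rw [hP, ← hWB]
  ext x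
  rw [mem_subgroupOf, mem_subgroupOf, mem_inf]
  exact ⟨fun hx => ⟨hx, x.2⟩, fun hx => hx.1⟩

/-- `q > 3`: the normal closure of `Q₂` in `C_J(z)` is `SL(2,q)`. -/
theorem equiv_of_three_lt (h : CHyp T W1 W2 Q1) (hQ2 : Q2 ≤ W2)
    (hQn : ∀ g ∈ W2, ∀ q ∈ Q2, g * q * g⁻¹ ∈ Q2) (hQL : QLike Q2) {z : X} (hz : z ∈ W2)
    (hz1 : z ≠ 1) (hz2 : z * z = 1) (hzc : ∀ g ∈ W2, g * z = z * g) {F : Type*} [Field F]
    [Fintype F] (hF : Odd (Fintype.card F)) (hJ : SLFact ↥(normalClosure (W2 : Set X)) F)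
    (h3 : 3 < Fintype.card F) :
    Nonempty (↥(cc (normalClosure (W2 : Set X) ⊓ centralizer ({z} : Set X)) Q2) ≃*
      Matrix.SpecialLinearGroup (Fin 2) F) := by
  obtain ⟨B, hBN, hBn, ⟨e⟩, hQB, P, hP⟩ := exists_B h hQ2 hQn hQL hz hz1 hz2 hzc hF hJ
  set N := normalClosure (W2 : Set X) ⊓ centralizer ({z} : Set X) with hN
  have hle : cc N Q2 ≤ B := cc_le_of hQB hBn
  have hnor : ((cc N Q2).subgroupOf B).Normal :=
    ⟨fun n hn g => cc_conj (hBN g.2) hn⟩
  obtain ⟨a, ha, b, hb, hab⟩ := hQL.nc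
  have h1 : ((cc N Q2).subgroupOf B).map e.toMonoidHom = ⊤ := by
    refine SLTwoCore.eq_top_of_nc h3 _ (hnor.map _ e.surjective) (a := e ⟨a, hQB ha⟩)
      (b := e ⟨b, hQB hb⟩) ⟨⟨a, hQB ha⟩, le_cc N Q2 ha, rfl⟩ ?_
    intro hc
    rw [← map_mul, ← map_mul] at hc
    exact hab (congrArg Subtype.val (e.injective hc))
  have h2 : (cc N Q2).subgroupOf B = ⊤ := by
    rw [eq_top_iff]
    intro x _
    have : e x ∈ ((cc N Q2).subgroupOf B).map e.toMonoidHom := by rw [h1]; exact mem_top _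
    obtain ⟨y, hy, hyx⟩ := this
    rwa [← e.injective hyx]
  have h4 : cc N Q2 = B := le_antisymm hle (subgroupOf_eq_top.1 h2)
  rw [h4]
  exact ⟨e⟩

/-- `q = 3`: `Q₂` is normal in `C_J(z)`. -/
theorem eq_of_eq_three (h : CHyp T W1 W2 Q1) (hQ2 : Q2 ≤ W2)
    (hQn : ∀ g ∈ W2, ∀ q ∈ Q2, g * q * g⁻¹ ∈ Q2) (hQL : QLike Q2) {z : X} (hz : z ∈ W2)
    (hz1 : z ≠ 1) (hz2 : z * z = 1) (hzc : ∀ g ∈ W2, g * z = z * g) {F : Type*} [Field F]
    [Fintype F] (hJ : SLFact ↥(normalClosure (W2 : Set X)) F)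
    (h3 : Fintype.card F = 3) :
    cc (normalClosure (W2 : Set X) ⊓ centralizer ({z} : Set X)) Q2 = Q2 := by
  have : Fact (Nat.Prime 2) := ⟨Nat.prime_two⟩
  have hF : Odd (Fintype.card F) := by rw [h3]; decide
  obtain ⟨B, hBN, hBn, ⟨e⟩, hQB, P, hP⟩ := exists_B h hQ2 hQn hQL hz hz1 hz2 hzc hF hJ
  set N := normalClosure (W2 : Set X) ⊓ centralizer ({z} : Set X) with hN
  refine le_antisymm ?_ (le_cc N Q2)
  have hPn : (P : Subgroup ↥B).Normal := by
    have h1 := SLTwoCore.sylow_normal_of_card_eq_three h3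
      (P.mapSurjective (f := e.toMonoidHom) e.surjective)
    have h2 : ((P : Subgroup ↥B).map e.toMonoidHom).Normal := h1
    have h4 := h2.comap e.toMonoidHom
    rwa [comap_map_eq_self_of_injective e.injective] at h4
  refine cc_le_of le_rfl ?_
  intro c hc q hq
  -- the element `c q c⁻¹` generates a 2-subgroup of `B`
  have h1 : c * q * c⁻¹ ∈ B := hBn c hc q (hQB hq)
  -- `P` consists of all 2-elements of `B`
  have hT : IsPGroup 2 ↥Q2 := (T.isPGroup'.to_le h.clW.1).to_le hQ2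
  obtain ⟨k, hk⟩ := hT ⟨q, hq⟩
  have hk' : q ^ 2 ^ k = 1 := congrArg Subtype.val hk
  have h5 : (c * q * c⁻¹) ^ 2 ^ k = 1 := by
    rw [conj_pow, hk', mul_one, mul_inv_cancel]
  have h6 : IsPGroup 2 ↥(zpowers (⟨c * q * c⁻¹, h1⟩ : ↥B)) := by
    rw [IsPGroup.iff_card]
    have h7 : (⟨c * q * c⁻¹, h1⟩ : ↥B) ^ 2 ^ k = 1 := Subtype.ext h5
    obtain ⟨m, -, hm⟩ := (Nat.dvd_prime_pow Nat.prime_two).1 (orderOf_dvd_of_pow_eq_one h7)
    exact ⟨m, by rw [Nat.card_zpowers, hm]⟩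
  obtain ⟨R, hR⟩ := h6.exists_le_sylow
  have h8 : (R : Subgroup ↥B) = P := by
    have : R = P := by
      obtain ⟨g, hg⟩ := MulAction.exists_smul_eq (↥B) P R
      rw [← hg]
      exact Sylow.smul_eq_of_normal
    rw [this]
  have h9 : (⟨c * q * c⁻¹, h1⟩ : ↥B) ∈ (P : Subgroup ↥B) := by
    rw [← h8]; exact hR (mem_zpowers _)
  rw [hP] at h9
  exact h9

end

end Cfsg.Agent.TypeLFive.CentFiveJ
end

-- part: TypeLFive/CentFiveMain
section
/-!
# Step (5) of the centraliser analysis of S0511: the structure of the normal closure of `Q₁`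
-/

set_option autoImplicit false

namespace Cfsg.Agent.TypeLFive.CentFiveMain

open Subgroup Cfsg.Agent.TypeLFive.CentAbs Cfsg.Agent.TypeLFive.CentFive Cfsg.Agent.TypeLFive.QUniq
  Cfsg.Agent.TypeLFive.CentFiveJ

/-- **Step (5)**: `K = SL(2,q)`, or `q = 3` and `K = Q₁`. -/
theorem main {G X : Type*} [Group G] [Finite G] [Group X] [Finite X] {T : Sylow 2 X}
    {W1 W2 Q1 Q2 : Subgroup X} {t t' w : G} {C : Subgroup G} (hC : ∀ g, g ∈ C ↔ g * t = t * g)
    (φ : ↥C →* X) (hφ : Function.Surjective φ) (hk : Odd (Nat.card φ.ker))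
    (h : CHyp T W1 W2 Q1) (ht1 : t' ≠ 1) (htt : t' * t' = 1) (hc : t' ∈ C)
    (hw : w * t * w⁻¹ = t') (hw' : w * t' * w⁻¹ = t) {P1 P2 : Subgroup G}
    (hP1 : P1 ≤ C ⊓ centralizer ({t'} : Set G)) (hP2 : P2 ≤ C ⊓ centralizer ({t'} : Set G))
    (hPw : P2.map (MulAut.conj w).toMonoidHom = P1)
    (hQ1 : (P1.subgroupOf C).map φ = Q1) (hQ2 : (P2.subgroupOf C).map φ = Q2) (hQW : Q2 ≤ W2)
    (htW : φ ⟨t', hc⟩ ∈ W2) (hQn : ∀ g ∈ W2, ∀ q ∈ Q2, g * q * g⁻¹ ∈ Q2) (hQL : QLike Q2)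
    (hzc : ∀ g ∈ W2, g * φ ⟨t', hc⟩ = φ ⟨t', hc⟩ * g) {F : Type*} [Field F] [Fintype F]
    (hF : Odd (Fintype.card F)) (hJ : SLFact ↥(normalClosure (W2 : Set X)) F) :
    (3 < Fintype.card F → Nonempty (↥(normalClosure (Q1 : Set X)) ≃*
      Matrix.SpecialLinearGroup (Fin 2) F)) ∧
    (Fintype.card F = 3 → normalClosure (Q1 : Set X) = Q1) := by
  have : Fact (Nat.Prime 2) := ⟨Nat.prime_two⟩
  have hz2 : φ ⟨t', hc⟩ * φ ⟨t', hc⟩ = 1 := by
    rw [← map_mul, ← map_one φ]; congr 1; exact Subtype.ext htt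
  have hz1 : φ ⟨t', hc⟩ ≠ 1 := by
    intro h1
    have h2 : (⟨t', hc⟩ : ↥C) ∈ φ.ker := h1
    have h3 : orderOf (⟨t', hc⟩ : ↥C) ∣ Nat.card φ.ker := Subgroup.orderOf_dvd_natCard _ h2
    have h4 : orderOf (⟨t', hc⟩ : ↥C) = 2 := by
      apply orderOf_eq_prime
      · rw [sq]; exact Subtype.ext htt
      · intro h5; exact ht1 (congrArg Subtype.val h5)
    rw [h4] at h3
    exact (Nat.not_even_iff_odd.2 hk) (even_iff_two_dvd.2 h3)
  constructor
  · intro h3
    obtain ⟨e⟩ := equiv_of_three_lt h hQW hQn hQL htW hz1 hz2 hzc hF hJ h3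
    have hA : Cfsg.oddCore ↥(cc (normalClosure (W2 : Set X) ⊓ centralizer ({φ ⟨t', hc⟩} : Set X)) Q2) = ⊥ := by
      have h1 := Lib.Cores.map_equiv_pPrimeCore e.symm 2
      have h2 : Cfsg.pPrimeCore 2 (Matrix.SpecialLinearGroup (Fin 2) F) = ⊥ :=
        SLTwoCore.oddCore_eq_bot hF h3
      rw [h2, Subgroup.map_bot] at h1
      exact h1.symm
    obtain ⟨e'⟩ := nonempty_equiv_K hC φ hφ hk h htt hc hw hw' hP1 hP2 hPw hQ1 hQ2 hQW htW hA
    exact ⟨e'.symm.trans e⟩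
  · intro h3
    have h4 := eq_of_eq_three h hQW hQn hQL htW hz1 hz2 hzc hJ h3
    have h2Q : IsPGroup 2 ↥Q2 := (T.isPGroup'.to_le h.clW.1).to_le hQW
    have hA : Cfsg.oddCore ↥(cc (normalClosure (W2 : Set X) ⊓ centralizer ({φ ⟨t', hc⟩} : Set X)) Q2) = ⊥ := by
      rw [h4]
      have h5 : Odd (Nat.card (Cfsg.oddCore ↥Q2)) :=
        Nat.coprime_two_right.1 (Lib.Cores.pPrimeCore_coprime (G := ↥Q2) 2)
      obtain ⟨k, hk⟩ := IsPGroup.iff_card.1 (h2Q.to_subgroup (Cfsg.oddCore ↥Q2))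
      rcases Nat.eq_zero_or_pos k with h6 | h6
      · rw [h6, pow_zero] at hk
        exact Subgroup.card_eq_one.1 hk
      · exfalso
        rw [hk] at h5
        exact (Nat.not_even_iff_odd.2 h5) (even_iff_two_dvd.2 (dvd_pow_self 2 h6.ne'))
    obtain ⟨e'⟩ := nonempty_equiv_K hC φ hφ hk h htt hc hw hw' hP1 hP2 hPw hQ1 hQ2 hQW htW hA
    rw [h4] at e'
    have hK : IsPGroup 2 ↥(normalClosure (Q1 : Set X)) := h2Q.of_equiv e'
    refine le_antisymm ?_ h.le_K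
    intro x hx
    exact h.mem_Q1 (IsPGroup.le_sylow_of_normal hK T hx) hx

end Cfsg.Agent.TypeLFive.CentFiveMain
end

-- part: TypeLFive/CentSDGroup
section
/-!
# Facts on a semidihedral group `W` in coordinates
-/

set_option autoImplicit false

namespace Cfsg.Agent.TypeLFive.CentSDGroup

open Cfsg.Agent.TwoFusion.QDBasic

variable {W : Type*} [Group W] {n : ℕ} {u : ZMod (2 ^ n) → W} {y : W}

/-- The element `i` of order four of the cyclic maximal subgroup. -/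
abbrev ii (n : ℕ) (u : ZMod (2 ^ n) → W) : W := u (2 ^ (n - 2))

/-- The central involution. -/
abbrev zz (n : ℕ) (u : ZMod (2 ^ n) → W) : W := u (2 ^ (n - 1))

section

variable (h : IsQDCoord n u y)

include h

theorem two_mul_quarter : (2 : ZMod (2 ^ n)) * 2 ^ (n - 2) = 2 ^ (n - 1) := by
  have := h.three_le
  rw [← pow_succ']
  congr 1
  omega

theorem two_mul_eighth : (2 : ZMod (2 ^ n)) * 2 ^ (n - 3) = 2 ^ (n - 2) := by
  have := h.three_le
  rw [← pow_succ']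
  congr 1
  omega

theorem half_mul_quarter : (2 : ZMod (2 ^ n)) ^ (n - 1) * 2 ^ (n - 2) = 0 := by
  have := h.three_le
  rw [← pow_add]
  have e : n - 1 + (n - 2) = n + (n - 3) := by omega
  rw [e, pow_add, two_pow_eq_zero, zero_mul]

theorem zz_ne_one : zz n u ≠ 1 := by
  rw [Ne, h.u_eq_one_iff]
  exact half_ne_zero n h.one_le

theorem zz_mul_zz : zz n u * zz n u = 1 := by
  rw [h.u_mul, ← two_mul, two_mul_half n h.one_le, h.u_zero]

theorem zz_comm (x : W) : zz n u * x = x * zz n u := by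
  rcases h.cases x with ⟨a, rfl⟩ | ⟨a, rfl⟩
  · rw [h.u_mul, h.u_mul, add_comm]
  · rw [h.u_mul_uy, h.uy_mul_u]
    congr 2
    linear_combination (-1 : ZMod (2 ^ n)) * half_mul_half n h.two_le + two_mul_half n h.one_le

theorem ii_mul_ii : ii n u * ii n u = zz n u := by
  rw [h.u_mul, ← two_mul, two_mul_quarter h]

theorem y_conj_ii : y * ii n u * y⁻¹ = (ii n u)⁻¹ := by
  rw [h.y_conj, h.u_inv]
  congr 1
  linear_combination half_mul_quarter h

theorem y_conj_ii_inv : y * (ii n u)⁻¹ * y⁻¹ = ii n u := by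
  have h1 := y_conj_ii h
  calc y * (ii n u)⁻¹ * y⁻¹ = (y * ii n u * y⁻¹)⁻¹ := by group
    _ = ii n u := by rw [h1, inv_inv]

theorem uy_mul_self (a : ZMod (2 ^ n)) : u a * y * (u a * y) = u (2 ^ (n - 1) * a) := by
  rw [← h.uy_sq, pow_two]

theorem sq_even_uy (a : ZMod (2 ^ n)) : u (2 * a) * y * (u (2 * a) * y) = 1 := by
  rw [uy_mul_self h, ← h.u_zero]
  congr 1
  linear_combination a * two_mul_half n h.one_le

theorem sq_odd_uy (a : ZMod (2 ^ n)) : u (2 * a + 1) * y * (u (2 * a + 1) * y) = zz n u := by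
  rw [uy_mul_self h]
  congr 1
  linear_combination a * two_mul_half n h.one_le

/-- squares. -/
theorem sq_cases (x : W) : (∃ a, x = u a ∧ x * x = u (2 * a)) ∨ (∃ a, x = u (2 * a) * y ∧ x * x = 1) ∨
    ∃ a, x = u (2 * a + 1) * y ∧ x * x = zz n u := by
  rcases h.cases x with ⟨a, rfl⟩ | ⟨a, rfl⟩
  · left
    exact ⟨a, rfl, by rw [h.u_mul, ← two_mul]⟩
  · rcases even_or_odd' n a with ⟨b, rfl⟩ | ⟨b, rfl⟩
    · exact Or.inr (Or.inl ⟨b, rfl, sq_even_uy h b⟩)
    · exact Or.inr (Or.inr ⟨b, rfl, sq_odd_uy h b⟩)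

/-- every square lies in `⟨r ^ 2⟩`. -/
theorem sq_mem (x : W) : ∃ a, x * x = u (2 * a) := by
  rcases sq_cases h x with ⟨a, -, h1⟩ | ⟨a, -, h1⟩ | ⟨a, -, h1⟩
  · exact ⟨a, h1⟩
  · exact ⟨0, by rw [h1, mul_zero, h.u_zero]⟩
  · exact ⟨2 ^ (n - 2), by rw [h1, two_mul_quarter h]⟩

theorem u_sq_eq_one {a : ZMod (2 ^ n)} (ha : u a * u a = 1) : u a = 1 ∨ u a = zz n u := by
  rw [h.u_mul, ← two_mul, h.u_eq_one_iff, two_mul_eq_zero_iff n h.one_le] at ha
  rcases ha with rfl | rfl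
  · left; exact h.u_zero
  · right; rfl

/-- an involution which is a square is `ζ`. -/
theorem sq_sq_eq_one {x : W} (hx : x * x * (x * x) = 1) : x * x = 1 ∨ x * x = zz n u := by
  obtain ⟨a, ha⟩ := sq_mem h x
  rw [ha] at hx ⊢
  exact u_sq_eq_one h hx

theorem inv_cases {x : W} (hx : x * x = 1) : x = 1 ∨ x = zz n u ∨ ∃ a, x = u (2 * a) * y := by
  rcases sq_cases h x with ⟨a, rfl, -⟩ | ⟨a, rfl, -⟩ | ⟨a, -, h2⟩
  · rcases u_sq_eq_one h hx with h1 | h1
    · exact Or.inl h1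
    · exact Or.inr (Or.inl h1)
  · exact Or.inr (Or.inr ⟨a, rfl⟩)
  · rw [hx] at h2
    exact absurd h2.symm (zz_ne_one h)

theorem four_cases {x : W} (hx : x * x = zz n u) :
    x = ii n u ∨ x = (ii n u)⁻¹ ∨ ∃ a, x = u (2 * a + 1) * y := by
  rcases sq_cases h x with ⟨a, rfl, h2⟩ | ⟨a, rfl, h2⟩ | ⟨a, rfl, -⟩
  · rw [hx, h.u_eq_iff] at h2
    have h3 : 2 * (a - 2 ^ (n - 2)) = 0 := by
      linear_combination (-1 : ZMod (2 ^ n)) * h2 - two_mul_quarter h
    rw [two_mul_eq_zero_iff n h.one_le] at h3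
    rcases h3 with h3 | h3
    · left
      rw [sub_eq_zero.1 h3]
    · right; left
      rw [h.u_inv, h.u_eq_iff]
      linear_combination h3 + two_mul_half n h.one_le + two_mul_quarter h
  · rw [hx] at h2
    exact absurd h2 (zz_ne_one h)
  · exact Or.inr (Or.inr ⟨a, rfl⟩)

/-- all elements `r ^ odd * s` are conjugate to `r s`. -/
theorem conj_odd (a : ZMod (2 ^ n)) : ∃ b, u b * (u (2 * a + 1) * y) * (u b)⁻¹ = u 1 * y := by
  obtain ⟨m, rfl⟩ : ∃ m, n = m + 3 := ⟨n - 3, by have := h.three_le; omega⟩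
  have hodd : IsUnit (1 - 2 ^ (m + 1) : ZMod (2 ^ (m + 3))) := by
    have := isUnit_odd (m + 3) (- 2 ^ m)
    have e : (2 * (- 2 ^ m) + 1 : ZMod (2 ^ (m + 3))) = 1 - 2 ^ (m + 1) := by ring
    rwa [e] at this
  obtain ⟨c, hc⟩ := hodd.exists_right_inv
  refine ⟨-(a * c), ?_⟩
  rw [h.u_conj_uy]
  congr 2
  have e : m + 3 - 1 = m + 2 := by omega
  rw [e]
  linear_combination (-2 * a) * hc

/-- all elements `r ^ even * s` are conjugate to `s`. -/
theorem conj_even (a : ZMod (2 ^ n)) : ∃ b, u b * (u (2 * a) * y) * (u b)⁻¹ = y := by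
  obtain ⟨m, rfl⟩ : ∃ m, n = m + 3 := ⟨n - 3, by have := h.three_le; omega⟩
  have hodd : IsUnit (1 - 2 ^ (m + 1) : ZMod (2 ^ (m + 3))) := by
    have := isUnit_odd (m + 3) (- 2 ^ m)
    have e : (2 * (- 2 ^ m) + 1 : ZMod (2 ^ (m + 3))) = 1 - 2 ^ (m + 1) := by ring
    rwa [e] at this
  obtain ⟨c, hc⟩ := hodd.exists_right_inv
  refine ⟨-(a * c), ?_⟩
  rw [h.u_conj_uy]
  have e : m + 3 - 1 = m + 2 := by omega
  rw [e]
  have e2 : (2 * a + (2 - 2 ^ (m + 2)) * -(a * c) : ZMod (2 ^ (m + 3))) = 0 := by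
    linear_combination (-2 * a) * hc
  rw [e2, h.u_zero, one_mul]

/-- The centraliser of `u a` when `2 a ≠ 0`. -/
theorem comm_u {a : ZMod (2 ^ n)} (ha : 2 * a ≠ 0) {x : W} (hx : x * u a = u a * x) : ∃ b, x = u b := by
  rcases h.cases x with ⟨b, rfl⟩ | ⟨b, rfl⟩
  · exact ⟨b, rfl⟩
  · exfalso
    rw [h.uy_mul_u, h.u_mul_uy, mul_left_inj, h.u_eq_iff] at hx
    obtain ⟨m, rfl⟩ : ∃ m, n = m + 3 := ⟨n - 3, by have := h.three_le; omega⟩
    have e : m + 3 - 1 = m + 2 := by omega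
    rw [e] at hx
    have hodd : IsUnit (1 - 2 ^ (m + 1) : ZMod (2 ^ (m + 3))) := by
      have := isUnit_odd (m + 3) (- 2 ^ m)
      have e : (2 * (- 2 ^ m) + 1 : ZMod (2 ^ (m + 3))) = 1 - 2 ^ (m + 1) := by ring
      rwa [e] at this
    apply ha
    have h1 : (1 - 2 ^ (m + 1)) * (2 * a) = (0 : ZMod (2 ^ (m + 3))) := by
      linear_combination (-1 : ZMod (2 ^ (m + 3))) * hx
    exact (hodd.mul_right_eq_zero).1 h1

theorem comm_ii {x : W} (hx : x * ii n u = ii n u * x) : ∃ b, x = u b := by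
  apply comm_u h _ hx
  rw [two_mul_quarter h]
  exact half_ne_zero n h.one_le

/-- The centraliser of `u a * y` has order four. -/
theorem comm_uy {a : ZMod (2 ^ n)} {x : W} (hx : x * (u a * y) = u a * y * x) :
    x = 1 ∨ x = zz n u ∨ x = u a * y ∨ x = zz n u * (u a * y) := by
  have key : ∀ b : ZMod (2 ^ n), u b * (u a * y) = u a * y * u b → u b = 1 ∨ u b = zz n u := by
    intro b hb
    by_cases h2 : 2 * b = 0
    · rw [two_mul_eq_zero_iff n h.one_le] at h2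
      rcases h2 with rfl | rfl
      · exact Or.inl h.u_zero
      · exact Or.inr rfl
    · obtain ⟨c, hc⟩ := comm_u h h2 hb.symm
      exact absurd hc.symm (h.u_ne c a)
  rcases h.cases x with ⟨b, rfl⟩ | ⟨b, rfl⟩
  · rcases key b hx with h1 | h1
    · exact Or.inl h1
    · exact Or.inr (Or.inl h1)
  · have e : u b * y = u (b - a) * (u a * y) := by rw [h.u_mul_uy, sub_add_cancel]
    have h1 : u (b - a) * (u a * y) = u a * y * u (b - a) := by
      rw [e] at hx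
      have := mul_right_cancel (b := u a * y) (a := u (b - a) * (u a * y)) (c := u a * y * u (b - a))
        (by rw [hx, mul_assoc (u a * y)])
      exact this
    rcases key _ h1 with h2 | h2
    · rw [e, h2, one_mul]; exact Or.inr (Or.inr (Or.inl rfl))
    · rw [e, h2]; exact Or.inr (Or.inr (Or.inr rfl))

/-- The centre. -/
theorem center {x : W} (hx : ∀ a, x * a = a * x) : x = 1 ∨ x = zz n u := by
  obtain ⟨b, rfl⟩ := comm_ii h (hx (ii n u))
  have h1 := hx (u 0 * y)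
  rcases comm_uy h h1 with h2 | h2 | h2 | h2
  · exact Or.inl h2
  · exact Or.inr h2
  · exact absurd h2 (h.u_ne _ _)
  · rw [h.u_mul_uy] at h2
    exact absurd h2 (h.u_ne _ _)

/-- The centraliser of a nonabelian subgroup is the centre. -/
theorem comm_noncomm {x a b : W} (hab : a * b ≠ b * a) (ha : x * a = a * x) (hb : x * b = b * x) :
    x = 1 ∨ x = zz n u := by
  rcases h.cases x with ⟨c, rfl⟩ | ⟨c, rfl⟩
  · by_cases h2 : 2 * c = 0
    · rw [two_mul_eq_zero_iff n h.one_le] at h2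
      rcases h2 with rfl | rfl
      · exact Or.inl h.u_zero
      · exact Or.inr rfl
    · exfalso
      obtain ⟨a', rfl⟩ := comm_u h h2 ha.symm
      obtain ⟨b', rfl⟩ := comm_u h h2 hb.symm
      apply hab
      rw [h.u_mul, h.u_mul, add_comm]
  · exfalso
    apply hab
    have hz := zz_comm h
    rcases comm_uy h ha.symm with rfl | rfl | rfl | rfl
    · rw [one_mul, mul_one]
    · exact hz b
    · rw [hb]
    · rw [mul_assoc (zz n u), hb, ← mul_assoc, hz, mul_assoc]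

end

/-! ### The maximal subgroups -/

/-- The cyclic maximal subgroup `⟨r⟩`. -/
def R (h : IsQDCoord n u y) : Subgroup W where
  carrier := {x | ∃ a, x = u a}
  mul_mem' := by
    rintro _ _ ⟨a, rfl⟩ ⟨b, rfl⟩
    exact ⟨_, h.u_mul a b⟩
  one_mem' := ⟨0, h.u_zero.symm⟩
  inv_mem' := by
    rintro _ ⟨a, rfl⟩
    exact ⟨_, h.u_inv a⟩

/-- The dihedral maximal subgroup. -/
def D (h : IsQDCoord n u y) : Subgroup W where
  carrier := {x | ∃ a, x = u (2 * a) ∨ x = u (2 * a) * y}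
  mul_mem' := by
    rintro _ _ ⟨a, rfl | rfl⟩ ⟨b, rfl | rfl⟩
    · exact ⟨a + b, Or.inl (by rw [h.u_mul]; congr 1; ring)⟩
    · exact ⟨a + b, Or.inr (by rw [h.u_mul_uy]; congr 2; ring)⟩
    · exact ⟨a + (2 ^ (n - 1) - 1) * b, Or.inr (by rw [h.uy_mul_u]; congr 2; ring)⟩
    · exact ⟨a + (2 ^ (n - 1) - 1) * b, Or.inl (by rw [h.uy_mul_uy]; congr 1; ring)⟩
  one_mem' := ⟨0, Or.inl (by rw [mul_zero, h.u_zero])⟩
  inv_mem' := by
    rintro _ ⟨a, rfl | rfl⟩
    · exact ⟨-a, Or.inl (by rw [h.u_inv]; congr 1; ring)⟩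
    · exact ⟨(1 - 2 ^ (n - 1)) * a, Or.inr (by rw [h.uy_inv]; congr 2; ring)⟩

/-- The quaternion maximal subgroup. -/
def Q (h : IsQDCoord n u y) : Subgroup W where
  carrier := {x | ∃ a, x = u (2 * a) ∨ x = u (2 * a + 1) * y}
  mul_mem' := by
    have e2 : (2 : ZMod (2 ^ n)) * (2 ^ (n - 2)) = 2 ^ (n - 1) := two_mul_quarter h
    rintro _ _ ⟨a, rfl | rfl⟩ ⟨b, rfl | rfl⟩
    · exact ⟨a + b, Or.inl (by rw [h.u_mul]; congr 1; ring)⟩
    · exact ⟨a + b, Or.inr (by rw [h.u_mul_uy]; congr 2; ring)⟩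
    · exact ⟨a + (2 ^ (n - 1) - 1) * b, Or.inr (by rw [h.uy_mul_u]; congr 2; ring)⟩
    · refine ⟨a + (2 ^ (n - 1) - 1) * b + 2 ^ (n - 2), Or.inl ?_⟩
      rw [h.uy_mul_uy]; congr 1
      linear_combination (-1 : ZMod (2 ^ n)) * e2
  one_mem' := ⟨0, Or.inl (by rw [mul_zero, h.u_zero])⟩
  inv_mem' := by
    have e2 : (2 : ZMod (2 ^ n)) * (2 ^ (n - 2)) = 2 ^ (n - 1) := two_mul_quarter h
    rintro _ ⟨a, rfl | rfl⟩
    · exact ⟨-a, Or.inl (by rw [h.u_inv]; congr 1; ring)⟩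
    · refine ⟨(1 - 2 ^ (n - 1)) * a - 2 ^ (n - 2), Or.inr ?_⟩
      rw [h.uy_inv]; congr 2
      linear_combination e2

section

variable (h : IsQDCoord n u y)

theorem mem_Q {x : W} : x ∈ Q h ↔ ∃ a, x = u (2 * a) ∨ x = u (2 * a + 1) * y := Iff.rfl

include h

theorem mem_D_of_sq {x : W} (hx : x * x = 1) : x ∈ D h := by
  rcases inv_cases h hx with rfl | rfl | ⟨a, rfl⟩
  · exact (D h).one_mem
  · exact ⟨2 ^ (n - 2), Or.inl (by rw [two_mul_quarter h])⟩
  · exact ⟨a, Or.inr rfl⟩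

theorem mem_Q_of_sq {x : W} (hx : x * x = zz n u) : x ∈ Q h := by
  rcases four_cases h hx with rfl | rfl | ⟨a, rfl⟩
  · exact ⟨2 ^ (n - 3), Or.inl (by rw [two_mul_eighth h])⟩
  · exact (Q h).inv_mem ⟨2 ^ (n - 3), Or.inl (by rw [two_mul_eighth h])⟩
  · exact ⟨a, Or.inr rfl⟩

theorem zz_mem_Q : zz n u ∈ Q h := ⟨2 ^ (n - 2), Or.inl (by rw [two_mul_quarter h])⟩

theorem uy_even_notMem_Q (a : ZMod (2 ^ n)) : u (2 * a) * y ∉ Q h := by
  rintro ⟨b, e | e⟩
  · exact h.u_ne _ _ e.symm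
  · rw [mul_left_inj, h.u_eq_iff] at e
    exact two_mul_ne_two_mul_add_one n h.one_le a b e

theorem uy_odd_notMem_D (a : ZMod (2 ^ n)) : u (2 * a + 1) * y ∉ D h := by
  rintro ⟨b, e | e⟩
  · exact h.u_ne _ _ e.symm
  · rw [mul_left_inj, h.u_eq_iff] at e
    exact two_mul_ne_two_mul_add_one n h.one_le b a e.symm

/-- The dihedral maximal subgroup is generated by involutions. -/
theorem closure_D : Subgroup.closure {x : W | x * x = 1} = D h := by
  apply le_antisymm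
  · rw [Subgroup.closure_le]
    intro x hx
    exact mem_D_of_sq h hx
  · have key : ∀ a, u (2 * a) * y ∈ Subgroup.closure {x : W | x * x = 1} := fun a =>
      Subgroup.subset_closure (sq_even_uy h a)
    rintro _ ⟨a, rfl | rfl⟩
    · have h1 := Subgroup.mul_mem _ (key a) (key 0)
      have e : u (2 * a) * y * (u (2 * 0) * y) = u (2 * a) := by
        rw [h.uy_mul_uy]; congr 1; ring
      rwa [e] at h1
    · exact key a

/-- `W` is generated by `D` and `Q`. -/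
theorem exists_mul_DQ (x : W) : ∃ a ∈ D h, ∃ b ∈ Q h, x = a * b := by
  rcases h.cases x with ⟨c, rfl⟩ | ⟨c, rfl⟩
  · rcases even_or_odd' n c with ⟨b, rfl⟩ | ⟨b, rfl⟩
    · exact ⟨1, (D h).one_mem, _, ⟨b, Or.inl rfl⟩, by rw [one_mul]⟩
    · refine ⟨u (2 * b + 2 * 2 ^ (n - 2) + 2) * y, ⟨b + 2 ^ (n - 2) + 1, Or.inr (by congr 2; ring)⟩,
        u 1 * y, ⟨0, Or.inr (by rw [mul_zero, zero_add])⟩, ?_⟩
      rw [h.uy_mul_uy, h.u_eq_iff]
      linear_combination (-1 : ZMod (2 ^ n)) * two_mul_quarter h - two_mul_half n h.one_le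
  · rcases even_or_odd' n c with ⟨b, rfl⟩ | ⟨b, rfl⟩
    · exact ⟨_, ⟨b, Or.inr rfl⟩, 1, (Q h).one_mem, by rw [mul_one]⟩
    · exact ⟨1, (D h).one_mem, _, ⟨b, Or.inr rfl⟩, by rw [one_mul]⟩

end

end Cfsg.Agent.TypeLFive.CentSDGroup
end

-- part: TypeLFive/CentFiveApp
section
/-!
# Application of step (5) to `X = C_G(t) / O(C_G(t))`
-/

set_option autoImplicit false

namespace Cfsg.Agent.TypeLFive.CentFiveApp

open Subgroup Cfsg.Agent.TwoFusion.QDBasic Cfsg.Agent.TwoFusion.WreathedBasic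
  Cfsg.Agent.TypeLFive.CentAbs Cfsg.Agent.TypeLFive.CentFive Cfsg.Agent.TypeLFive.QUniq
  Cfsg.Agent.TypeLFive.CentFiveJ

/-! ### The normal quaternion subgroup -/

theorem qlike_sd {W : Type*} [Group W] {n : ℕ} {u : ZMod (2 ^ n) → W} {y : W}
    (h : IsQDCoord n u y) : QLike (CentSDGroup.Q h) :=
  sd_qlike h fun x => by
    rw [CentSDGroup.mem_Q h]
    constructor
    · rintro ⟨a, ha | ha⟩
      · exact Or.inl ⟨a, ha⟩
      · exact Or.inr ⟨a, ha⟩
    · rintro (⟨a, ha⟩ | ⟨a, ha⟩)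
      · exact ⟨a, Or.inl ha⟩
      · exact ⟨a, Or.inr ha⟩

theorem normal_sd {W : Type*} [Group W] {n : ℕ} {u : ZMod (2 ^ n) → W} {y : W}
    (h : IsQDCoord n u y) : (CentSDGroup.Q h).Normal :=
  sd_normal h fun x => by
    rw [CentSDGroup.mem_Q h]
    constructor
    · rintro ⟨a, ha | ha⟩
      · exact Or.inl ⟨a, ha⟩
      · exact Or.inr ⟨a, ha⟩
    · rintro (⟨a, ha⟩ | ⟨a, ha⟩)
      · exact ⟨a, Or.inl ha⟩
      · exact ⟨a, Or.inr ha⟩

theorem mem_QWR {W : Type*} [Group W] {n : ℕ} {u : ZMod (2 ^ n) → ZMod (2 ^ n) → W} {s : W}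
    (hc : IsWCoord n u s) (x : W) : x ∈ CentWR.QWR hc ↔
      (∃ a, x = u a (-a)) ∨ ∃ a, x = u a (2 ^ (n - 1) - a) * s := by
  constructor
  · intro hx
    rcases hc.cases x with ⟨a, b, rfl⟩ | ⟨a, b, rfl⟩
    · rw [CentWR.u_mem_QWR_iff] at hx
      exact Or.inl ⟨a, by congr 1; linear_combination hx⟩
    · rw [CentWR.us_mem_QWR_iff] at hx
      exact Or.inr ⟨a, by congr 2; linear_combination hx⟩
  · rintro (⟨a, rfl⟩ | ⟨a, rfl⟩)
    · exact (CentWR.u_mem_QWR_iff hc _ _).2 (by ring)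
    · exact (CentWR.us_mem_QWR_iff hc _ _).2 (by ring)

theorem qlike_wr {W : Type*} [Group W] {n : ℕ} {u : ZMod (2 ^ n) → ZMod (2 ^ n) → W} {s : W}
    (hc : IsWCoord n u s) : QLike (CentWR.QWR hc) := wr_qlike hc (mem_QWR hc)

theorem normal_wr {W : Type*} [Group W] {n : ℕ} {u : ZMod (2 ^ n) → ZMod (2 ^ n) → W} {s : W}
    (hc : IsWCoord n u s) : (CentWR.QWR hc).Normal := wr_normal hc (mem_QWR hc)

/-- `SLFact` from `Y p t ≃* SL(2,F)`. -/
theorem slFact_of_yIso {J : Type*} [Group J] {p : ℕ} {F : Type*} [Field F]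
    (h : YCard.YIso J p F) : SLFact J F := by
  intro z hz1 hz2
  exact ⟨LThreeDef.Y p z, fun b hb => LThreeDef.Y_le_cent hb,
    fun c hc b hb => LThreeDef.conj_mem_Y hc hb, h z hz1 hz2⟩

/-! ### The application -/

section app

variable {G W : Type*} [Group G] [Finite G] [Group W] {f : W × W →* G} {w : G} {Q : Subgroup W}
  {ζ : W}

/-- `f (R × 1)` -/
def P1 (f : W × W →* G) (R : Subgroup W) : Subgroup G := R.map (f.comp (MonoidHom.inl W W))

/-- `f (1 × R)` -/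
def P2 (f : W × W →* G) (R : Subgroup W) : Subgroup G := R.map (f.comp (MonoidHom.inr W W))

omit [Finite G] in
theorem mem_P1 {R : Subgroup W} {g : G} : g ∈ P1 f R ↔ ∃ x ∈ R, f (x, 1) = g := by
  constructor
  · rintro ⟨x, hx, rfl⟩; exact ⟨x, hx, rfl⟩
  · rintro ⟨x, hx, rfl⟩; exact ⟨x, hx, rfl⟩

omit [Finite G] in
theorem mem_P2 {R : Subgroup W} {g : G} : g ∈ P2 f R ↔ ∃ x ∈ R, f (1, x) = g := by
  constructor
  · rintro ⟨x, hx, rfl⟩; exact ⟨x, hx, rfl⟩
  · rintro ⟨x, hx, rfl⟩; exact ⟨x, hx, rfl⟩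

/-- **Step (5) applied.** -/
theorem app (hinj : Function.Injective f) (h2W : IsPGroup 2 W)
    (hw : ∀ x y, w * f (x, y) * w⁻¹ = f (y, x)) (hζ1 : ζ ≠ 1) (hζ2 : ζ * ζ = 1)
    (hζc : ∀ x, ζ * x = x * ζ) (hQn : Q.Normal) (hQL : QLike Q)
    {X : Type*} [Group X] [Finite X] {T : Sylow 2 X} {W1 W2 Q1 : Subgroup X} {C : Subgroup G}
    (hC : ∀ g, g ∈ C ↔ g * f (ζ, 1) = f (ζ, 1) * g)
    (φ : ↥C →* X) (hφ : Function.Surjective φ) (hk : Odd (Nat.card φ.ker))
    (h : CHyp T W1 W2 Q1) (hW2 : ((P2 f ⊤).subgroupOf C).map φ = W2)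
    (hQ1 : ((P1 f Q).subgroupOf C).map φ = Q1) {F : Type*} [Field F] [Fintype F]
    (hF : Odd (Fintype.card F)) (hJ : SLFact ↥(normalClosure (W2 : Set X)) F) :
    (3 < Fintype.card F → Nonempty (↥(normalClosure (Q1 : Set X)) ≃*
      Matrix.SpecialLinearGroup (Fin 2) F)) ∧
    (Fintype.card F = 3 → normalClosure (Q1 : Set X) = Q1) := by
  have hfC : ∀ x y, f (x, y) ∈ C := by
    intro x y
    rw [hC, ← map_mul, ← map_mul, Prod.mk_mul_mk, Prod.mk_mul_mk, hζc, mul_one, one_mul]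
  have hfc : ∀ x y, f (x, y) * f (1, ζ) = f (1, ζ) * f (x, y) := by
    intro x y
    rw [← map_mul, ← map_mul, Prod.mk_mul_mk, Prod.mk_mul_mk, hζc, mul_one, one_mul]
  have hc : f (1, ζ) ∈ C := hfC 1 ζ
  -- the embedding of `W` in `X`
  let ι : W →* X := φ.comp ((f.comp (MonoidHom.inr W W)).codRestrict C (fun x => hfC 1 x))
  have hι : ∀ x, ι x = φ ⟨f (1, x), hfC 1 x⟩ := fun x => rfl
  have hιinj : Function.Injective ι := by
    rw [injective_iff_map_eq_one]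
    intro x hx
    obtain ⟨k, hk2⟩ := h2W x
    have h1 : (⟨f (1, x), hfC 1 x⟩ : ↥C) ∈ φ.ker := hx
    have h2 : orderOf (⟨f (1, x), hfC 1 x⟩ : ↥C) ∣ Nat.card φ.ker := Subgroup.orderOf_dvd_natCard _ h1
    have h3 : (⟨f (1, x), hfC 1 x⟩ : ↥C) ^ 2 ^ k = 1 := by
      apply Subtype.ext
      change f (1, x) ^ 2 ^ k = 1
      rw [← map_pow, Prod.pow_mk, one_pow, hk2]
      exact map_one f
    have h4 : orderOf (⟨f (1, x), hfC 1 x⟩ : ↥C) = 1 := by
      have h5 : Nat.Coprime (2 ^ k) (Nat.card φ.ker) := Nat.Coprime.pow_left _ (Nat.coprime_two_left.2 hk)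
      exact Nat.eq_one_of_dvd_coprimes h5 (orderOf_dvd_of_pow_eq_one h3) h2
    have h5 := congrArg Subtype.val (orderOf_eq_one_iff.1 h4)
    have h6 : f (1, x) = f (1, 1) := by rw [show f (1, 1) = 1 from map_one f]; exact h5
    exact (Prod.mk.inj (hinj h6)).2
  have hmem : ∀ (R : Subgroup W) (x : X), x ∈ ((P2 f R).subgroupOf C).map φ ↔ ∃ r ∈ R, ι r = x := by
    intro R x
    constructor
    · rintro ⟨c, hc, rfl⟩
      obtain ⟨r, hr, hrc⟩ := mem_P2.1 (mem_subgroupOf.1 hc)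
      refine ⟨r, hr, ?_⟩
      rw [hι]; congr 1; exact Subtype.ext hrc
    · rintro ⟨r, hr, rfl⟩
      exact ⟨⟨f (1, r), hfC 1 r⟩, mem_subgroupOf.2 (mem_P2.2 ⟨r, hr, rfl⟩), rfl⟩
  refine CentFiveMain.main (t := f (ζ, 1)) (t' := f (1, ζ)) (w := w) hC φ hφ hk h ?_ ?_ hc
    (hw ζ 1) (hw 1 ζ) (P1 := P1 f Q) (P2 := P2 f Q) ?_ ?_ ?_ hQ1 rfl ?_ ?_ ?_ ?_ ?_ hF hJ
  · intro h1
    have h2 : f (1, ζ) = f (1, 1) := by rw [h1]; exact (map_one f).symm
    exact hζ1 (Prod.mk.inj (hinj h2)).2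
  · rw [← map_mul, Prod.mk_mul_mk, hζ2, one_mul]; exact map_one f
  · intro g hg
    obtain ⟨x, hx, rfl⟩ := mem_P1.1 hg
    exact mem_inf.2 ⟨hfC x 1, mem_centralizer_singleton_iff.2 (hfc x 1)⟩
  · intro g hg
    obtain ⟨x, hx, rfl⟩ := mem_P2.1 hg
    exact mem_inf.2 ⟨hfC 1 x, mem_centralizer_singleton_iff.2 (hfc 1 x)⟩
  · ext g
    constructor
    · rintro ⟨y, hy, rfl⟩
      obtain ⟨x, hx, rfl⟩ := mem_P2.1 hy
      refine mem_P1.2 ⟨x, hx, ?_⟩
      simp only [MulEquiv.coe_toMonoidHom, MulAut.conj_apply]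
      rw [hw]
    · intro hg
      obtain ⟨x, hx, rfl⟩ := mem_P1.1 hg
      refine ⟨f (1, x), mem_P2.2 ⟨x, hx, rfl⟩, ?_⟩
      simp only [MulEquiv.coe_toMonoidHom, MulAut.conj_apply]
      rw [hw]
  · intro x hx
    obtain ⟨r, hr, rfl⟩ := (hmem Q x).1 hx
    rw [← hW2]
    exact (hmem ⊤ _).2 ⟨r, mem_top r, rfl⟩
  · rw [← hW2]
    exact (hmem ⊤ _).2 ⟨ζ, mem_top ζ, rfl⟩
  · intro g hg q hq
    rw [← hW2] at hg
    obtain ⟨a, -, rfl⟩ := (hmem ⊤ g).1 hg
    obtain ⟨r, hr, rfl⟩ := (hmem Q q).1 hq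
    exact (hmem Q _).2 ⟨a * r * a⁻¹, hQn.conj_mem r hr a, by simp only [map_mul, map_inv]⟩
  · have h1 : ((P2 f Q).subgroupOf C).map φ = Q.map ι := by
      ext x
      rw [hmem]
      rfl
    rw [h1]
    exact hQL.map ι hιinj
  · intro g hg
    rw [← hW2] at hg
    obtain ⟨a, -, rfl⟩ := (hmem ⊤ g).1 hg
    change ι a * ι ζ = ι ζ * ι a
    rw [← map_mul, ← map_mul, hζc]

end app

end Cfsg.Agent.TypeLFive.CentFiveApp
end

private theorem dce_4a4825bbdb14 : _root_.True := by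
  try have : _root_.True := by simp only [_root_.Cfsg.Agent.TypeLFive.CentFive.cc.eq_1]
  try have : _root_.True := by simp only [_root_.Cfsg.Agent.TypeLFive.EOrbit.D.eq_1]
  try have : _root_.True := by simp only [_root_.Cfsg.Agent.TypeLFive.EOrbit.wt.eq_1]
  exact _root_.True.intro
end

-- part: TypeLFive/CentThree
section
set_option linter.all false
open scoped Cfsg.Agent.FastGrp

/-!
# The centraliser of the involution `t` of type `L₅`, `q = 3`

`X = C(t) / O(C(t))`, `J` the component, `Q` (quaternion of order 8) normal in `X`: an element of odd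
order centralising `J` and `Q` is trivial, and all subgroups of order 24 of `C(J)` generated by
elements of order three coincide.
-/

set_option autoImplicit false

namespace Cfsg.Agent.TypeLFive.CentThree

open Subgroup Cfsg Cfsg.Agent.TypeLFive.CentAbs Cfsg.Agent.SylowLFive.ThreeAux
open Cfsg.Agent.SylowLFive.ThreeLoc

/-- A group with a cyclic Sylow 2-subgroup has a normal 2-complement. -/
theorem exists_compl {R : Type*} [Group R] [Finite R] (P : Sylow 2 R) (hP : IsCyclic P) :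
    ∃ (K : Subgroup R) (_ : K.Normal), Odd (Nat.card K) ∧ IsPGroup 2 (R ⧸ K) := by
  have : Fact (Nat.Prime 2) := ⟨Nat.prime_two⟩
  by_cases h2 : 2 ∣ Nat.card R
  · have hmin : (Nat.card R).minFac = 2 := (Nat.minFac_eq_two_iff _).2 h2
    have h1 := IsCyclic.isComplement' hmin hP
    set K := (MonoidHom.transferSylow P (hP.normalizer_le_centralizer hmin)).ker with hK
    have hodd : Odd (Nat.card K) := by
      have h3 : P.index = Nat.card K := h1.index_eq_card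
      rw [← h3]
      exact Nat.not_even_iff_odd.1 fun h => P.not_dvd_index (even_iff_two_dvd.1 h)
    refine ⟨K, inferInstance, hodd, ?_⟩
    have h3 : K.index = Nat.card P := h1.symm.index_eq_card
    obtain ⟨n, hn⟩ := P.isPGroup'.exists_card_eq
    refine IsPGroup.of_card (n := n) ?_
    rw [← hn, ← h3]
    rfl
  · refine ⟨⊤, inferInstance, ?_, ?_⟩
    · rw [Subgroup.card_top]
      exact Nat.not_even_iff_odd.1 fun h => h2 (even_iff_two_dvd.1 h)
    · refine IsPGroup.of_card (n := 0) ?_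
      have : Nat.card (R ⧸ (⊤ : Subgroup R)) = (⊤ : Subgroup R).index := rfl
      rw [this, index_top, pow_zero]

/-- A normal subgroup with cyclic Sylow 2-subgroup is a 2-group, if `O(X) = 1`. -/
theorem isPGroup_of_cyclic {X : Type*} [Group X] [Finite X] (hO : oddCore X = ⊥) {D : Subgroup X}
    (hD : D.Normal) (P : Sylow 2 D) (hP : IsCyclic P) : IsPGroup 2 D := by
  have : Fact (Nat.Prime 2) := ⟨Nat.prime_two⟩
  obtain ⟨K, hKn, hK, h2⟩ := exists_compl P hP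
  have h1 : K ≤ pPrimeCore 2 D := Lib.Cores.le_pPrimeCore hKn (Nat.coprime_two_right.2 hK)
  have h3 := Lib.Cores.map_subtype_pPrimeCore (G := X) 2 (N := D) hD
  have h4 : pPrimeCore 2 X = ⊥ := hO
  rw [h4, inf_bot_eq, Subgroup.map_eq_bot_iff, ker_subtype, le_bot_iff] at h3
  rw [h3, le_bot_iff] at h1
  subst h1
  exact h2.of_equiv (QuotientGroup.quotientBot)

section

variable {X : Type*} [Group X] [Finite X] {T : Sylow 2 X} {W1 W2 Q1 : Subgroup X}

omit [Finite X] in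
theorem fst_unique (h : CHyp T W1 W2 Q1) : ∀ a a' y : X, a ∈ W1 → a' ∈ W1 → a⁻¹ * y ∈ W2 →
    a'⁻¹ * y ∈ W2 → a = a' := by
  intro a a' y ha ha' h1 h2
  have h3 : a⁻¹ * a' ∈ W2 := by
    have := mul_mem h1 (inv_mem h2)
    have e : a⁻¹ * y * (a'⁻¹ * y)⁻¹ = a⁻¹ * a' := by group
    rwa [e] at this
  have h4 := h.inf _ (mul_mem (inv_mem ha) ha') h3
  exact (inv_mul_eq_one.1 h4)

omit [Finite X] in
/-- the `W1`-part of an element of `T` -/
theorem exists_fst (h : CHyp T W1 W2 Q1) : ∃ f : (T : Subgroup X) →* X,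
    ∀ x : (T : Subgroup X), f x ∈ W1 ∧ (f x)⁻¹ * x ∈ W2 := by
  have h1 : ∀ x : (T : Subgroup X), ∃ a ∈ W1, a⁻¹ * (x : X) ∈ W2 := by
    intro x
    obtain ⟨a, ha, b, hb, hab⟩ := h.fac x x.2
    exact ⟨a, ha, by rw [hab, inv_mul_cancel_left]; exact hb⟩
  choose f hf1 hf2 using h1
  have huniq := fst_unique h
  refine ⟨MonoidHom.mk' f ?_, fun x => ⟨hf1 x, hf2 x⟩⟩
  intro x y
  refine huniq _ _ (x * y : X) (hf1 _) (mul_mem (hf1 x) (hf1 y)) (hf2 (x * y)) ?_
  have e : (f x * f y)⁻¹ * ((x : X) * y) = ((f y)⁻¹ * ((f x)⁻¹ * x) * f y) * ((f y)⁻¹ * y) := by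
    group
  rw [e]
  refine mul_mem ?_ (hf2 y)
  have := h.comm _ (inv_mem (hf1 y)) _ (hf2 x)
  rw [this, inv_mul_cancel_right]
  exact hf2 x

/-- odd elements centralising `J` and `Q1` are trivial. -/
theorem odd_eq_one (h : CHyp T W1 W2 Q1) (hK : normalClosure (Q1 : Set X) = Q1) {x : X}
    (hx : Odd (orderOf x)) (hJ : ∀ j ∈ normalClosure (W2 : Set X), x * j = j * x)
    (hQ : ∀ q ∈ Q1, x * q = q * x) : x = 1 := by
  have : Fact (Nat.Prime 2) := ⟨Nat.prime_two⟩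
  set J := normalClosure (W2 : Set X) with hJd
  have hQn : Q1.Normal := by rw [← hK]; exact normalClosure_normal
  set D : Subgroup X := centralizer (J : Set X) ⊓ centralizer (Q1 : Set X) with hD
  have hDn : D.Normal := inferInstance
  obtain ⟨hs, hc⟩ := h.simple_J
  obtain ⟨P, hP⟩ := Cfsg.Agent.S0542.result 2 D (Subgroup.Normal.isSubnormal inferInstance) T
  obtain ⟨f, hf⟩ := exists_fst h
  obtain ⟨c, hcc⟩ := h.centQ
  have hPT : ∀ x : (P : Subgroup D), ((x : D) : X) ∈ (T : Subgroup X) := by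
    intro x
    have h1 : (x : D) ∈ (T : Subgroup X).subgroupOf D := by rw [← hP]; exact x.2
    exact h1
  let g : (P : Subgroup D) →* (T : Subgroup X) :=
    { toFun := fun x => ⟨_, hPT x⟩, map_one' := rfl, map_mul' := fun _ _ => rfl }
  have hD1 : ∀ x : D, ∀ j ∈ J, (x : X) * j = j * x := fun x j hj =>
    (mem_centralizer_iff.1 x.2.1 j hj).symm
  have hD2 : ∀ x : D, ∀ j ∈ Q1, (x : X) * j = j * x := fun x j hj =>
    (mem_centralizer_iff.1 x.2.2 j hj).symm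
  have hmem : ∀ x : (P : Subgroup D), f (g x) ∈ zpowers c := by
    intro x
    apply hcc _ (hf _).1
    intro q hq
    have h1 : Commute ((x : D) : X) q := hD2 x q hq
    have h2 : Commute ((f (g x))⁻¹ * ((x : D) : X)) q :=
      (h.comm q (h.leW hq) _ (hf (g x)).2).symm
    have h3 : f (g x) = ((x : D) : X) * ((f (g x))⁻¹ * ((x : D) : X))⁻¹ := by group
    rw [h3]
    exact h1.mul_left h2.inv_left
  have hinj : Function.Injective (f.comp g) := by
    rw [injective_iff_map_eq_one]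
    intro x hx
    have h1 := (hf (g x)).2
    have h2 : f (g x) = 1 := hx
    rw [h2, inv_one, one_mul] at h1
    have h3 : ((x : D) : X) ∈ J := subset_normalClosure h1
    have h4 : (⟨_, h3⟩ : J) ∈ center J := by
      rw [mem_center_iff]
      intro j
      exact Subtype.ext (hD1 x j j.2).symm
    have h5 : center J = ⊥ := by
      rcases (inferInstance : (center J).Normal).eq_bot_or_eq_top with h6 | h6
      · exact h6
      · exfalso
        apply hc
        refine ⟨⟨fun a b => ?_⟩⟩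
        have hb : b ∈ center J := by rw [h6]; exact mem_top b
        exact mem_center_iff.1 hb a
    rw [h5, mem_bot] at h4
    have h6 : ((x : D) : X) = 1 := congrArg Subtype.val h4
    exact Subtype.ext (Subtype.ext h6)
  have hcyc : IsCyclic (P : Subgroup D) := by
    let g' : (P : Subgroup D) →* zpowers c := (f.comp g).codRestrict (zpowers c) hmem
    refine isCyclic_of_injective g' ?_
    intro x y hxy
    exact hinj (congrArg Subtype.val hxy)
  have h2 := isPGroup_of_cyclic h.core hDn P hcyc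
  have hxD : x ∈ D := ⟨mem_centralizer_iff.2 fun j hj => (hJ j hj).symm,
    mem_centralizer_iff.2 fun j hj => (hQ j hj).symm⟩
  obtain ⟨k, hk⟩ := h2 ⟨x, hxD⟩
  have hk' : x ^ 2 ^ k = 1 := congrArg Subtype.val hk
  have h3 := orderOf_dvd_of_pow_eq_one hk'
  have h4 : Nat.Coprime (orderOf x) (2 ^ k) := Nat.Coprime.pow_right k (Nat.coprime_two_right.2 hx)
  have h5 := Nat.dvd_gcd (dvd_refl (orderOf x)) h3
  rw [h4, Nat.dvd_one, orderOf_eq_one_iff] at h5
  exact h5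

/-- elements of `W2` centralising `J` are trivial -/
theorem eq_one_of_W2 (h : CHyp T W1 W2 Q1) {x : X} (hx : x ∈ W2)
    (hJ : ∀ j ∈ normalClosure (W2 : Set X), x * j = j * x) : x = 1 := by
  obtain ⟨hs, hc⟩ := h.simple_J
  set J := normalClosure (W2 : Set X) with hJd
  have h3 : x ∈ J := subset_normalClosure hx
  have h4 : (⟨x, h3⟩ : J) ∈ center J := by
    rw [mem_center_iff]
    intro j
    exact Subtype.ext (hJ j j.2).symm
  have h5 : center J = ⊥ := by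
    rcases (inferInstance : (center J).Normal).eq_bot_or_eq_top with h6 | h6
    · exact h6
    · exfalso
      apply hc
      refine ⟨⟨fun a b => ?_⟩⟩
      have hb : b ∈ center J := by rw [h6]; exact mem_top b
      exact mem_center_iff.1 hb a
  rw [h5, mem_bot] at h4
  exact congrArg Subtype.val h4

theorem exists_N (h : CHyp T W1 W2 Q1) (hK : normalClosure (Q1 : Set X) = Q1) :
    ∃ N : Subgroup X, Q1 ≤ N ∧ (∀ n ∈ N, ∀ j ∈ normalClosure (W2 : Set X), n * j = j * n) ∧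
      Odd (Q1.relIndex N) ∧
      ∀ x, (∀ j ∈ normalClosure (W2 : Set X), x * j = j * x) → x ^ 3 = 1 → x ∈ N := by
  have : Fact (Nat.Prime 2) := ⟨Nat.prime_two⟩
  set J := normalClosure (W2 : Set X) with hJd
  have hQn : Q1.Normal := by rw [← hK]; exact normalClosure_normal
  set H : Subgroup X := centralizer (J : Set X) with hH
  have hHn : H.Normal := inferInstance
  have hQH : Q1 ≤ H := fun q hq => mem_centralizer_iff.2 fun j hj =>
    (h.kj q (by rw [hK]; exact hq) j hj).symm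
  have hHJ : ∀ x ∈ H, ∀ j ∈ J, x * j = j * x := fun x hx j hj => (mem_centralizer_iff.1 hx j hj).symm
  have hQHn : (Q1.subgroupOf H).Normal := inferInstance
  obtain ⟨P, hP⟩ := Cfsg.Agent.S0542.result 2 H (Subgroup.Normal.isSubnormal inferInstance) T
  obtain ⟨f, hf⟩ := exists_fst h
  have hPT : ∀ x : (P : Subgroup H), ((x : H) : X) ∈ (T : Subgroup X) := by
    intro x
    have h1 : (x : H) ∈ (T : Subgroup X).subgroupOf H := by rw [← hP]; exact x.2
    exact h1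
  let g : (P : Subgroup H) →* (T : Subgroup X) :=
    { toFun := fun x => ⟨_, hPT x⟩, map_one' := rfl, map_mul' := fun _ _ => rfl }
  have hQW : (Q1.subgroupOf W1).Normal := inferInstance
  let κ : (P : Subgroup H) →* W1 ⧸ Q1.subgroupOf W1 :=
    (QuotientGroup.mk' (Q1.subgroupOf W1)).comp ((f.comp g).codRestrict W1 (fun x => (hf (g x)).1))
  let π : (P : Subgroup H) →* H ⧸ Q1.subgroupOf H :=
    (QuotientGroup.mk' (Q1.subgroupOf H)).comp (P : Subgroup H).subtype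
  have hκ : ∀ x, κ x = 1 ↔ ((x : H) : X) ∈ Q1 := by
    intro x
    have h1 : κ x = 1 ↔ f (g x) ∈ Q1 := by
      show QuotientGroup.mk' (Q1.subgroupOf W1) _ = 1 ↔ _
      rw [QuotientGroup.mk'_apply, QuotientGroup.eq_one_iff]
      rfl
    rw [h1]
    constructor
    · intro h2
      have h3 : (f (g x))⁻¹ * ((x : H) : X) ∈ W2 := (hf (g x)).2
      have h4 : (f (g x))⁻¹ * ((x : H) : X) = 1 := by
        apply eq_one_of_W2 h h3
        intro j hj
        exact hHJ _ (mul_mem (inv_mem (hQH h2)) (x : H).2) j hj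
      have h5 : ((x : H) : X) = f (g x) := (inv_mul_eq_one.1 h4).symm
      rw [h5]; exact h2
    · intro h2
      have h3 : f (g x) = ((x : H) : X) := by
        refine fst_unique h _ _ ((x : H) : X) (hf (g x)).1 (h.leW h2) (hf (g x)).2 ?_
        rw [inv_mul_cancel]
        exact one_mem _
      rw [h3]; exact h2
  have hπ : ∀ x, π x = 1 ↔ ((x : H) : X) ∈ Q1 := by
    intro x
    show QuotientGroup.mk' (Q1.subgroupOf H) _ = 1 ↔ _
    rw [QuotientGroup.mk'_apply, QuotientGroup.eq_one_iff]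
    rfl
  have hker : κ.ker = π.ker := by
    ext x
    rw [MonoidHom.mem_ker, MonoidHom.mem_ker, hκ, hπ]
  have hcW : IsCyclic (W1 ⧸ Q1.subgroupOf W1) := by
    obtain ⟨w, hw, hww⟩ := h.quoQ
    refine ⟨QuotientGroup.mk' _ ⟨w, hw⟩, fun y => ?_⟩
    obtain ⟨y, rfl⟩ := QuotientGroup.mk'_surjective _ y
    obtain ⟨i, hi⟩ := hww y y.2
    refine ⟨-i, ?_⟩
    show (QuotientGroup.mk' (Q1.subgroupOf W1) ⟨w, hw⟩) ^ (-i) = _
    rw [← map_zpow]
    refine QuotientGroup.eq.2 ?_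
    have e : (((⟨w, hw⟩ : W1) ^ (-i))⁻¹ * y : W1) = (⟨w, hw⟩ : W1) ^ i * y := by
      rw [zpow_neg, inv_inv]
    rw [e]
    exact hi
  have hcP : IsCyclic (P.mapSurjective (QuotientGroup.mk'_surjective (Q1.subgroupOf H)) :
      Subgroup (H ⧸ Q1.subgroupOf H)) := by
    have h1 : (P.mapSurjective (QuotientGroup.mk'_surjective (Q1.subgroupOf H)) :
      Subgroup (H ⧸ Q1.subgroupOf H)) = π.range := by
      rw [MonoidHom.range_comp, range_subtype]
      rfl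
    rw [h1]
    have e1 := QuotientGroup.quotientKerEquivRange π
    have e2 := QuotientGroup.quotientKerEquivRange κ
    have e3 : (P : Subgroup H) ⧸ π.ker ≃* (P : Subgroup H) ⧸ κ.ker :=
      QuotientGroup.quotientMulEquivOfEq hker.symm
    have : IsCyclic κ.range := inferInstance
    exact isCyclic_of_injective ((e1.symm.trans e3).trans e2).toMonoidHom
      ((e1.symm.trans e3).trans e2).injective
  obtain ⟨K, hKn, hKo, hK2⟩ := exists_compl _ hcP
  refine ⟨(K.comap (QuotientGroup.mk' (Q1.subgroupOf H))).map H.subtype, ?_, ?_, ?_, ?_⟩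
  · intro q hq
    refine ⟨⟨q, hQH hq⟩, ?_, rfl⟩
    rw [SetLike.mem_coe, mem_comap]
    have : QuotientGroup.mk' (Q1.subgroupOf H) ⟨q, hQH hq⟩ = 1 := by
      rw [QuotientGroup.mk'_apply, QuotientGroup.eq_one_iff]
      exact hq
    rw [this]
    exact one_mem K
  · rintro _ ⟨n, -, rfl⟩ j hj
    exact hHJ n n.2 j hj
  · rw [← relIndex_comap]
    have h1 : Q1.comap H.subtype = (⊥ : Subgroup (H ⧸ Q1.subgroupOf H)).comap
        (QuotientGroup.mk' (Q1.subgroupOf H)) := by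
      rw [MonoidHom.comap_bot, QuotientGroup.ker_mk']
      rfl
    rw [h1, relIndex_comap, map_comap_eq_self_of_surjective (QuotientGroup.mk'_surjective _),
      relIndex_bot_left]
    exact hKo
  · intro x hx hx3
    have hxH : x ∈ H := mem_centralizer_iff.2 fun j hj => (hx j hj).symm
    refine ⟨⟨x, hxH⟩, ?_, rfl⟩
    rw [SetLike.mem_coe, mem_comap]
    set y := QuotientGroup.mk' (Q1.subgroupOf H) ⟨x, hxH⟩ with hy
    have hy3 : y ^ 3 = 1 := by
      rw [hy, ← map_pow]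
      have : (⟨x, hxH⟩ : H) ^ 3 = 1 := Subtype.ext hx3
      rw [this, map_one]
    have h1 : (QuotientGroup.mk' K y) = 1 := by
      obtain ⟨k, hk⟩ := hK2 (QuotientGroup.mk' K y)
      have h2 : (QuotientGroup.mk' K y) ^ 3 = 1 := by rw [← map_pow, hy3, map_one]
      have h3 := Nat.dvd_gcd (orderOf_dvd_of_pow_eq_one h2) (orderOf_dvd_of_pow_eq_one hk)
      have h4 : Nat.gcd 3 (2 ^ k) = 1 := Nat.Coprime.pow_right k (by norm_num)
      rw [h4, Nat.dvd_one, orderOf_eq_one_iff] at h3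
      exact h3
    exact (QuotientGroup.eq_one_iff y).1 h1

/-- All subgroups of order 24 of `C(J)` generated by elements of order three coincide. -/
theorem eq_of_card (h : CHyp T W1 W2 Q1) (hK : normalClosure (Q1 : Set X) = Q1) (e : Q1 ≃* Q8)
    {Y : Subgroup X} (hY : ∀ y ∈ Y, ∀ j ∈ normalClosure (W2 : Set X), y * j = j * y)
    (hc : Nat.card Y = 24) (hgen : ∀ H : Subgroup X, (∀ y ∈ Y, y ^ 3 = 1 → y ∈ H) → Y ≤ H) :
    (∀ x, (∀ j ∈ normalClosure (W2 : Set X), x * j = j * x) → x ^ 3 = 1 → x ∈ Y) ∧ Q1 ≤ Y := by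
  have : Fact (Nat.Prime 2) := ⟨Nat.prime_two⟩
  obtain ⟨N, hQN, hNJ, hodd, hN3⟩ := exists_N h hK
  have hQn : Q1.Normal := by rw [← hK]; exact normalClosure_normal
  have hYN : Y ≤ N := hgen N fun y hy hy3 => hN3 y (hY y hy) hy3
  have hcQ : Nat.card Q1 = 8 := by
    rw [Nat.card_congr e.toEquiv, Nat.card_eq_fintype_card, QuaternionGroup.card]
  have hcN : Nat.card N = 8 * Q1.relIndex N := by
    have h1 := Subgroup.relIndex_mul_relIndex (⊥ : Subgroup X) Q1 N bot_le hQN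
    rw [relIndex_bot_left, relIndex_bot_left, hcQ] at h1
    exact h1.symm
  have h48 : Nat.card N ≤ 24 * 2 := by
    refine card_le e (fun n _ p hp => hQn.conj_mem p hp n) ?_
    intro D hD
    -- `D ≤ Q1`
    have h1 : ∀ d ∈ D, d ∈ Q1 := by
      intro d hd
      have hdN := (hD d hd).1
      -- the odd part of `d` is trivial
      obtain ⟨k, m, hm, hkm⟩ := Nat.exists_eq_two_pow_mul_odd (n := orderOf d) (orderOf_pos d).ne'
      have h2 : d ^ 2 ^ k = 1 := by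
        apply odd_eq_one h hK
        · rw [orderOf_pow, hkm, Nat.gcd_eq_right (Dvd.intro _ rfl),
            Nat.mul_div_cancel_left _ (by positivity)]
          exact hm
        · intro j hj
          exact (show Commute d j from hNJ d hdN j hj).pow_left _
        · intro q hq
          exact (show Commute d q from (hD d hd).2 q hq).pow_left _
      -- the image in `N / Q1`
      have hn : (Q1.subgroupOf N).Normal := inferInstance
      set y := QuotientGroup.mk' (Q1.subgroupOf N) ⟨d, hdN⟩ with hy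
      have h3 : y ^ 2 ^ k = 1 := by
        rw [hy, ← map_pow]
        have : (⟨d, hdN⟩ : N) ^ 2 ^ k = 1 := Subtype.ext h2
        rw [this, map_one]
      have h4 : orderOf y ∣ Q1.relIndex N := by
        have : Nat.card (N ⧸ Q1.subgroupOf N) = Q1.relIndex N := rfl
        rw [← this]
        exact orderOf_dvd_natCard _
      have h5 := Nat.dvd_gcd (orderOf_dvd_of_pow_eq_one h3) h4
      have h6 : Nat.gcd (2 ^ k) (Q1.relIndex N) = 1 :=
        Nat.Coprime.pow_left k (Nat.coprime_two_left.2 hodd)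
      rw [h6, Nat.dvd_one, orderOf_eq_one_iff] at h5
      have h7 : (⟨d, hdN⟩ : N) ∈ Q1.subgroupOf N := (QuotientGroup.eq_one_iff _).1 h5
      exact h7
    have h2 : ∀ d : D, (e ⟨d, h1 d d.2⟩ = 1 ∨ e ⟨d, h1 d d.2⟩ = .a 2) := by
      intro d
      apply q8_center
      intro p
      have := congrArg e (show (⟨d, h1 d d.2⟩ : Q1) * e.symm p = e.symm p * ⟨d, h1 d d.2⟩ from
        Subtype.ext ((hD d d.2).2 _ (e.symm p).2))
      rwa [map_mul, map_mul, e.apply_symm_apply] at this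
    classical
    let φ : D → ({1, .a 2} : Finset Q8) := fun d => ⟨e ⟨d, h1 d d.2⟩, by
      rcases h2 d with h3 | h3
      · rw [h3]; decide
      · rw [h3]; decide⟩
    have hφ : Function.Injective φ := by
      intro a b hab
      have h3 : e ⟨a, h1 a a.2⟩ = e ⟨b, h1 b b.2⟩ := congrArg Subtype.val hab
      have h4 := congrArg Subtype.val (e.injective h3)
      exact Subtype.ext h4
    have h3 := Nat.card_le_card_of_injective φ hφ
    refine h3.trans ?_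
    rw [Nat.card_eq_fintype_card, Fintype.card_coe]
    decide
  have h24 : 24 ∣ Nat.card N := by rw [← hc]; exact card_dvd_of_le hYN
  have hcN24 : Nat.card N = 24 := by
    rw [hcN] at h24 h48 ⊢
    obtain ⟨k, hk⟩ := hodd
    rw [hk] at h24 h48 ⊢
    have : k ≤ 2 := by omega
    interval_cases k <;> omega
  have hYN' : Y = N := Subgroup.eq_of_le_of_card_ge hYN (by rw [hcN24, hc])
  rw [hYN']
  exact ⟨hN3, hQN⟩

end

end Cfsg.Agent.TypeLFive.CentThree
end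

-- part: TypeLFive/FusGlue_mg
section
prune_inst 0x300010000020000000000600000004040000900020000118200640020697004000010044003c000000220000000008100000100040000004000400000401208088400002000104040007801000000000000000000000000000000000041000000000000
set_option linter.all false
open scoped Cfsg.Agent.FastGrp

-- part: TypeLFive/Five
section
/-!
# S0511 (F), step (5): the fusion of `w`, part common to both types
-/

set_option autoImplicit false

namespace Cfsg.Agent.TypeLFive.Five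

open Subgroup Cfsg.Agent.TypeLFive.Model Cfsg.Agent.TypeLFive.Facts

section W

variable {W : Type*} [Group W] {ζ : W}

/-- a nontrivial normal subgroup of `W` contains `ζ`. -/
theorem zeta_mem_of_normal (b : WBase ζ) (K : Subgroup W) [K.Normal] (hK : K ≠ ⊥) : ζ ∈ K := by
  have hfin := b.finite
  have : Fact (Nat.Prime 2) := ⟨Nat.prime_two⟩
  have hnil : Group.IsNilpotent W := b.pgroup.isNilpotent
  have h1 := Cfsg.Agent.Lib.NormalAbelian.normal_inf_center_ne_bot K hK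
  have hp : IsPGroup 2 (K ⊓ Subgroup.center W : Subgroup W) := b.pgroup.to_subgroup _
  have hnt : Nontrivial (K ⊓ Subgroup.center W : Subgroup W) :=
    (Subgroup.nontrivial_iff_ne_bot _).2 h1
  obtain ⟨m, hm, hcard⟩ := (hp.nontrivial_iff_card).1 hnt
  obtain ⟨x, hx⟩ := exists_prime_orderOf_dvd_card' (G := (K ⊓ Subgroup.center W : Subgroup W)) 2
    (by rw [hcard]; exact dvd_pow_self 2 hm.ne')
  have hxx : (x : W) * (x : W) = 1 := by
    have h2 : x ^ 2 = 1 := by rw [← hx]; exact pow_orderOf_eq_one x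
    have h3 := congrArg Subtype.val h2
    rw [pow_two] at h3
    exact h3
  have hx1 : (x : W) ≠ 1 := by
    intro h2
    have h3 : x = 1 := Subtype.ext h2
    rw [h3, orderOf_one] at hx
    exact absurd hx (by norm_num)
  obtain ⟨hxK, hxZ⟩ := Subgroup.mem_inf.1 x.2
  rcases b.uniq x (fun y => ((Subgroup.mem_center_iff.1 hxZ) y).symm) hxx with h2 | h2
  · exact absurd h2 hx1
  · rw [← h2]; exact hxK

/-- an endomorphism of `W` not killing `ζ` is injective. -/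
theorem injective_of_zeta (b : WBase ζ) (β : W →* W) (hβ : β ζ ≠ 1) : Function.Injective β := by
  rw [← MonoidHom.ker_eq_bot_iff]
  by_contra hne
  exact hβ (MonoidHom.mem_ker.1 (zeta_mem_of_normal b β.ker hne))

/-- a hom to an abelian subgroup kills commutators -/
theorem map_commutator_eq_one (β : W →* W)
    (hβ : ∀ v v', β v * β v' = β v' * β v) (c : W) (hc : c ∈ commutator W) : β c = 1 := by
  have h1 : commutator W ≤ β.ker := by
    rw [commutator_def, Subgroup.commutator_le]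
    intro x _ v _
    rw [MonoidHom.mem_ker, map_commutatorElement, commutatorElement_eq_one_iff_mul_comm]
    exact hβ x v
  exact MonoidHom.mem_ker.1 (h1 hc)

theorem map_commutator_mem (β : W →* W) (c : W) (hc : c ∈ commutator W) :
    β c ∈ commutator W := by
  have h1 : (commutator W).map β ≤ commutator W := by
    rw [commutator_def, Subgroup.map_commutator]
    exact Subgroup.commutator_mono le_top le_top
  exact h1 ⟨c, hc, rfl⟩

theorem zeta_mem_commutator (b : WBase ζ) : ζ ∈ commutator W := by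
  obtain ⟨c, hc, hcc⟩ := b.derived_four
  rw [← hcc]
  exact (commutator W).mul_mem hc hc

end W

variable {G W : Type*} [Group G] [Group W]

/-- homs into `T = W × W`. -/
theorem exists_homs {S : Subgroup G} {f : W × W →* G} {w : G} (h : Wr S f w) (D : W →* G)
    (hD : ∀ v, D v ∈ f.range) : ∃ β α : W →* W, ∀ v, D v = f (β v, α v) := by
  let ψ : W →* f.range := D.codRestrict f.range hD
  let e : W × W ≃* f.range := MonoidHom.ofInjective h.inj
  refine ⟨((MonoidHom.fst W W).comp e.symm.toMonoidHom).comp ψ,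
    ((MonoidHom.snd W W).comp e.symm.toMonoidHom).comp ψ, fun v => ?_⟩
  have h1 : e (e.symm (ψ v)) = ψ v := e.apply_symm_apply _
  have h2 := congrArg Subtype.val h1
  exact h2.symm

/-- The diagonal hom `v ↦ g f(v,v) g⁻¹`. -/
def diag (f : W × W →* G) (g : G) : W →* G where
  toFun v := g * f (v, v) * g⁻¹
  map_one' := by
    have : f ((1 : W), (1 : W)) = 1 := map_one f
    rw [this, mul_one, mul_inv_cancel]
  map_mul' a b := by
    have h1 : f (a * b, a * b) = f (a, a) * f (b, b) := by rw [← map_mul, Prod.mk_mul_mk]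
    rw [h1]; group

theorem diag_apply (f : W × W →* G) (g : G) (v : W) : diag f g v = g * f (v, v) * g⁻¹ := rfl

/-- commutators of `S` lie in `T`. -/
theorem commutator_le_range {S : Subgroup G} {f : W × W →* G} {w : G} (h : Wr S f w)
    (D : W →* G) (hD : ∀ v, D v ∈ S) (c : W) (hc : c ∈ commutator W) : D c ∈ f.range := by
  have h1 : commutator W ≤ f.range.comap D := by
    rw [commutator_def, Subgroup.commutator_le]
    intro x _ v _
    rw [Subgroup.mem_comap, commutatorElement_def, map_mul, map_mul, map_mul, map_inv, map_inv]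
    have hidx : (f.range.subgroupOf S).index = 2 := TNotZ.relIndex_range h
    have h2 : (⟨D x, hD x⟩ * ⟨D v, hD v⟩ * (⟨D x, hD x⟩)⁻¹ * (⟨D v, hD v⟩)⁻¹ : S) ∈
        f.range.subgroupOf S := by
      rw [Subgroup.mul_mem_iff_of_index_two hidx, Subgroup.mul_mem_iff_of_index_two hidx,
        Subgroup.mul_mem_iff_of_index_two hidx, inv_mem_iff, inv_mem_iff]
      (clear * -; tauto)
    exact h2
  exact h1 hc

/-- The setting of (5): `g w g⁻¹ = f (x, y)` and `g C_S(w) g⁻¹ ≤ S`. -/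
structure Ext (S : Subgroup G) (f : W × W →* G) (w g : G) (x y : W) : Prop where
  eq : g * w * g⁻¹ = f (x, y)
  le : ∀ r ∈ S, r * w = w * r → g * r * g⁻¹ ∈ S

namespace Ext

variable {S : Subgroup G} {f : W × W →* G} {w g : G} {x y ζ : W}

theorem diag_mem (h : Wr S f w) (k : Ext S f w g x y) (v : W) : diag f g v ∈ S := by
  rw [diag_apply]
  exact k.le _ (h.mem _) ((h.f_comm_w_iff v v).2 rfl)

theorem diag_comm (h : Wr S f w) (k : Ext S f w g x y) (v : W) :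
    diag f g v * f (x, y) = f (x, y) * diag f g v := by
  rw [diag_apply, ← k.eq]
  have h1 := (h.f_comm_w_iff v v).2 rfl
  calc g * f (v, v) * g⁻¹ * (g * w * g⁻¹) = g * (f (v, v) * w) * g⁻¹ := by group
    _ = g * (w * f (v, v)) * g⁻¹ := by rw [h1]
    _ = _ := by group

/-- swapping the two coordinates. -/
theorem swap (h : Wr S f w) (k : Ext S f w g x y) : Ext S f w (w * g) y x where
  eq := by
    calc w * g * w * (w * g)⁻¹ = w * (g * w * g⁻¹) * w⁻¹ := by group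
      _ = f (y, x) := by rw [k.eq, h.w_conj]
  le r hr hrw := by
    have h1 := k.le r hr hrw
    have h2 := S.mul_mem (S.mul_mem h.w_mem h1) (S.inv_mem h.w_mem)
    have e : w * (g * r * g⁻¹) * w⁻¹ = w * g * r * (w * g)⁻¹ := by group
    rwa [e] at h2

/-- conjugating by an element of `T`. -/
theorem conjT (h : Wr S f w) (k : Ext S f w g x y) (a b : W) :
    Ext S f w (f (a, b) * g) (a * x * a⁻¹) (b * y * b⁻¹) where
  eq := by
    calc f (a, b) * g * w * (f (a, b) * g)⁻¹ = f (a, b) * (g * w * g⁻¹) * (f (a, b))⁻¹ := by group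
      _ = _ := by rw [k.eq, ← map_inv, Prod.inv_mk, h.f_mul_f, h.f_mul_f]
  le r hr hrw := by
    have h1 := k.le r hr hrw
    have h2 := S.mul_mem (S.mul_mem (h.mem (a, b)) h1) (S.inv_mem (h.mem (a, b)))
    have e : f (a, b) * (g * r * g⁻¹) * (f (a, b))⁻¹ = f (a, b) * g * r * (f (a, b) * g)⁻¹ := by
      group
    rwa [e] at h2

/-- elements of `S` commuting with `f (x, y)`, `y` central, `x ≠ y`, are in `T`. -/
theorem mem_range_of_comm (h : Wr S f w) (hy : ∀ v, y * v = v * y) (hxy : x ≠ y) (r : G)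
    (hr : r ∈ S) (hc : r * f (x, y) = f (x, y) * r) : r ∈ f.range := by
  rcases h.cases r hr with ⟨a, b, rfl⟩ | ⟨a, b, rfl⟩
  · exact ⟨_, rfl⟩
  · exfalso
    have h1 := ((h.fw_comm_f_iff a b x y).1 hc).1
    rw [← hy a] at h1
    exact hxy (mul_right_cancel h1).symm

/-- involutions in `T'`. -/
theorem zz_cases (h : Wr S f w) (b : WBase ζ) (_k : Ext S f w g x y) (hT : ∀ v, diag f g v ∈ f.range) :
    g * f (ζ, ζ) * g⁻¹ = f (ζ, 1) ∨ g * f (ζ, ζ) * g⁻¹ = f (1, ζ) ∨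
      g * f (ζ, ζ) * g⁻¹ = f (ζ, ζ) := by
  obtain ⟨β, α, hβα⟩ := exists_homs h (diag f g) hT
  have hz := hβα ζ
  rw [diag_apply] at hz
  have h1 : β ζ * β ζ = 1 := by rw [← map_mul, b.sq, map_one]
  have h2 : α ζ * α ζ = 1 := by rw [← map_mul, b.sq, map_one]
  have h3 := b.derived_inv _ (map_commutator_mem β ζ (zeta_mem_commutator b)) h1
  have h4 := b.derived_inv _ (map_commutator_mem α ζ (zeta_mem_commutator b)) h2
  rw [hz]
  rcases h3 with h3 | h3 <;> rcases h4 with h4 | h4 <;> rw [h3, h4]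
  · exfalso
    rw [h3, h4] at hz
    have h5 : f ((1 : W), (1 : W)) = 1 := map_one f
    rw [h5, conj_eq_one_iff, h.f_eq_one_iff, Prod.mk_eq_one] at hz
    exact b.ne hz.1
  · right; left; rfl
  · left; rfl
  · right; right; rfl

/-- `z^g = z` in the cases where `C_S(w)^g ≤ T`. -/
theorem zz_eq [Finite G] {S : Sylow 2 G} (h : Wr (S : Subgroup G) f w) (b : WBase ζ)
    (k : Ext (S : Subgroup G) f w g x y) (hT : ∀ v, diag f g v ∈ f.range) :
    g * f (ζ, ζ) * g⁻¹ = f (ζ, ζ) := by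
  have hn := TNotZ.not_conj h b
  rcases zz_cases h b k hT with h1 | h1 | h1
  · exfalso
    apply hn
    apply IsConj.symm
    rw [isConj_iff]
    exact ⟨g, h1⟩
  · exfalso
    apply hn
    apply IsConj.symm
    rw [isConj_iff]
    refine ⟨w * g, ?_⟩
    calc w * g * f (ζ, ζ) * (w * g)⁻¹ = w * (g * f (ζ, ζ) * g⁻¹) * w⁻¹ := by group
      _ = f (ζ, 1) := by rw [h1, h.w_conj]
  · exact h1

/-- `w^g = (x, y)` with `x` a noncentral involution, `y` central: impossible. -/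
theorem not_mixed [Finite G] {S : Sylow 2 G} (h : Wr (S : Subgroup G) f w) (b : WBase ζ)
    (k : Ext (S : Subgroup G) f w g x y) (hx : x * x = 1) (hx1 : x ≠ 1) (hxζ : x ≠ ζ)
    (hy : y = 1 ∨ y = ζ) : False := by
  have hyc : ∀ v, y * v = v * y := by
    intro v
    rcases hy with rfl | rfl
    · rw [one_mul, mul_one]
    · exact b.central v
  have hxy : x ≠ y := by
    rcases hy with rfl | rfl
    · exact hx1
    · exact hxζ
  have hT : ∀ v, diag f g v ∈ f.range := fun v =>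
    mem_range_of_comm h hyc hxy _ (k.diag_mem h v) (k.diag_comm h v)
  have hz := k.zz_eq h b hT
  obtain ⟨β, α, hβα⟩ := exists_homs h (diag f g) hT
  have hβx : ∀ v, β v * x = x * β v := by
    intro v
    have h1 := k.diag_comm h v
    rw [hβα v, h.f_comm_f_iff] at h1
    exact h1.1
  have h1 : β ζ = 1 := map_commutator_eq_one β
    (fun v v' => b.cent_abelian x hx hx1 hxζ _ _ (hβx v) (hβx v')) ζ (zeta_mem_commutator b)
  have h2 := hβα ζ
  rw [diag_apply, hz, h.f_eq_iff, Prod.mk.injEq, h1] at h2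
  exact b.ne h2.1

/-- `w^g = t`: then `t` is conjugate to an involution `(x', y')` with both components noncentral,
inside `C_G(z)`. -/
theorem case_t [Finite G] {S : Sylow 2 G} (h : Wr (S : Subgroup G) f w) (b : WBase ζ)
    (k : Ext (S : Subgroup G) f w g ζ 1) (e : W) (he : e * e = 1) :
    g * f (ζ, ζ) * g⁻¹ = f (ζ, ζ) ∧
    ∃ β α : W →* W, Function.Injective β ∧ Function.Injective α ∧ β ζ = ζ ∧ α ζ = ζ ∧
      (∀ v, g * f (v, v) * g⁻¹ = f (β v, α v)) ∧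
      ∃ c, c * f (ζ, 1) * c⁻¹ = f (ζ * β e, α e) ∧ c * f (ζ, ζ) * c⁻¹ = f (ζ, ζ) := by
  have hT : ∀ v, diag f g v ∈ f.range := fun v =>
    mem_range_of_comm h (fun v => by rw [one_mul, mul_one]) b.ne _ (k.diag_mem h v)
      (k.diag_comm h v)
  have hz := k.zz_eq h b hT
  obtain ⟨β, α, hβα⟩ := exists_homs h (diag f g) hT
  have h2 := hβα ζ
  rw [diag_apply, hz, h.f_eq_iff, Prod.mk.injEq] at h2
  have hβ : β ζ = ζ := h2.1.symm
  have hα : α ζ = ζ := h2.2.symm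
  refine ⟨hz, β, α, injective_of_zeta b β (by rw [hβ]; exact b.ne),
    injective_of_zeta b α (by rw [hα]; exact b.ne), hβ, hα, fun v => hβα v, ?_⟩
  refine ⟨g * f (e, 1) * g⁻¹, ?_, ?_⟩
  · have h3 : f (e, 1) * w * (f (e, 1))⁻¹ = f (e, e) * w := by
      rw [h.f_conj_w]
      congr 2
      rw [inv_one, mul_one, one_mul]
      rw [inv_eq_of_mul_eq_one_left he]
    rw [← k.eq]
    calc g * f (e, 1) * g⁻¹ * (g * w * g⁻¹) * (g * f (e, 1) * g⁻¹)⁻¹
        = g * (f (e, 1) * w * (f (e, 1))⁻¹) * g⁻¹ := by group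
      _ = g * (f (e, e) * w) * g⁻¹ := by rw [h3]
      _ = (g * f (e, e) * g⁻¹) * (g * w * g⁻¹) := by group
      _ = f (β e, α e) * f (ζ, 1) := by rw [k.eq, ← diag_apply, hβα]
      _ = f (ζ * β e, α e) := by rw [h.f_mul_f, mul_one, b.central]
  · have h3 := TNotZ.z_comm h b _ (h.mem (e, 1))
    calc g * f (e, 1) * g⁻¹ * f (ζ, ζ) * (g * f (e, 1) * g⁻¹)⁻¹
        = g * f (e, 1) * g⁻¹ * (g * f (ζ, ζ) * g⁻¹) * (g * f (e, 1) * g⁻¹)⁻¹ := by rw [hz]
      _ = g * (f (e, 1) * f (ζ, ζ)) * (f (e, 1))⁻¹ * g⁻¹ := by group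
      _ = g * (f (ζ, ζ) * f (e, 1)) * (f (e, 1))⁻¹ * g⁻¹ := by rw [h3]
      _ = g * f (ζ, ζ) * g⁻¹ := by group
      _ = _ := hz

end Ext

/-- The reduction: extremal transfer for `w` and `T`. -/
theorem exists_ext [Finite G] {S : Sylow 2 G} {f : W × W →* G} {w : G}
    (h : Wr (S : Subgroup G) f w) (hG : ∀ φ : G →* ℤˣ, ∀ x, φ x = 1) :
    ∃ g x y, Ext (S : Subgroup G) f w g x y ∧ x * x = 1 ∧ y * y = 1 ∧ ¬ (x = 1 ∧ y = 1) ∧
      ∀ R : Subgroup G, IsPGroup 2 R → (∀ r ∈ R, r * f (x, y) = f (x, y) * r) →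
        (∀ r ∈ (S : Subgroup G), r * f (x, y) = f (x, y) * r → r ∈ R) →
        R ≤ (S : Subgroup G) := by
  -- a Sylow 2-subgroup of `C_G(w)` containing `C_S(w)`
  obtain ⟨R, hxR, hRN, hR, hRi⟩ := Cfsg.Agent.Lib.GoldschmidtFusion.exists_sylow_in (p := 2)
    (N := centralizer ({w} : Set G)) (D := (S : Subgroup G) ⊓ centralizer ({w} : Set G))
    inf_le_right (S.isPGroup'.to_le inf_le_left)
  obtain ⟨g, hgT, hgR⟩ := SylowSp4.ExtTransfer.exists_extremal S f.range h.range_le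
    (TNotZ.relIndex_range h) w h.w_w (fun φ => hG φ w) R hR
    (fun r hr => mem_centralizer_singleton_iff.1 (hRN hr))
  obtain ⟨⟨x, y⟩, hxy⟩ := hgT
  have hsq : f (x, y) * f (x, y) = 1 := by
    rw [hxy]
    calc g * w * g⁻¹ * (g * w * g⁻¹) = g * (w * w) * g⁻¹ := by group
      _ = 1 := by rw [h.w_w]; group
  rw [h.f_mul_f, h.f_eq_one_iff, Prod.mk_eq_one] at hsq
  refine ⟨g, x, y, ⟨hxy.symm, fun r hr hrw => hgR r (hxR ?_)⟩, hsq.1, hsq.2, ?_, ?_⟩
  · exact Subgroup.mem_inf.2 ⟨hr, mem_centralizer_singleton_iff.2 hrw⟩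
  · rintro ⟨rfl, rfl⟩
    have h1 : f ((1 : W), (1 : W)) = 1 := map_one f
    rw [h1, eq_comm, conj_eq_one_iff] at hxy
    exact h.w_ne_one hxy
  · intro R' hR' hR'c hR'S
    -- `R^g` is a Sylow 2-subgroup of `C_G(f(x,y))` inside `S`, so it equals `C_S(f(x,y)) ≤ R'`
    have hRle : R.map (MulAut.conj g).toMonoidHom ≤ (S : Subgroup G) := by
      rintro _ ⟨r, hr, rfl⟩
      exact hgR r hr
    have hRle' : R.map (MulAut.conj g).toMonoidHom ≤ R' := by
      rintro _ ⟨r, hr, rfl⟩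
      apply hR'S _ (hgR r hr)
      have h1 := mem_centralizer_singleton_iff.1 (hRN hr)
      rw [hxy]
      change g * r * g⁻¹ * (g * w * g⁻¹) = g * w * g⁻¹ * (g * r * g⁻¹)
      calc g * r * g⁻¹ * (g * w * g⁻¹) = g * (r * w) * g⁻¹ := by group
        _ = g * (w * r) * g⁻¹ := by rw [h1]
        _ = _ := by group
    -- pull `R'` back into `C_G(w)`
    have hR'2 : IsPGroup 2 (R'.map (MulAut.conj g⁻¹).toMonoidHom) := hR'.map _
    have hR'N : R'.map (MulAut.conj g⁻¹).toMonoidHom ≤ centralizer ({w} : Set G) := by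
      rintro _ ⟨r, hr, rfl⟩
      rw [mem_centralizer_singleton_iff]
      have h1 := hR'c r hr
      rw [hxy] at h1
      change g⁻¹ * r * g⁻¹⁻¹ * w = w * (g⁻¹ * r * g⁻¹⁻¹)
      rw [inv_inv]
      calc g⁻¹ * r * g * w = g⁻¹ * (r * (g * w * g⁻¹)) * g := by group
        _ = g⁻¹ * (g * w * g⁻¹ * r) * g := by rw [h1]
        _ = _ := by group
    obtain ⟨m, hm, hmD⟩ := Cfsg.Agent.Lib.GoldschmidtFusion.exists_conj_le_in hR hRi hR'N hR'2
    have hc1 : Nat.card R' ≤ Nat.card R := by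
      have h1 : Nat.card ((R'.map (MulAut.conj g⁻¹).toMonoidHom).map (MulAut.conj m).toMonoidHom) =
        Nat.card R' := by
        rw [Subgroup.card_map_of_injective (MulAut.conj m).injective,
          Subgroup.card_map_of_injective (MulAut.conj g⁻¹).injective]
      rw [← h1]
      exact Nat.le_of_dvd Nat.card_pos (Subgroup.card_dvd_of_le hmD)
    have hc2 : Nat.card (R.map (MulAut.conj g).toMonoidHom) = Nat.card R :=
      Subgroup.card_map_of_injective (MulAut.conj g).injective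
    have h3 : R.map (MulAut.conj g).toMonoidHom = R' :=
      Subgroup.eq_of_le_of_card_ge hRle' (by rw [hc2]; exact hc1)
    rw [← h3]
    exact hRle

end Cfsg.Agent.TypeLFive.Five
end

-- part: TypeLFive/SDFive
section
/-!
# S0511 (F), step (5) for `W` semidihedral
-/

set_option autoImplicit false

namespace Cfsg.Agent.TypeLFive.SDFive

open Subgroup Cfsg.Agent.TypeLFive.Model Cfsg.Agent.TypeLFive.Facts Cfsg.Agent.TypeLFive.Five
open Cfsg.Agent.TwoFusion.QDBasic Cfsg.Agent.TwoFusion.WreathedBasic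

variable {G W : Type*} [Group G] [Group W] [Finite G] {n : ℕ} {u : ZMod (2 ^ n) → W} {y : W}

omit [Finite G] in
/-- `w^g` is not of type `(e', e'')`. -/
theorem not_two {S : Sylow 2 G} {f : W × W →* G} {w g : G} {p q : W}
    (h : Wr (S : Subgroup G) f w) (hc : IsQDCoord n u y)
    (k : _root_.Cfsg.Agent.TypeLFive.Five.Ext (S : Subgroup G) f w g p q) (hp : p * p = 1) (hp1 : p ≠ 1)
    (hp2 : p ≠ u (2 ^ (n - 1))) (hq : q * q = 1) (hq1 : q ≠ 1) (hq2 : q ≠ u (2 ^ (n - 1))) :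
    False := by
  have b := sd_base hc
  obtain ⟨c, hcc, hc2⟩ := b.derived_four
  obtain ⟨⟨c1, c2⟩, hcT⟩ := commutator_le_range h (diag f g) (k.diag_mem h) c hcc
  have h1 := k.diag_comm h c
  rw [← hcT, h.f_comm_f_iff] at h1
  have key : ∀ x v : W, x * x = 1 → x ≠ 1 → x ≠ u (2 ^ (n - 1)) → v * x = x * v → v * v = 1 := by
    intro x v hx hx1 hx2 hv
    obtain ⟨a, rfl⟩ := sd_inv_cases hc x hx hx1 hx2
    have hζ := sd_zeta_sq hc
    have hζc := sd_zeta_central hc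
    rcases sd_cent hc _ v hv with rfl | rfl | rfl | rfl
    · rw [one_mul]
    · exact hζ
    · exact hx
    · calc u (2 ^ (n - 1)) * (u (2 * a) * y) * (u (2 ^ (n - 1)) * (u (2 * a) * y))
          = u (2 ^ (n - 1)) * ((u (2 * a) * y) * u (2 ^ (n - 1))) * (u (2 * a) * y) := by group
        _ = u (2 ^ (n - 1)) * (u (2 ^ (n - 1)) * (u (2 * a) * y)) * (u (2 * a) * y) := by
            rw [← hζc]
        _ = (u (2 ^ (n - 1)) * u (2 ^ (n - 1))) * ((u (2 * a) * y) * (u (2 * a) * y)) := by group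
        _ = 1 := by rw [hζ, hx, one_mul]
  have h2 : c1 * c1 = 1 := key p c1 hp hp1 hp2 h1.1
  have h3 : c2 * c2 = 1 := key q c2 hq hq1 hq2 h1.2
  have h4 : diag f g (u (2 ^ (n - 1))) = 1 := by
    rw [← hc2, map_mul, ← hcT, h.f_mul_f, h2, h3]
    exact map_one f
  rw [diag_apply, conj_eq_one_iff, h.f_eq_one_iff, Prod.mk_eq_one] at h4
  exact b.ne h4.1

/-- `w^g ≠ z`. -/
theorem not_z {S : Sylow 2 G} {f : W × W →* G} {w g : G}
    (h : Wr (S : Subgroup G) f w) (hc : IsQDCoord n u y)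
    (k : _root_.Cfsg.Agent.TypeLFive.Five.Ext (S : Subgroup G) f w g (u (2 ^ (n - 1))) (u (2 ^ (n - 1)))) : False := by
  have b := sd_base hc
  have hn := TNotZ.not_conj h b
  obtain ⟨c, hcc, hc2⟩ := b.derived_four
  obtain ⟨⟨c1, c2⟩, hcT⟩ := commutator_le_range h (diag f g) (k.diag_mem h) c hcc
  have hz : diag f g (u (2 ^ (n - 1))) = f (c1 * c1, c2 * c2) := by
    rw [← hc2, map_mul, ← hcT, h.f_mul_f]
  have hzz : diag f g (u (2 ^ (n - 1))) * diag f g (u (2 ^ (n - 1))) = 1 := by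
    rw [← map_mul, b.sq, map_one]
  rw [hz, h.f_mul_f, h.f_eq_one_iff, Prod.mk_eq_one] at hzz
  rw [diag_apply] at hz
  rcases sd_sq_cases hc c1 hzz.1 with h1 | h1 <;> rcases sd_sq_cases hc c2 hzz.2 with h2 | h2 <;>
    rw [h1, h2] at hz
  · have h3 : f ((1 : W), (1 : W)) = 1 := map_one f
    rw [h3, conj_eq_one_iff, h.f_eq_one_iff, Prod.mk_eq_one] at hz
    exact b.ne hz.1
  · apply hn
    apply IsConj.symm
    rw [isConj_iff]
    refine ⟨w * g, ?_⟩
    calc w * g * f (u (2 ^ (n - 1)), u (2 ^ (n - 1))) * (w * g)⁻¹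
        = w * (g * f (u (2 ^ (n - 1)), u (2 ^ (n - 1))) * g⁻¹) * w⁻¹ := by group
      _ = f (u (2 ^ (n - 1)), 1) := by rw [hz, h.w_conj]
  · apply hn
    apply IsConj.symm
    rw [isConj_iff]
    exact ⟨g, hz⟩
  · exact h.w_ne _ (mul_left_cancel (mul_right_cancel (hz.trans k.eq.symm)))

omit [Finite G] in
/-- noncentral involutions of `W` are conjugate to `y`. -/
theorem conj_y (hc : IsQDCoord n u y) (x : W) (hx : x * x = 1) (hx1 : x ≠ 1)
    (hx2 : x ≠ u (2 ^ (n - 1))) : ∃ a, a * x * a⁻¹ = y := by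
  obtain ⟨a, rfl⟩ := sd_inv_cases hc x hx hx1 hx2
  obtain ⟨c, hc'⟩ := sd_conj_y hc a
  refine ⟨(u c)⁻¹, ?_⟩
  rw [← hc']; group

/-- **(5) for SD**: `w` is conjugate to `t`, and `t` to `(y, y)`. -/
theorem main {S : Sylow 2 G} {f : W × W →* G} {w : G}
    (h : Wr (S : Subgroup G) f w) (hc : IsQDCoord n u y) (hG : ∀ φ : G →* ℤˣ, ∀ x, φ x = 1) :
    IsConj (f (u (2 ^ (n - 1)), 1)) w ∧ IsConj (f (u (2 ^ (n - 1)), 1)) (f (y, y)) := by
  have b := sd_base hc
  -- it is enough to find an extremal `g` with `w^g = t`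
  have key : ∀ g, _root_.Cfsg.Agent.TypeLFive.Five.Ext (S : Subgroup G) f w g (u (2 ^ (n - 1))) 1 →
      IsConj (f (u (2 ^ (n - 1)), 1)) w ∧ IsConj (f (u (2 ^ (n - 1)), 1)) (f (y, y)) := by
    intro g k
    have hyy := hc.y_y
    have hy1 : y ≠ 1 := by
      intro h1
      have h2 := hc.u_ne 0 0
      rw [h1, mul_one] at h2
      exact h2 rfl
    have hyζ : y ≠ u (2 ^ (n - 1)) := by
      intro h1
      have h2 := hc.u_ne (2 ^ (n - 1)) 0
      rw [hc.u_zero, one_mul] at h2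
      exact h2 h1.symm
    obtain ⟨hz, β, α, hβ, hα, hβζ, hαζ, -, c, hc1, -⟩ := k.case_t h b y hyy
    refine ⟨IsConj.symm (isConj_iff.2 ⟨g, k.eq⟩), ?_⟩
    have hx : u (2 ^ (n - 1)) * β y * (u (2 ^ (n - 1)) * β y) = 1 := by
      have h1 : β y * β y = 1 := by rw [← map_mul, hyy, map_one]
      calc u (2 ^ (n - 1)) * β y * (u (2 ^ (n - 1)) * β y)
          = u (2 ^ (n - 1)) * (β y * u (2 ^ (n - 1))) * β y := by group
        _ = u (2 ^ (n - 1)) * (u (2 ^ (n - 1)) * β y) * β y := by rw [b.central (β y)]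
        _ = (u (2 ^ (n - 1)) * u (2 ^ (n - 1))) * (β y * β y) := by group
        _ = 1 := by rw [b.sq, h1, one_mul]
    have hx1 : u (2 ^ (n - 1)) * β y ≠ 1 := by
      intro h1
      apply hyζ
      apply hβ
      rw [hβζ]
      calc β y = u (2 ^ (n - 1)) * u (2 ^ (n - 1)) * β y := by rw [b.sq, one_mul]
        _ = u (2 ^ (n - 1)) * (u (2 ^ (n - 1)) * β y) := by group
        _ = _ := by rw [h1, mul_one]
    have hx2 : u (2 ^ (n - 1)) * β y ≠ u (2 ^ (n - 1)) := by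
      intro h1
      apply hy1
      apply hβ
      rw [map_one]
      exact mul_eq_left.1 h1
    have hv : α y * α y = 1 := by rw [← map_mul, hyy, map_one]
    have hv1 : α y ≠ 1 := by
      intro h1
      apply hy1
      apply hα
      rw [h1, map_one]
    have hv2 : α y ≠ u (2 ^ (n - 1)) := by
      intro h1
      apply hyζ
      apply hα
      rw [h1, hαζ]
    obtain ⟨a, ha⟩ := conj_y hc _ hx hx1 hx2
    obtain ⟨a', ha'⟩ := conj_y hc _ hv hv1 hv2
    rw [isConj_iff]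
    refine ⟨f (a, a') * c, ?_⟩
    calc f (a, a') * c * f (u (2 ^ (n - 1)), 1) * (f (a, a') * c)⁻¹
        = f (a, a') * (c * f (u (2 ^ (n - 1)), 1) * c⁻¹) * (f (a, a'))⁻¹ := by group
      _ = f (y, y) := by rw [hc1, ← map_inv, Prod.inv_mk, h.f_mul_f, h.f_mul_f, ha, ha']
  obtain ⟨g, p, q, k, hp, hq, hpq, -⟩ := exists_ext h hG
  by_cases hp1 : p = 1
  · subst hp1
    have hq1 : q ≠ 1 := fun hq1 => hpq ⟨rfl, hq1⟩
    by_cases hq2 : q = u (2 ^ (n - 1))
    · subst hq2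
      exact key _ (k.swap h)
    · exact ((k.swap h).not_mixed h b hq hq1 hq2 (Or.inl rfl)).elim
  · by_cases hp2 : p = u (2 ^ (n - 1))
    · subst hp2
      by_cases hq1 : q = 1
      · subst hq1
        exact key _ k
      · by_cases hq2 : q = u (2 ^ (n - 1))
        · subst hq2
          exact (not_z h hc k).elim
        · exact ((k.swap h).not_mixed h b hq hq1 hq2 (Or.inr rfl)).elim
    · by_cases hq1 : q = 1
      · exact (k.not_mixed h b hp hp1 hp2 (Or.inl hq1)).elim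
      · by_cases hq2 : q = u (2 ^ (n - 1))
        · exact (k.not_mixed h b hp hp1 hp2 (Or.inr hq2)).elim
        · exact (not_two h hc k hp hp1 hp2 hq hq1 hq2).elim

end Cfsg.Agent.TypeLFive.SDFive
end

-- part: TypeLFive/SDE16
section
/-!
# S0511 (F), `W` semidihedral: the conjugates of `E` inside `S`
-/

set_option autoImplicit false

namespace Cfsg.Agent.TypeLFive.SDE16

open Subgroup Cfsg.Agent.TypeLFive.Model Cfsg.Agent.TypeLFive.Facts Cfsg.Agent.TypeLFive.WRWeak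
open Cfsg.Agent.TwoFusion.QDBasic

variable {G W : Type*} [Group G] [Group W] {n : ℕ} {u : ZMod (2 ^ n) → W} {y : W}

theorem y_ne_one (hc : IsQDCoord n u y) : y ≠ 1 := by
  intro h1
  have h2 := hc.u_ne 0 0
  rw [h1, mul_one] at h2
  exact h2 rfl

theorem y_ne_zeta (hc : IsQDCoord n u y) : y ≠ u (2 ^ (n - 1)) := by
  intro h1
  have h2 := hc.u_ne (2 ^ (n - 1)) 0
  rw [hc.u_zero, one_mul] at h2
  exact h2 h1.symm

/-- `V = C_W(y) = {1, ζ, y, ζ y}`. -/
theorem cent_cases (hc : IsQDCoord n u y) (v : W) (hv : v ∈ centralizer ({y} : Set W)) :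
    v = 1 ∨ v = u (2 ^ (n - 1)) ∨ v = y ∨ v = u (2 ^ (n - 1)) * y := by
  have h1 := sd_cent hc 0 v (by
    rw [hc.u_zero, one_mul]; exact mem_centralizer_singleton_iff.1 hv)
  rwa [hc.u_zero, one_mul] at h1

theorem cent_sq (hc : IsQDCoord n u y) (v : W) (hv : v ∈ centralizer ({y} : Set W)) :
    v * v = 1 := by
  have b := sd_base hc
  rcases cent_cases hc v hv with rfl | rfl | rfl | rfl
  · rw [one_mul]
  · exact b.sq
  · exact hc.y_y
  · calc u (2 ^ (n - 1)) * y * (u (2 ^ (n - 1)) * y)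
        = u (2 ^ (n - 1)) * (y * u (2 ^ (n - 1))) * y := by group
      _ = u (2 ^ (n - 1)) * (u (2 ^ (n - 1)) * y) * y := by rw [b.central y]
      _ = (u (2 ^ (n - 1)) * u (2 ^ (n - 1))) * (y * y) := by group
      _ = 1 := by rw [b.sq, hc.y_y, one_mul]

theorem cent_comm (hc : IsQDCoord n u y) (v : W) (hv : v ∈ centralizer ({y} : Set W)) (v' : W)
    (hv' : v' ∈ centralizer ({y} : Set W)) : v * v' = v' * v :=
  (sd_base hc).cent_abelian y hc.y_y (y_ne_one hc) (y_ne_zeta hc) v v'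
    (mem_centralizer_singleton_iff.1 hv) (mem_centralizer_singleton_iff.1 hv')

/-- the order of `V` is larger than 2. -/
theorem two_lt_card (hc : IsQDCoord n u y) : 2 < Nat.card (centralizer ({y} : Set W)) := by
  have hfin := hc.finite
  have b := sd_base hc
  have : Fintype (centralizer ({y} : Set W)) := Fintype.ofFinite _
  rw [Nat.card_eq_fintype_card]
  have hζ : u (2 ^ (n - 1)) ∈ centralizer ({y} : Set W) :=
    mem_centralizer_singleton_iff.2 (b.central y)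
  have hy : y ∈ centralizer ({y} : Set W) := mem_centralizer_singleton_iff.2 rfl
  rw [Fintype.two_lt_card_iff]
  refine ⟨1, ⟨_, hζ⟩, ⟨_, hy⟩, ?_, ?_, ?_⟩
  · intro h; exact b.ne (congrArg Subtype.val h).symm
  · intro h; exact y_ne_one hc (congrArg Subtype.val h).symm
  · intro h; exact y_ne_zeta hc (congrArg Subtype.val h).symm

/-- elementary abelian subgroups of `W` are conjugate into `V`. -/
theorem elem_conj (hc : IsQDCoord n u y) (P : Subgroup W) (hP : ∀ x ∈ P, x * x = 1) :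
    ∃ a, ∀ x ∈ P, a * x * a⁻¹ ∈ centralizer ({y} : Set W) := by
  have hcomm : ∀ x ∈ P, ∀ x' ∈ P, x * x' = x' * x := by
    intro x hx x' hx'
    have h1 := hP x hx
    have h2 := hP x' hx'
    have h3 := hP _ (P.mul_mem hx hx')
    have e1 : x⁻¹ = x := inv_eq_of_mul_eq_one_left h1
    have e2 : x'⁻¹ = x' := inv_eq_of_mul_eq_one_left h2
    have e3 : (x * x')⁻¹ = x * x' := inv_eq_of_mul_eq_one_left h3
    rw [← e3, mul_inv_rev, e1, e2]
  by_cases hall : ∀ x ∈ P, x = 1 ∨ x = u (2 ^ (n - 1))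
  · refine ⟨1, fun x hx => ?_⟩
    rw [one_mul, inv_one, mul_one, mem_centralizer_singleton_iff]
    rcases hall x hx with rfl | rfl
    · rw [one_mul, mul_one]
    · exact (sd_base hc).central y
  · push Not at hall
    obtain ⟨x, hx, hx1, hx2⟩ := hall
    obtain ⟨a, ha⟩ := SDFive.conj_y hc x (hP x hx) hx1 hx2
    refine ⟨a, fun v hv => ?_⟩
    rw [mem_centralizer_singleton_iff, ← ha]
    have h1 := hcomm v hv x hx
    calc a * v * a⁻¹ * (a * x * a⁻¹) = a * (v * x) * a⁻¹ := by group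
      _ = a * (x * v) * a⁻¹ := by rw [h1]
      _ = _ := by group

/-- `E = f '' (V × V)`. -/
def E (f : W × W →* G) (y : W) : Subgroup G :=
  ((centralizer ({y} : Set W)).prod (centralizer ({y} : Set W))).map f

theorem mem_E (f : W × W →* G) (g : G) : g ∈ E f y ↔
    ∃ a ∈ centralizer ({y} : Set W), ∃ b ∈ centralizer ({y} : Set W), g = f (a, b) := by
  constructor
  · rintro ⟨⟨a, b⟩, ⟨ha, hb⟩, rfl⟩
    exact ⟨a, ha, b, hb, rfl⟩
  · rintro ⟨a, ha, b, hb, rfl⟩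
    exact ⟨(a, b), ⟨ha, hb⟩, rfl⟩

theorem E_sq (hc : IsQDCoord n u y) (f : W × W →* G) (x : G) (hx : x ∈ E f y) : x * x = 1 := by
  obtain ⟨a, ha, b, hb, rfl⟩ := (mem_E f x).1 hx
  rw [← map_mul, Prod.mk_mul_mk, cent_sq hc a ha, cent_sq hc b hb]
  exact map_one f

theorem E_comm (hc : IsQDCoord n u y) (f : W × W →* G) (x : G) (hx : x ∈ E f y) (x' : G)
    (hx' : x' ∈ E f y) : x * x' = x' * x := by
  obtain ⟨a, ha, b, hb, rfl⟩ := (mem_E f x).1 hx
  obtain ⟨a', ha', b', hb', rfl⟩ := (mem_E f x').1 hx'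
  rw [← map_mul, ← map_mul, Prod.mk_mul_mk, Prod.mk_mul_mk, cent_comm hc a ha a' ha',
    cent_comm hc b hb b' hb']

theorem card_E {f : W × W →* G} (hf : Function.Injective f) :
    Nat.card (E f y) = Nat.card (centralizer ({y} : Set W)) *
      Nat.card (centralizer ({y} : Set W)) := by
  unfold E
  rw [Subgroup.card_map_of_injective hf, Nat.card_congr (Subgroup.prodEquiv _ _).toEquiv,
    Nat.card_prod]

/-- every conjugate of `E` in `S` is conjugate to `E` under `T`. -/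
theorem conj_E {S : Subgroup G} {f : W × W →* G} {w : G} (h : Wr S f w) (hc : IsQDCoord n u y)
    (g : G) (hg : (E f y).map (MulAut.conj g).toMonoidHom ≤ S) :
    ∃ s ∈ f.range, (E f y).map (MulAut.conj (s * g)).toMonoidHom = E f y := by
  have hfinW := hc.finite
  obtain ⟨B, hB⟩ : ∃ B, B = (E f y).map (MulAut.conj g).toMonoidHom := ⟨_, rfl⟩
  have hBsq : ∀ x ∈ B, x * x = 1 := by
    rw [hB]
    rintro _ ⟨x, hx, rfl⟩
    rw [← map_mul, E_sq hc f x hx, map_one]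
  have hBcard : Nat.card B = Nat.card (centralizer ({y} : Set W)) *
      Nat.card (centralizer ({y} : Set W)) := by
    rw [hB, Subgroup.card_map_of_injective (MulAut.conj g).injective, card_E h.inj]
  have h2 := two_lt_card hc
  -- `B ≤ T`
  have hBT : B ≤ f.range := by
    by_contra hcon
    rw [SetLike.not_le_iff_exists] at hcon
    obtain ⟨x, hx, hxT⟩ := hcon
    obtain ⟨a, b, rfl⟩ : ∃ a b, x = f (a, b) * w := by
      rcases h.cases x (by rw [hB] at hx; exact hg hx) with ⟨a, b, rfl⟩ | h1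
      · exact absurd ⟨_, rfl⟩ hxT
      · exact h1
    have hcomm : ∀ x ∈ B, ∀ x' ∈ B, x * x' = x' * x := by
      rw [hB]
      rintro _ ⟨x, hx, rfl⟩ _ ⟨x', hx', rfl⟩
      rw [← map_mul, ← map_mul, E_comm hc f x hx x' hx']
    let δ : W →* G :=
      { toFun := fun v => f (v, a⁻¹ * v * a)
        map_one' := by
          rw [mul_one, inv_mul_cancel]
          exact map_one f
        map_mul' := by
          intro v v'
          rw [← map_mul, Prod.mk_mul_mk]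
          congr 2
          group }
    let P : Subgroup W := B.comap δ
    have hP : ∀ x ∈ P, x * x = 1 := by
      intro v hv
      have h3 : f (v, a⁻¹ * v * a) * f (v, a⁻¹ * v * a) = 1 := hBsq _ hv
      rw [h.f_mul_f, h.f_eq_one_iff, Prod.mk_eq_one] at h3
      exact h3.1
    obtain ⟨c, hcP⟩ := elem_conj hc P hP
    have hPcard : Nat.card P ≤ Nat.card (centralizer ({y} : Set W)) := by
      have h3 : P.map (MulAut.conj c).toMonoidHom ≤ centralizer ({y} : Set W) := by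
        rintro _ ⟨v, hv, rfl⟩
        exact hcP v hv
      have h3' : Nat.card (P.map (MulAut.conj c).toMonoidHom) = Nat.card P :=
        Subgroup.card_map_of_injective (MulAut.conj c).injective
      rw [← h3']
      exact Nat.le_of_dvd Nat.card_pos (Subgroup.card_dvd_of_le h3)
    have h4 : Nat.card B ≤ Nat.card (P ⊕ P) := by
      apply card_le_of_cover B
        (Sum.elim (fun v : P => δ v) (fun v : P => δ v * (f (a, b) * w)))
      intro x' hx'
      have key : ∀ p q, f (p, q) ∈ B → q = a⁻¹ * p * a := by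
        intro p q hpq
        have h5 := ((h.fw_comm_f_iff a b p q).1 (hcomm _ hx _ hpq)).1
        calc q = a⁻¹ * (a * q) := by group
          _ = a⁻¹ * (p * a) := by rw [h5]
          _ = _ := by group
      have hx'S : x' ∈ S := by rw [hB] at hx'; exact hg hx'
      rcases h.cases x' hx'S with ⟨p, q, rfl⟩ | ⟨p, q, rfl⟩
      · have h6 := key p q hx'
        refine ⟨Sum.inl ⟨p, ?_⟩, ?_⟩
        · change f (p, a⁻¹ * p * a) ∈ B
          rw [← h6]; exact hx'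
        · change f (p, a⁻¹ * p * a) = f (p, q)
          rw [← h6]
      · have h3 : f (p, q) * w * (f (a, b) * w)⁻¹ = f (p * a⁻¹, q * b⁻¹) := by
          rw [h.fw_inv, h.fw_mul_fw]
        have h5 : f (p * a⁻¹, q * b⁻¹) ∈ B := by
          rw [← h3]; exact B.mul_mem hx' (B.inv_mem hx)
        have h6 := key _ _ h5
        refine ⟨Sum.inr ⟨p * a⁻¹, ?_⟩, ?_⟩
        · change f (p * a⁻¹, a⁻¹ * (p * a⁻¹) * a) ∈ B
          rw [← h6]; exact h5
        · change f (p * a⁻¹, a⁻¹ * (p * a⁻¹) * a) * (f (a, b) * w) = _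
          rw [← h6, ← h3]; group
    rw [Nat.card_sum, hBcard] at h4
    have h5 : Nat.card (centralizer ({y} : Set W)) * Nat.card (centralizer ({y} : Set W)) ≤
        2 * Nat.card (centralizer ({y} : Set W)) := by omega
    have h6 := Nat.le_of_mul_le_mul_right h5 (by omega)
    omega
  -- inside `T`
  let C : Subgroup (W × W) := B.comap f
  have hCmap : C.map f = B := Subgroup.map_comap_eq_self hBT
  have hCsq : ∀ p ∈ C, p * p = 1 := by
    intro p hp
    apply h.inj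
    rw [map_mul, map_one]
    exact hBsq _ hp
  obtain ⟨a, ha⟩ := elem_conj hc (C.map (MonoidHom.fst W W)) (by
    rintro _ ⟨p, hp, rfl⟩
    rw [← map_mul, hCsq p hp, map_one])
  obtain ⟨b, hb⟩ := elem_conj hc (C.map (MonoidHom.snd W W)) (by
    rintro _ ⟨p, hp, rfl⟩
    rw [← map_mul, hCsq p hp, map_one])
  refine ⟨f (a, b), ⟨_, rfl⟩, ?_⟩
  have hle : (E f y).map (MulAut.conj (f (a, b) * g)).toMonoidHom ≤ E f y := by
    rw [← Control.map_conj_mul, ← hB, ← hCmap]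
    rintro _ ⟨_, ⟨p, hp, rfl⟩, rfl⟩
    obtain ⟨p1, p2⟩ := p
    refine (mem_E f _).2 ⟨a * p1 * a⁻¹, ha _ ⟨_, hp, rfl⟩, b * p2 * b⁻¹, hb _ ⟨_, hp, rfl⟩, ?_⟩
    change f (a, b) * f (p1, p2) * (f (a, b))⁻¹ = _
    rw [← map_inv, Prod.inv_mk, h.f_mul_f, h.f_mul_f]
  have hfinE : Finite (E f y) := by
    apply Nat.finite_of_card_ne_zero
    rw [card_E h.inj]
    have : 0 < Nat.card (centralizer ({y} : Set W)) := Nat.card_pos
    positivity
  apply Subgroup.eq_of_le_of_card_ge hle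
  rw [Subgroup.card_map_of_injective (MulAut.conj _).injective]

end Cfsg.Agent.TypeLFive.SDE16
end

-- part: TypeLFive/SDMain
section
/-!
# S0511 (F) for `W` semidihedral: the final result
-/

set_option autoImplicit false

namespace Cfsg.Agent.TypeLFive.SDMain

open Subgroup Cfsg.Agent.TypeLFive.Model Cfsg.Agent.TypeLFive.Facts Cfsg.Agent.TypeLFive.FrameE
open Cfsg.Agent.TypeLFive.SDE16 Cfsg.Agent.TypeLFive.EOrbit Cfsg.Agent.TypeLFive.Out
open Cfsg.Agent.TwoFusion.QDBasic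

section W

variable {W : Type*} [Group W]

open Classical in
/-- The endomorphism with kernel `U` (of index two) and value `c` outside. -/
noncomputable def charHom (U : Subgroup W) (hU : U.index = 2) (c : W) (hc : c * c = 1) :
    W →* W where
  toFun x := if x ∈ U then 1 else c
  map_one' := if_pos U.one_mem
  map_mul' x y := by
    have h1 := Subgroup.mul_mem_iff_of_index_two hU (a := x) (b := y)
    by_cases hx : x ∈ U <;> by_cases hy : y ∈ U <;> simp [h1, hx, hy, hc]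

theorem charHom_mem (U : Subgroup W) (hU : U.index = 2) (c : W) (hc : c * c = 1) (x : W)
    (hx : x ∈ U) : charHom U hU c hc x = 1 := if_pos hx

theorem charHom_not_mem (U : Subgroup W) (hU : U.index = 2) (c : W) (hc : c * c = 1) (x : W)
    (hx : x ∉ U) : charHom U hU c hc x = c := if_neg hx

theorem charHom_cases (U : Subgroup W) (hU : U.index = 2) (c : W) (hc : c * c = 1) (x : W) :
    charHom U hU c hc x = 1 ∨ charHom U hU c hc x = c := by
  by_cases hx : x ∈ U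
  · exact Or.inl (charHom_mem U hU c hc x hx)
  · exact Or.inr (charHom_not_mem U hU c hc x hx)

variable {n : ℕ} {u : ZMod (2 ^ n) → W} {y : W}

/-- the cyclic maximal subgroup -/
def rotU (hc : IsQDCoord n u y) : Subgroup W where
  carrier := {x | ∃ a, x = u a}
  one_mem' := ⟨0, hc.u_zero.symm⟩
  mul_mem' := by rintro _ _ ⟨a, rfl⟩ ⟨b, rfl⟩; exact ⟨a + b, hc.u_mul a b⟩
  inv_mem' := by rintro _ ⟨a, rfl⟩; exact ⟨-a, hc.u_inv a⟩

theorem uy_not_mem (hc : IsQDCoord n u y) (a : ZMod (2 ^ n)) : u a * y ∉ rotU hc := by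
  rintro ⟨b, hb⟩
  exact hc.u_ne b a hb.symm

theorem index_rotU (hc : IsQDCoord n u y) : (rotU hc).index = 2 := by
  rw [Subgroup.index_eq_two_iff]
  refine ⟨y, fun b => ?_⟩
  rcases hc.cases b with ⟨a, rfl⟩ | ⟨a, rfl⟩
  · right; exact ⟨⟨a, rfl⟩, uy_not_mem hc a⟩
  · left
    refine ⟨?_, uy_not_mem hc a⟩
    rw [mul_assoc, hc.y_y, mul_one]
    exact ⟨a, rfl⟩

theorem edata (hc : IsQDCoord n u y) : EData (u (2 ^ (n - 1))) y where
  ee := hc.y_y
  e_ne := y_ne_one hc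
  e_ζ := y_ne_zeta hc

theorem s1_conj (hc : IsQDCoord n u y) :
    u (2 ^ (n - 2)) * y * (u (2 ^ (n - 2)))⁻¹ = y * u (2 ^ (n - 1)) := by
  have h3 := hc.three_le
  rw [← (sd_base hc).central y]
  have h1 := hc.u_conj_uy (2 ^ (n - 2)) 0
  rw [hc.u_zero, one_mul] at h1
  rw [h1]
  congr 2
  have e2 : (2 : ZMod (2 ^ n)) ^ (n - 1) = 2 * 2 ^ (n - 2) := by
    rw [← pow_succ']; congr 1; omega
  have e3 : (2 : ZMod (2 ^ n)) ^ (n - 1) * 2 ^ (n - 2) = 0 := by
    rw [← pow_add, show n - 1 + (n - 2) = n + (n - 3) by omega, pow_add, two_pow_eq_zero,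
      zero_mul]
  linear_combination -e3 - e2

theorem mem_cent_iff (hc : IsQDCoord n u y) (v : W) :
    v ∈ centralizer ({y} : Set W) ↔ ∃ k l, v = psi (u (2 ^ (n - 1))) y k l := by
  have b := sd_base hc
  rw [psi_cases (edata hc)]
  constructor
  · intro hv
    have h1 := cent_cases hc v hv
    rwa [b.central y] at h1
  · rintro (rfl | rfl | rfl | rfl) <;> rw [mem_centralizer_singleton_iff]
    · rw [one_mul, mul_one]
    · exact b.central y
    · rw [mul_assoc, b.central y]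

end W

variable {G W : Type*} [Group G] [Group W] {n : ℕ} {u : ZMod (2 ^ n) → W} {y : W}
  {f : W × W →* G} {w : G}

theorem mem_E_iff (hc : IsQDCoord n u y) (g : G) :
    g ∈ E f y ↔ ∃ x, g = phi f (u (2 ^ (n - 1))) y x := by
  rw [mem_E]
  constructor
  · rintro ⟨a, ha, b, hb, rfl⟩
    obtain ⟨k, l, rfl⟩ := (mem_cent_iff hc a).1 ha
    obtain ⟨k', l', rfl⟩ := (mem_cent_iff hc b).1 hb
    exact ⟨![k, l, k', l'], rfl⟩
  · rintro ⟨x, rfl⟩
    exact ⟨_, (mem_cent_iff hc _).2 ⟨_, _, rfl⟩, _, (mem_cent_iff hc _).2 ⟨_, _, rfl⟩, rfl⟩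

theorem mem_normalizer_of_map {A : Subgroup G} {x : G}
    (hx : A.map (MulAut.conj x).toMonoidHom = A) : x ∈ normalizer (A : Set G) := by
  rw [Subgroup.mem_normalizer_iff]
  intro y
  constructor
  · intro hy
    rw [← hx]
    exact ⟨y, hy, rfl⟩
  · intro hy
    have h2 : x * y * x⁻¹ ∈ A.map (MulAut.conj x).toMonoidHom := by rw [hx]; exact hy
    obtain ⟨y', hy', e⟩ := h2
    have e' : x * y' * x⁻¹ = x * y * x⁻¹ := e
    rw [← mul_left_cancel (mul_right_cancel e')]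
    exact hy'

theorem mem_normalizer_of_le [Finite G] {A : Subgroup G} {x : G}
    (hx : ∀ y ∈ A, x * y * x⁻¹ ∈ A) : x ∈ normalizer (A : Set G) := by
  apply mem_normalizer_of_map
  have hle : A.map (MulAut.conj x).toMonoidHom ≤ A := by
    rintro _ ⟨y, hy, rfl⟩
    exact hx y hy
  exact Subgroup.eq_of_le_of_card_ge hle
    (by rw [Subgroup.card_map_of_injective (MulAut.conj x).injective])

/-- the permutations induced on `E` before the twist. -/
theorem frame_sd [Finite G] [IsSimpleGroup G] {S : Sylow 2 G}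
    (h : Wr (S : Subgroup G) f w) (hc : IsQDCoord n u y) :
    (∀ σ : Equiv.Perm (Fin 5), ∃ g : G, ∀ i, g * phi f (u (2 ^ (n - 1))) y (o1 i) * g⁻¹ =
      phi f (u (2 ^ (n - 1))) y (o1 (σ i))) ∨
    (∀ σ : Equiv.Perm (Fin 5), ∃ g : G, ∀ i, g * phi f (u (2 ^ (n - 1))) y (o3 i) * g⁻¹ =
      phi f (u (2 ^ (n - 1))) y (o3 (σ i))) := by
  have b := sd_base hc
  have d := edata hc
  obtain ⟨hw, hyy⟩ := SDFive.main h hc (Simple.char_one h b)
  have hEp : IsPGroup 2 (E f y) := by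
    apply S.isPGroup'.to_le
    rintro _ ⟨p, -, rfl⟩
    exact h.mem p
  let N : Subgroup G := normalizer (E f y : Set G)
  have hyc : y ∈ centralizer ({y} : Set W) := mem_centralizer_singleton_iff.2 rfl
  have hζc : u (2 ^ (n - 1)) ∈ centralizer ({y} : Set W) :=
    mem_centralizer_singleton_iff.2 (b.central y)
  have hswap := psi_swap b d _ (s1_conj hc)
  -- `t ~ (y, y)` in `N`
  have ht : ∃ g ∈ N, g * f (u (2 ^ (n - 1)), 1) * g⁻¹ = f (y, y) := by
    obtain ⟨g, hg⟩ := isConj_iff.1 hyy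
    obtain ⟨m, hm, hm2⟩ := Control.control_of (p := 2) f.range (S.isPGroup'.to_le h.range_le)
      (f (u (2 ^ (n - 1)), 1)) (f (y, y)) (Control.not_dvd_relIndex_t h b)
      (by rintro _ ⟨p, rfl⟩; exact TNotZ.t_comm h b p) (E f y) hEp
      (fun x hx => E_comm hc f x hx _ ((mem_E f _).2 ⟨y, hyc, y, hyc, rfl⟩))
      (fun g hg => conj_E h hc g (hg.trans h.range_le)) g hg
    exact ⟨m, mem_normalizer_of_map hm, hm2⟩
  -- `z` is fused in `N`
  have hz : ∃ g ∈ N, ∃ x, g * f (u (2 ^ (n - 1)), u (2 ^ (n - 1))) * g⁻¹ =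
      phi f (u (2 ^ (n - 1))) y x ∧ x ≠ vz := by
    obtain ⟨g, p, q, hg, hp, hq, hpq, hpq2⟩ := Simple.z_fused_T h b hw
    have hred : ∀ p : W, p * p = 1 → ∃ a, ∃ p' ∈ centralizer ({y} : Set W), a * p * a⁻¹ = p' ∧
        (p' = u (2 ^ (n - 1)) → p = u (2 ^ (n - 1))) := by
      intro p hp
      by_cases hp1 : p = 1
      · refine ⟨1, 1, Subgroup.one_mem _, by rw [hp1]; group, fun h1 => absurd h1.symm b.ne⟩
      · by_cases hp2 : p = u (2 ^ (n - 1))
        · refine ⟨1, _, hζc, by rw [hp2]; group, fun _ => hp2⟩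
        · obtain ⟨a, ha⟩ := SDFive.conj_y hc p hp hp1 hp2
          exact ⟨a, y, hyc, ha, fun h1 => absurd h1 (y_ne_zeta hc)⟩
    obtain ⟨a, p', hp', hap, hap2⟩ := hred p hp
    obtain ⟨a', q', hq', haq, haq2⟩ := hred q hq
    have hv : f (p', q') ∈ E f y := (mem_E f _).2 ⟨p', hp', q', hq', rfl⟩
    have hg' : f (a, a') * g * f (u (2 ^ (n - 1)), u (2 ^ (n - 1))) * (f (a, a') * g)⁻¹ =
        f (p', q') := by
      calc f (a, a') * g * f (u (2 ^ (n - 1)), u (2 ^ (n - 1))) * (f (a, a') * g)⁻¹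
          = f (a, a') * (g * f (u (2 ^ (n - 1)), u (2 ^ (n - 1))) * g⁻¹) * (f (a, a'))⁻¹ := by
            group
        _ = f (p', q') := by
            rw [hg, ← map_inv, Prod.inv_mk, h.f_mul_f, h.f_mul_f, hap, haq]
    obtain ⟨m, hm, hm2⟩ := Control.control_of (p := 2) (S : Subgroup G) S.isPGroup'
      (f (u (2 ^ (n - 1)), u (2 ^ (n - 1)))) (f (p', q'))
      (Control.not_dvd_relIndex_z S _ (fun r hr => TNotZ.z_comm h b r hr))
      (fun r hr => TNotZ.z_comm h b r hr) (E f y) hEp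
      (fun x hx => E_comm hc f x hx _ hv)
      (fun g hg => by
        obtain ⟨s, hs, hs2⟩ := conj_E h hc g hg
        exact ⟨s, h.range_le hs, hs2⟩) _ hg'
    obtain ⟨x, hx⟩ := (mem_E_iff hc _).1 hv
    refine ⟨m, mem_normalizer_of_map hm, x, by rw [hm2, hx], ?_⟩
    rintro rfl
    rw [phi_vz d, h.f_eq_iff, Prod.mk.injEq] at hx
    exact hpq2 ⟨hap2 hx.1, haq2 hx.2⟩
  -- the elements normalising `E`
  have hmemN : ∀ g : G, (∀ x, ∃ x', g * phi f (u (2 ^ (n - 1))) y x * g⁻¹ =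
      phi f (u (2 ^ (n - 1))) y x') → g ∈ N := by
    intro g hg
    apply mem_normalizer_of_le
    intro v hv
    obtain ⟨x, rfl⟩ := (mem_E_iff hc _).1 hv
    exact (mem_E_iff hc _).2 (hg x)
  have hfr := frame h b d N
    (by
      intro g hg x
      exact (mem_E_iff hc _).1 ((Subgroup.mem_normalizer_iff.1 hg _).1
        ((mem_E_iff hc _).2 ⟨x, rfl⟩)))
    (u (2 ^ (n - 2))) (s1_conj hc)
    (by
      apply hmemN
      intro x
      refine ⟨![x 1, x 0, x 2, x 3], ?_⟩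
      unfold phi
      rw [← map_inv, Prod.inv_mk, h.f_mul_f, h.f_mul_f, hswap, one_mul, inv_one, mul_one]
      rfl)
    (by
      apply hmemN
      intro x
      refine ⟨![x 0, x 1, x 3, x 2], ?_⟩
      unfold phi
      rw [← map_inv, Prod.inv_mk, h.f_mul_f, h.f_mul_f, hswap, one_mul, inv_one, mul_one]
      rfl)
    (by
      apply hmemN
      intro x
      refine ⟨![x 2, x 3, x 0, x 1], ?_⟩
      unfold phi
      rw [h.w_conj]
      rfl)
    (TNotZ.not_conj h b) ht hz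
  rcases hfr with hfr | hfr
  · left
    intro σ
    obtain ⟨g, -, hg⟩ := hfr σ
    exact ⟨g, hg⟩
  · right
    intro σ
    obtain ⟨g, -, hg⟩ := hfr σ
    exact ⟨g, hg⟩

theorem exists_perm2 (i j : Fin 5) (hij : i ≠ j) :
    ∃ σ : Equiv.Perm (Fin 5), σ 0 = i ∧ σ 1 = j := by
  have key : ∀ i j : Fin 5, i ≠ j →
      (Equiv.swap 0 i * Equiv.swap 1 (Equiv.swap 0 i j) : Equiv.Perm (Fin 5)) 0 = i ∧
      (Equiv.swap 0 i * Equiv.swap 1 (Equiv.swap 0 i j) : Equiv.Perm (Fin 5)) 1 = j := by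
    decide
  exact ⟨_, key i j hij⟩

/-- `FusOut` from the permutations with the pattern `zv`, `W` semidihedral. -/
theorem out_sd [Finite G] [IsSimpleGroup G] {S : Sylow 2 G}
    (h : Wr (S : Subgroup G) f w) (hc : IsQDCoord n u y)
    (hperm : ∀ σ : Equiv.Perm (Fin 5), ∃ g : G, ∀ i, g * f (zv (u (2 ^ (n - 1))) y i) * g⁻¹ =
      f (zv (u (2 ^ (n - 1))) y (σ i))) :
    FusSD (S : Subgroup G) f w u y := by
  have b := sd_base hc
  have d := edata hc
  obtain ⟨hw, -⟩ := SDFive.main h hc (Simple.char_one h b)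
  set ζ := u (2 ^ (n - 1)) with hζ
  have conjP : ∀ σ : Equiv.Perm (Fin 5), ∀ i, IsConj (f (zv ζ y i)) (f (zv ζ y (σ i))) := by
    intro σ i
    obtain ⟨g, hg⟩ := hperm σ
    exact isConj_iff.2 ⟨g, hg i⟩
  have hzi : ∀ i, IsConj (f (ζ, ζ)) (f (zv ζ y i)) := by
    intro i
    have h1 := conjP (Equiv.swap 4 i) 4
    rw [Equiv.swap_apply_left] at h1
    exact h1
  have htij : ∀ i j : Fin 5, i ≠ j → IsConj (f (ζ, 1)) (f (zv ζ y i * zv ζ y j)) := by
    intro i j hij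
    obtain ⟨σ, h0, h1⟩ := exists_perm2 i j hij
    obtain ⟨g, hg⟩ := hperm σ
    have h2 : f (ζ, 1) = f (zv ζ y 0) * f (zv ζ y 1) := by
      rw [← map_mul]
      change f (ζ, 1) = f (y * ζ * y, ζ * ζ)
      rw [b.sq, mul_assoc, b.central y, ← mul_assoc, hc.y_y, one_mul]
    refine isConj_iff.2 ⟨g, ?_⟩
    rw [h2, map_mul]
    calc g * (f (zv ζ y 0) * f (zv ζ y 1)) * g⁻¹
        = (g * f (zv ζ y 0) * g⁻¹) * (g * f (zv ζ y 1) * g⁻¹) := by group
      _ = _ := by rw [hg, hg, h0, h1]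
  -- `T`-conjugation
  have hT : ∀ p q a a' : W, IsConj (f (p, q)) (f (a * p * a⁻¹, a' * q * a'⁻¹)) := by
    intro p q a a'
    refine isConj_iff.2 ⟨f (a, a'), ?_⟩
    rw [← map_inv, Prod.inv_mk, h.f_mul_f, h.f_mul_f]
  have hW : ∀ p q : W, IsConj (f (p, q)) (f (q, p)) := by
    intro p q
    exact isConj_iff.2 ⟨w, h.w_conj p q⟩
  have hred : ∀ p : W, p * p = 1 → p = 1 ∨ p = ζ ∨ ∃ a, a * p * a⁻¹ = y := by
    intro p hp
    by_cases hp1 : p = 1
    · exact Or.inl hp1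
    · by_cases hp2 : p = ζ
      · exact Or.inr (Or.inl hp2)
      · exact Or.inr (Or.inr (SDFive.conj_y hc p hp hp1 hp2))
  have hy1 : ∀ p : W, (∃ a, a * p * a⁻¹ = y) → p ≠ 1 ∧ p ≠ ζ := by
    rintro p ⟨a, ha⟩
    constructor
    · rintro rfl
      apply y_ne_one hc
      rw [← ha]; group
    · rintro rfl
      apply y_ne_zeta hc
      rw [← ha, ← b.central, mul_inv_cancel_right]
  -- the classes of elements of `E`
  have c_yz : IsConj (f (ζ, ζ)) (f (y, ζ)) := hzi 1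
  have c_zy : IsConj (f (ζ, ζ)) (f (ζ, y)) := hzi 3
  have c_y1 : IsConj (f (ζ, 1)) (f (y, 1)) := by
    have h1 := htij 1 4 (by decide)
    have e : f (zv ζ y 1 * zv ζ y 4) = f (y * ζ, ζ * ζ) := rfl
    rw [e, b.sq] at h1
    -- `yζ` is conjugate to `y`
    obtain ⟨a, ha⟩ := (hred (y * ζ) (eζ_sq b d)).resolve_left (fun h2 => y_ne_zeta hc (by
      rw [eq_inv_of_mul_eq_one_left h2, inv_eq_of_mul_eq_one_left b.sq])) |>.resolve_left
      (fun h2 => y_ne_one hc (mul_eq_right.1 h2))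
    have h2 := hT (y * ζ) 1 a 1
    rw [ha] at h2
    simp only [mul_one, inv_one] at h2
    exact h1.trans h2
  have c_1y : IsConj (f (ζ, 1)) (f (1, y)) := c_y1.trans (hW y 1)
  have c_1z : IsConj (f (ζ, 1)) (f (1, ζ)) := hW ζ 1
  have c_yy : IsConj (f (ζ, 1)) (f (y, y)) := by
    have h1 := htij 1 3 (by decide)
    have e : f (zv ζ y 1 * zv ζ y 3) = f (y * ζ, ζ * y) := rfl
    rw [e] at h1
    obtain ⟨a, ha⟩ := (hred (y * ζ) (eζ_sq b d)).resolve_left (fun h2 => y_ne_zeta hc (by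
      rw [eq_inv_of_mul_eq_one_left h2, inv_eq_of_mul_eq_one_left b.sq])) |>.resolve_left
      (fun h2 => y_ne_one hc (mul_eq_right.1 h2))
    have h2 := hT (y * ζ) (ζ * y) a a
    rw [b.central y, ha] at h2
    rw [b.central y] at h1
    exact h1.trans h2
  refine ⟨hc, h, TNotZ.not_conj h b, hperm, hw, ?_, ?_, ?_⟩
  · -- conj_z
    rintro x x' hx hx' hx1 hx'1 hor
    rcases hred x hx with rfl | rfl | ⟨a, ha⟩
    · exact absurd rfl hx1
    · rcases hred x' hx' with rfl | rfl | ⟨a', ha'⟩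
      · exact absurd rfl hx'1
      · exact IsConj.refl _
      · have h2 := hT ζ x' 1 a'
        rw [ha'] at h2
        simp only [one_mul, inv_one, mul_one] at h2
        exact c_zy.trans h2.symm
    · rcases hor with rfl | rfl
      · exact absurd rfl (hy1 _ ⟨a, ha⟩).2
      · have h2 := hT x ζ a 1
        rw [ha] at h2
        simp only [one_mul, inv_one, mul_one] at h2
        exact c_yz.trans h2.symm
  · -- conj_t
    rintro x x' hx hx' hxx hor
    rcases hred x hx with rfl | rfl | ⟨a, ha⟩ <;> rcases hred x' hx' with rfl | rfl | ⟨a', ha'⟩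
    · exact absurd ⟨rfl, rfl⟩ hxx
    · exact c_1z
    · have h2 := hT 1 x' 1 a'
      rw [ha'] at h2
      simp only [one_mul, inv_one] at h2
      exact c_1y.trans h2.symm
    · exact IsConj.refl _
    · exact absurd ⟨b.ne, b.ne, Or.inl rfl⟩ hor
    · exact absurd ⟨b.ne, (hy1 _ ⟨a', ha'⟩).1, Or.inl rfl⟩ hor
    · have h2 := hT x 1 a 1
      rw [ha] at h2
      simp only [one_mul, inv_one] at h2
      exact c_y1.trans h2.symm
    · exact absurd ⟨(hy1 _ ⟨a, ha⟩).1, b.ne, Or.inr rfl⟩ hor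
    · have h2 := hT x x' a a'
      rw [ha, ha'] at h2
      exact c_yy.trans h2.symm
  · exact fun R hR hTR hRt => TNotZ.sylow_t h b R hR hTR hRt

/-- **(F) for `W` semidihedral.** -/
theorem exists_fusSD [Finite G] [IsSimpleGroup G] {S : Sylow 2 G}
    (h : Wr (S : Subgroup G) f w) (hc : IsQDCoord n u y) :
    ∃ f' : W × W →* G, FusSD (S : Subgroup G) f' w u y ∧ f'.range = f.range := by
  have b := sd_base hc
  have d := edata hc
  have hfinW := hc.finite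
  rcases frame_sd h hc with hfr | hfr
  · let μ : W →* W := charHom (rotU hc) (index_rotU hc) (u (2 ^ (n - 1))) b.sq
    have hμ : ∀ x y, μ x * y = y * μ x := by
      intro x v
      rcases charHom_cases (rotU hc) (index_rotU hc) (u (2 ^ (n - 1))) b.sq x with h1 | h1
      · change charHom _ _ _ _ x * v = v * charHom _ _ _ _ x
        rw [h1, one_mul, mul_one]
      · change charHom _ _ _ _ x * v = v * charHom _ _ _ _ x
        rw [h1]; exact b.central v
    have hμy : μ y = u (2 ^ (n - 1)) := by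
      apply charHom_not_mem
      have := uy_not_mem hc 0
      rwa [hc.u_zero, one_mul] at this
    have hμζ : μ (u (2 ^ (n - 1))) = 1 := charHom_mem _ _ _ _ _ ⟨_, rfl⟩
    have hinj : ∀ x, μ (μ x) = x → x = 1 := by
      intro x hx
      rcases charHom_cases (rotU hc) (index_rotU hc) (u (2 ^ (n - 1))) b.sq x with h1 | h1
      · have h2 : μ x = 1 := h1
        rw [h2, map_one] at hx
        exact hx.symm
      · have h2 : μ x = u (2 ^ (n - 1)) := h1
        rw [h2, hμζ] at hx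
        exact hx.symm
    refine ⟨f.comp (twistHom μ hμ), out_sd (h.twist μ hμ hinj) hc (fun σ => ?_),
      Wr.comp_range (twistEquiv μ hμ hinj)⟩
    obtain ⟨g, -, hg⟩ := perm_twist b d μ hμ hμy hμζ (fun _ => True)
      (fun σ => by
        obtain ⟨g, hg⟩ := hfr σ
        exact ⟨g, trivial, hg⟩) σ
    exact ⟨g, hg⟩
  · refine ⟨f, out_sd h hc (fun σ => ?_), rfl⟩
    obtain ⟨g, hg⟩ := hfr σ
    refine ⟨g, fun i => ?_⟩
    rw [← phi_o3 d, ← phi_o3 d, hg]

end Cfsg.Agent.TypeLFive.SDMain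
end

-- part: TypeLFive/OutCommon
section
/-!
# S0511 (F): `FusOut` from the permutations (common form)
-/

set_option autoImplicit false

namespace Cfsg.Agent.TypeLFive.OutCommon

open Subgroup Cfsg.Agent.TypeLFive.Model Cfsg.Agent.TypeLFive.Facts Cfsg.Agent.TypeLFive.FrameE
open Cfsg.Agent.TypeLFive.Out

variable {G W : Type*} [Group G] [Group W] {f : W × W →* G} {w : G} {ζ e : W}

theorem exists_perm2 (i j : Fin 5) (hij : i ≠ j) :
    ∃ σ : Equiv.Perm (Fin 5), σ 0 = i ∧ σ 1 = j := by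
  have key : ∀ i j : Fin 5, i ≠ j →
      (Equiv.swap 0 i * Equiv.swap 1 (Equiv.swap 0 i j) : Equiv.Perm (Fin 5)) 0 = i ∧
      (Equiv.swap 0 i * Equiv.swap 1 (Equiv.swap 0 i j) : Equiv.Perm (Fin 5)) 1 = j := by
    decide
  exact ⟨_, key i j hij⟩

/-- `FusOut` from: `S₅` on the five vectors, `w ~ t`, and: noncentral involutions in the first
coordinate can be moved to `e` without changing the second coordinate. -/
theorem fusOut [Finite G] {S : Sylow 2 G} (h : Wr (S : Subgroup G) f w) (b : WBase ζ)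
    (d : EData ζ e) (hw : IsConj (f (ζ, 1)) w)
    (mv : ∀ p : W, p * p = 1 → p ≠ 1 → p ≠ ζ → ∃ m : G, ∀ q, m * f (p, q) * m⁻¹ = f (e, q))
    (hperm : ∀ σ : Equiv.Perm (Fin 5), ∃ g : G, ∀ i,
      g * f (zv ζ e i) * g⁻¹ = f (zv ζ e (σ i))) :
    FusOut (S : Subgroup G) f w ζ e := by
  have hsw : ∀ p q : W, IsConj (f (p, q)) (f (q, p)) := fun p q =>
    isConj_iff.2 ⟨w, h.w_conj p q⟩
  have h1 : ∀ p q : W, p * p = 1 → p ≠ 1 → p ≠ ζ → IsConj (f (p, q)) (f (e, q)) := by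
    intro p q hp hp1 hp2
    obtain ⟨m, hm⟩ := mv p hp hp1 hp2
    exact isConj_iff.2 ⟨m, hm q⟩
  have h2 : ∀ p q : W, q * q = 1 → q ≠ 1 → q ≠ ζ → IsConj (f (p, q)) (f (p, e)) := by
    intro p q hq hq1 hq2
    exact ((hsw p q).trans (h1 q p hq hq1 hq2)).trans (hsw e p)
  have he0 : e * ζ ≠ 1 := by
    intro h3
    apply d.e_ζ
    rw [eq_inv_of_mul_eq_one_left h3, inv_eq_of_mul_eq_one_left b.sq]
  have heζ : e * ζ ≠ ζ := fun h3 => d.e_ne (mul_eq_right.1 h3)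
  have hee := eζ_sq b d
  -- conjugacy of the `z_i`, `t_ij`
  have hzi : ∀ i, IsConj (f (ζ, ζ)) (f (zv ζ e i)) := by
    intro i
    obtain ⟨g, hg⟩ := hperm (Equiv.swap 4 i)
    have h3 := hg 4
    rw [Equiv.swap_apply_left] at h3
    exact isConj_iff.2 ⟨g, h3⟩
  have htij : ∀ i j : Fin 5, i ≠ j → IsConj (f (ζ, 1)) (f (zv ζ e i * zv ζ e j)) := by
    intro i j hij
    obtain ⟨σ, h0, h1⟩ := exists_perm2 i j hij
    obtain ⟨g, hg⟩ := hperm σ
    have h2 : f (ζ, 1) = f (zv ζ e 0) * f (zv ζ e 1) := by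
      rw [← map_mul]
      change f (ζ, 1) = f (e * ζ * e, ζ * ζ)
      rw [b.sq, mul_assoc, b.central e, ← mul_assoc, d.ee, one_mul]
    refine isConj_iff.2 ⟨g, ?_⟩
    rw [h2, map_mul]
    calc g * (f (zv ζ e 0) * f (zv ζ e 1)) * g⁻¹
        = (g * f (zv ζ e 0) * g⁻¹) * (g * f (zv ζ e 1) * g⁻¹) := by group
      _ = _ := by rw [hg, hg, h0, h1]
  have c_ez : IsConj (f (ζ, ζ)) (f (e, ζ)) := hzi 1
  have c_ze : IsConj (f (ζ, ζ)) (f (ζ, e)) := hzi 3
  have c_e1 : IsConj (f (ζ, 1)) (f (e, 1)) := by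
    have h3 := htij 1 4 (by decide)
    have e1 : f (zv ζ e 1 * zv ζ e 4) = f (e * ζ, ζ * ζ) := rfl
    rw [e1, b.sq] at h3
    exact h3.trans (h1 _ _ hee he0 heζ)
  have c_1e : IsConj (f (ζ, 1)) (f (1, e)) := c_e1.trans (hsw e 1)
  have c_1z : IsConj (f (ζ, 1)) (f (1, ζ)) := hsw ζ 1
  have c_ee : IsConj (f (ζ, 1)) (f (e, e)) := by
    have h3 := htij 1 3 (by decide)
    have e1 : f (zv ζ e 1 * zv ζ e 3) = f (e * ζ, ζ * e) := rfl
    rw [e1, b.central e] at h3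
    exact (h3.trans (h1 _ _ hee he0 heζ)).trans (h2 _ _ hee he0 heζ)
  have hcase : ∀ p : W, p = 1 ∨ p = ζ ∨ (p ≠ 1 ∧ p ≠ ζ) := by
    intro p
    by_cases hp1 : p = 1
    · exact Or.inl hp1
    · by_cases hp2 : p = ζ
      · exact Or.inr (Or.inl hp2)
      · exact Or.inr (Or.inr ⟨hp1, hp2⟩)
  refine ⟨h, TNotZ.not_conj h b, hperm, hw, ?_, ?_, ?_⟩
  · rintro x y hx hy hx1 hy1 hor
    rcases hcase x with rfl | rfl | ⟨-, hx2⟩
    · exact absurd rfl hx1
    · rcases hcase y with rfl | rfl | ⟨-, hy2⟩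
      · exact absurd rfl hy1
      · exact IsConj.refl _
      · exact c_ze.trans (h2 _ _ hy hy1 hy2).symm
    · rcases hor with rfl | rfl
      · exact absurd rfl hx2
      · exact c_ez.trans (h1 _ _ hx hx1 hx2).symm
  · rintro x y hx hy hxy hor
    rcases hcase x with rfl | rfl | ⟨hx1, hx2⟩ <;> rcases hcase y with rfl | rfl | ⟨hy1, hy2⟩
    · exact absurd ⟨rfl, rfl⟩ hxy
    · exact c_1z
    · exact c_1e.trans (h2 _ _ hy hy1 hy2).symm
    · exact IsConj.refl _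
    · exact absurd ⟨b.ne, b.ne, Or.inl rfl⟩ hor
    · exact absurd ⟨b.ne, hy1, Or.inl rfl⟩ hor
    · exact c_e1.trans (h1 _ _ hx hx1 hx2).symm
    · exact absurd ⟨hx1, b.ne, Or.inr rfl⟩ hor
    · exact (c_ee.trans (h2 _ _ hy hy1 hy2).symm).trans (h1 _ _ hx hx1 hx2).symm
  · exact fun R hR hTR hRt => TNotZ.sylow_t h b R hR hTR hRt

end Cfsg.Agent.TypeLFive.OutCommon
end

-- part: TypeLFive/WRFaith
section
/-!
# S0511 (F), wreathed case: `N_G(A) / C_G(A)` acts faithfully on `Ω₁(A)`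

`general`: `S` Sylow 2-subgroup of `G`, `A ≤ S` abelian, normalised by `S`, elements of `S`
centralising the involutions of `A` centralise `A`; then the same holds for the elements of `N_G(A)`.
-/

set_option autoImplicit false

namespace Cfsg.Agent.TypeLFive.WRFaith

open Cfsg.Agent.TypeLFive.Model Cfsg.Agent.TypeLFive.Facts Cfsg.Agent.TypeLFive.Out
open Cfsg.Agent.TwoFusion.QDBasic Cfsg.Agent.TwoFusion.WreathedBasic Cfsg.Agent.TwoFusion

theorem general {G : Type*} [Group G] [Finite G] (S : Sylow 2 G) (A : Subgroup G)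
    (hAS : A ≤ (S : Subgroup G)) (hcomm : ∀ a ∈ A, ∀ b ∈ A, a * b = b * a)
    (hSA : ∀ s ∈ (S : Subgroup G), ∀ v ∈ A, s * v * s⁻¹ ∈ A)
    (hfaith : ∀ s ∈ (S : Subgroup G), (∀ v ∈ A, v * v = 1 → s * v * s⁻¹ = v) →
      ∀ v ∈ A, s * v * s⁻¹ = v)
    (k : G) (hk : ∀ v ∈ A, k * v * k⁻¹ ∈ A) (h1 : ∀ v ∈ A, v * v = 1 → k * v * k⁻¹ = v) :
    ∀ v ∈ A, k * v * k⁻¹ = v := by
  intro v hv
  set N : Subgroup G := Subgroup.normalizer (A : Set G) with hN
  have hNfin : ∀ x : G, (∀ v ∈ A, x * v * x⁻¹ ∈ A) → x ∈ N := by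
    intro x hx
    have hle : A.map (MulAut.conj x).toMonoidHom ≤ A := by
      rintro _ ⟨v, hv, rfl⟩
      exact hx v hv
    have heq : A.map (MulAut.conj x).toMonoidHom = A := by
      apply Subgroup.eq_of_le_of_card_ge hle
      exact (Subgroup.card_map_of_injective (K := A) (f := (MulAut.conj x).toMonoidHom)
        (MulAut.conj x).injective).ge
    rw [hN, Subgroup.mem_normalizer_iff]
    intro v
    refine ⟨hx v, fun hv => ?_⟩
    rw [← heq] at hv
    obtain ⟨w, hw, hw'⟩ := hv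
    have : w = v := by
      have : x * w * x⁻¹ = x * v * x⁻¹ := hw'
      simpa only [_root_.mul_left_inj, _root_.mul_right_inj] using this
    rwa [← this]
  have hkN : k ∈ N := hNfin k hk
  -- the centralizer of the involutions in `N`
  let C : Subgroup G := N ⊓ Subgroup.centralizer {v | v ∈ A ∧ v * v = 1}
  have hkC : k ∈ C := by
    refine ⟨hkN, Subgroup.mem_centralizer_iff.2 ?_⟩
    rintro v ⟨hv, hv2⟩
    have := h1 v hv hv2
    calc v * k = (k * v * k⁻¹) * k := by rw [this]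
      _ = k * v := by group
  have hC2 : ∀ x ∈ C, ∀ v ∈ A, v * v = 1 → x * v * x⁻¹ = v := by
    rintro x ⟨-, hx⟩ v hv hv2
    rw [← Subgroup.mem_centralizer_iff.1 hx v ⟨hv, hv2⟩]; group
  have hC1 : ∀ x ∈ C, ∀ v ∈ A, x * v * x⁻¹ ∈ A := by
    rintro x ⟨hx, -⟩ v hv
    exact (Subgroup.mem_normalizer_iff.1 hx v).1 hv
  have hSN : (S : Subgroup G) ≤ N := fun x hx => hNfin x (hSA x hx)
  obtain ⟨a, b, hab, ⟨j, hj⟩, hodd⟩ := PResidual.exists_pPart_mul_pPrimePart 2 k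
  have haC : k ^ a ∈ C := C.zpow_mem hkC a
  have hbC : k ^ b ∈ C := C.zpow_mem hkC b
  -- the odd part
  have hb1 : k ^ b * v * (k ^ b)⁻¹ = v := by
    obtain ⟨l, hl⟩ := (IsPGroup.iff_orderOf.1 S.isPGroup') ⟨v, hAS hv⟩
    rw [Subgroup.orderOf_mk] at hl
    refine OneClass.conj_eq_of_odd A hcomm (k ^ b) ?_ (hC1 _ hbC) (hC2 _ hbC) l v hv ?_
    · rw [← Nat.not_even_iff_odd, even_iff_two_dvd]
      intro h3
      have h4 := Nat.dvd_gcd h3 (dvd_refl 2)
      rw [hodd] at h4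
      omega
    · rw [← hl, pow_orderOf_eq_one]
  -- the 2-part
  have ha2 : k ^ a * v * (k ^ a)⁻¹ = v := by
    have h3 : IsPGroup 2 (Subgroup.zpowers (k ^ a)) :=
      IsPGroup.of_card (by rw [Nat.card_zpowers, hj])
    obtain ⟨P, hP⟩ := (h3.comap_subtype (K := N)).exists_le_sylow
    obtain ⟨m, hm⟩ := MulAction.exists_smul_eq N P (S.subtype hSN)
    have h4 : m * ⟨k ^ a, haC.1⟩ * m⁻¹ ∈ (S.subtype hSN : Subgroup N) := by
      rw [← hm]
      exact ⟨_, hP (Subgroup.mem_zpowers (k ^ a)), rfl⟩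
    have h5 : (m : G) * k ^ a * (m : G)⁻¹ ∈ (S : Subgroup G) := h4
    have hmU : ∀ v ∈ A, (m : G) * v * (m : G)⁻¹ ∈ A := fun v hv =>
      (Subgroup.mem_normalizer_iff.1 m.2 v).1 hv
    have hmU' : ∀ v ∈ A, (m : G)⁻¹ * v * (m : G) ∈ A := fun v hv => by
      have := (Subgroup.mem_normalizer_iff.1 (N.inv_mem m.2) v).1 hv
      simpa only [_root_.inv_inv] using this
    have h6 := hfaith _ h5 (by
      intro x hx hxx
      have h7 := hC2 (k ^ a) haC ((m : G)⁻¹ * x * (m : G)) (hmU' _ hx) (by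
        calc (m : G)⁻¹ * x * (m : G) * ((m : G)⁻¹ * x * (m : G))
            = (m : G)⁻¹ * (x * x) * (m : G) := by group
          _ = 1 := by rw [hxx]; group)
      calc (m : G) * k ^ a * (m : G)⁻¹ * x * ((m : G) * k ^ a * (m : G)⁻¹)⁻¹
          = (m : G) * (k ^ a * ((m : G)⁻¹ * x * (m : G)) * (k ^ a)⁻¹) * (m : G)⁻¹ := by group
        _ = x := by rw [h7]; group) ((m : G) * v * (m : G)⁻¹) (hmU v hv)
    have h7 : (m : G) * (k ^ a * v * (k ^ a)⁻¹) * (m : G)⁻¹ = (m : G) * v * (m : G)⁻¹ := by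
      rw [← h6]
      group
    exact mul_left_cancel (mul_right_cancel h7)
  calc k * v * k⁻¹ = (k ^ a * k ^ b) * v * (k ^ a * k ^ b)⁻¹ := by rw [← hab]
    _ = k ^ a * (k ^ b * v * (k ^ b)⁻¹) * (k ^ a)⁻¹ := by group
    _ = v := by rw [hb1, ha2]

variable {G W : Type*} [Group G] [Group W] {n : ℕ} {u : ZMod (2 ^ n) → ZMod (2 ^ n) → W} {s : W}

/-- The homocyclic group `A = f '' {(u a b, u c d)}`. -/
def AA (f : W × W →* G) (hu : IsWCoord n u s) : Subgroup G := (hu.base.prod hu.base).map f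

theorem mem_AA (f : W × W →* G) (hu : IsWCoord n u s) (g : G) :
    g ∈ AA f hu ↔ ∃ a b c d, g = f (u a b, u c d) := by
  constructor
  · rintro ⟨⟨x, y⟩, ⟨hx, hy⟩, rfl⟩
    obtain ⟨a, b, hab⟩ := hx
    obtain ⟨c, d, hcd⟩ := hy
    dsimp only at hab hcd
    subst hab hcd
    exact ⟨a, b, c, d, rfl⟩
  · rintro ⟨a, b, c, d, rfl⟩
    exact ⟨_, ⟨hu.u_mem_base a b, hu.u_mem_base c d⟩, rfl⟩

theorem AA_mem (f : W × W →* G) (hu : IsWCoord n u s) (a b c d : ZMod (2 ^ n)) :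
    f (u a b, u c d) ∈ AA f hu := (mem_AA f hu _).2 ⟨a, b, c, d, rfl⟩

theorem AA_comm (f : W × W →* G) (hu : IsWCoord n u s) (x : G) (hx : x ∈ AA f hu) (y : G)
    (hy : y ∈ AA f hu) : x * y = y * x := by
  obtain ⟨a, b, c, d, rfl⟩ := (mem_AA f hu _).1 hx
  obtain ⟨a', b', c', d', rfl⟩ := (mem_AA f hu _).1 hy
  rw [← map_mul, ← map_mul, Prod.mk_mul_mk, Prod.mk_mul_mk, hu.u_comm a, hu.u_comm c]

theorem AA_le {S : Subgroup G} {f : W × W →* G} {w : G} (h : Wr S f w) (hu : IsWCoord n u s) :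
    AA f hu ≤ S := by
  intro x hx
  obtain ⟨a, b, c, d, rfl⟩ := (mem_AA f hu _).1 hx
  exact h.mem _

theorem AA_norm {S : Subgroup G} {f : W × W →* G} {w : G} (h : Wr S f w) (hu : IsWCoord n u s)
    (r : G) (hr : r ∈ S) (x : G) (hx : x ∈ AA f hu) : r * x * r⁻¹ ∈ AA f hu := by
  have hn := hu.base_normal
  obtain ⟨⟨a, b⟩, ⟨ha, hb⟩, rfl⟩ := hx
  have ha : a ∈ hu.base := ha
  have hb : b ∈ hu.base := hb
  rcases h.cases r hr with ⟨y, v, rfl⟩ | ⟨y, v, rfl⟩
  · refine ⟨(y * a * y⁻¹, v * b * v⁻¹), ⟨hn.conj_mem _ ha _, hn.conj_mem _ hb _⟩, ?_⟩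
    rw [← map_inv, ← map_mul, ← map_mul]; rfl
  · refine ⟨(y * b * y⁻¹, v * a * v⁻¹), ⟨hn.conj_mem _ hb _, hn.conj_mem _ ha _⟩, ?_⟩
    rw [h.fw_inv, h.fw_mul_f, h.fw_mul_fw]

/-- An element of `S` centralising the involutions of `A` centralises `A`. -/
theorem AA_faithful {S : Subgroup G} {f : W × W →* G} {w : G} (h : Wr S f w)
    (hu : IsWCoord n u s) (r : G) (hr : r ∈ S)
    (h1 : ∀ v ∈ AA f hu, v * v = 1 → r * v * r⁻¹ = v) : r ∈ AA f hu := by
  have h0 := half_ne_zero n hu.one_le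
  have hh := two_mul_half n hu.one_le
  have hsq : u (2 ^ (n - 1)) 0 * u (2 ^ (n - 1)) 0 = 1 := by
    rw [hu.u_mul, ← two_mul, hh, add_zero, hu.u_zero]
  have e1 := h1 (f (u (2 ^ (n - 1)) 0, u 0 0)) (AA_mem f hu _ _ _ _) (by
    rw [h.f_mul_f, hsq, hu.u_zero, one_mul]; exact map_one f)
  have e2 := h1 (f (u 0 0, u (2 ^ (n - 1)) 0)) (AA_mem f hu _ _ _ _) (by
    rw [h.f_mul_f, hsq, hu.u_zero, one_mul]; exact map_one f)
  rw [mul_inv_eq_iff_eq_mul] at e1 e2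
  rcases h.cases r hr with ⟨x, y, rfl⟩ | ⟨x, y, rfl⟩
  · have e3 := ((h.f_comm_f_iff _ _ _ _).1 e1).1
    have e4 := ((h.f_comm_f_iff _ _ _ _).1 e2).2
    obtain ⟨a, b, rfl⟩ := wr_cent_u hu _ _ h0 _ e3
    obtain ⟨c, d, rfl⟩ := wr_cent_u hu _ _ h0 _ e4
    exact AA_mem f hu _ _ _ _
  · exfalso
    have e3 := ((h.fw_comm_f_iff _ _ _ _).1 e1).1
    rw [hu.u_zero, mul_one] at e3
    have e4 : u (2 ^ (n - 1)) 0 = 1 := mul_eq_right.1 e3.symm
    rw [hu.u_eq_one_iff] at e4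
    exact h0 e4.1

/-- `N_G(A) / C_G(A)` is faithful on the involutions of `A`. -/
theorem faithful_AA [Finite G] {S : Sylow 2 G} {f : W × W →* G} {w : G}
    (h : Wr (S : Subgroup G) f w) (hu : IsWCoord n u s) (g : G)
    (hg : ∀ v ∈ AA f hu, g * v * g⁻¹ ∈ AA f hu)
    (h1 : ∀ v ∈ AA f hu, v * v = 1 → g * v * g⁻¹ = v) : ∀ v ∈ AA f hu, g * v * g⁻¹ = v :=
  general S (AA f hu) (AA_le h hu) (AA_comm f hu) (AA_norm h hu) (fun r hr hr1 v hv => by
    rw [AA_comm f hu r (AA_faithful h hu r hr hr1) v hv]; group) g hg h1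

/-- The involutions of `A`. -/
theorem inv_AA {S : Subgroup G} {f : W × W →* G} {w : G} (h : Wr S f w)
    (hu : IsWCoord n u s) (a b c d : ZMod (2 ^ n))
    (hv : f (u a b, u c d) * f (u a b, u c d) = 1) :
    ((a = 0 ∨ a = 2 ^ (n - 1)) ∧ (b = 0 ∨ b = 2 ^ (n - 1))) ∧
      ((c = 0 ∨ c = 2 ^ (n - 1)) ∧ (d = 0 ∨ d = 2 ^ (n - 1))) := by
  rw [h.f_mul_f, h.f_eq_one_iff, Prod.mk_eq_one, wr_u_sq_iff hu, wr_u_sq_iff hu] at hv
  exact hv

/-- **(F)** the field `faithful` of `Out.FusWR`. -/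
theorem faithful [Finite G] {S : Sylow 2 G} {f : W × W →* G} {w : G}
    (h : Wr (S : Subgroup G) f w) (hu : IsWCoord n u s) (g : G)
    (hg : ∀ a b c d, ∃ a' b' c' d', g * f (u a b, u c d) * g⁻¹ = f (u a' b', u c' d'))
    (h1 : ∀ i, g * f (zv (u (2 ^ (n - 1)) (2 ^ (n - 1))) (u (2 ^ (n - 1)) 0) i) * g⁻¹ =
      f (zv (u (2 ^ (n - 1)) (2 ^ (n - 1))) (u (2 ^ (n - 1)) 0) i)) (a b c d : ZMod (2 ^ n)) :
    g * f (u a b, u c d) = f (u a b, u c d) * g := by
  have hh := two_mul_half n hu.one_le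
  -- the subgroup of elements of `A` fixed by `g`
  let F : Subgroup G := Subgroup.centralizer {g}
  have hF : ∀ x, x ∈ F ↔ g * x * g⁻¹ = x := by
    intro x
    rw [Subgroup.mem_centralizer_singleton_iff, mul_inv_eq_iff_eq_mul]
    exact ⟨fun e => e.symm, fun e => e.symm⟩
  set ζ : W := u (2 ^ (n - 1)) (2 ^ (n - 1)) with hζ
  set e : W := u (2 ^ (n - 1)) 0 with he
  have z0 : f (e * ζ, ζ) ∈ F := (hF _).2 (h1 0)
  have z1 : f (e, ζ) ∈ F := (hF _).2 (h1 1)
  have z2 : f (ζ, e * ζ) ∈ F := (hF _).2 (h1 2)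
  have z3 : f (ζ, e) ∈ F := (hF _).2 (h1 3)
  have z4 : f (ζ, ζ) ∈ F := (hF _).2 (h1 4)
  have hζζ : ζ * ζ = 1 := wr_zeta_sq hu
  have hee : e * e = 1 := by
    rw [he, hu.u_mul, ← two_mul, hh, add_zero, hu.u_zero]
  have heζ : e * ζ = ζ * e := by rw [he, hζ, hu.u_comm]
  -- generators
  have g1 : f (ζ, 1) ∈ F := by
    have := F.mul_mem z0 z1
    rw [← map_mul, Prod.mk_mul_mk, hζζ, heζ, mul_assoc, hee, mul_one] at this
    exact this
  have g2 : f (1, ζ) ∈ F := by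
    have := F.mul_mem z4 g1
    rw [← map_mul, Prod.mk_mul_mk, hζζ, mul_one] at this
    exact this
  have g3 : f (e, 1) ∈ F := by
    have := F.mul_mem z1 g2
    rw [← map_mul, Prod.mk_mul_mk, hζζ, mul_one] at this
    exact this
  have g4 : f (1, e) ∈ F := by
    have := F.mul_mem z3 g1
    rw [← map_mul, Prod.mk_mul_mk, hζζ, mul_one] at this
    exact this
  have p1 : ∀ a b : ZMod (2 ^ n), (a = 0 ∨ a = 2 ^ (n - 1)) → (b = 0 ∨ b = 2 ^ (n - 1)) →
      u a b = 1 ∨ u a b = ζ ∨ u a b = e ∨ u a b = ζ * e := by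
    rintro a b (rfl | rfl) (rfl | rfl)
    · exact Or.inl hu.u_zero
    · right; right; right
      rw [hζ, he, hu.u_mul, ← two_mul, hh, add_zero]
    · exact Or.inr (Or.inr (Or.inl rfl))
    · exact Or.inr (Or.inl rfl)
  have q1 : ∀ x : W, x = 1 ∨ x = ζ ∨ x = e ∨ x = ζ * e → f (x, 1) ∈ F := by
    rintro x (rfl | rfl | rfl | rfl)
    · have : f ((1 : W), (1 : W)) = 1 := map_one f
      rw [this]; exact F.one_mem
    · exact g1
    · exact g3
    · have := F.mul_mem g1 g3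
      rwa [← map_mul, Prod.mk_mul_mk, mul_one] at this
  have q2 : ∀ x : W, x = 1 ∨ x = ζ ∨ x = e ∨ x = ζ * e → f (1, x) ∈ F := by
    rintro x (rfl | rfl | rfl | rfl)
    · have : f ((1 : W), (1 : W)) = 1 := map_one f
      rw [this]; exact F.one_mem
    · exact g2
    · exact g4
    · have := F.mul_mem g2 g4
      rwa [← map_mul, Prod.mk_mul_mk, mul_one] at this
  have key := faithful_AA h hu g (by
    intro v hv
    obtain ⟨a, b, c, d, rfl⟩ := (mem_AA f hu _).1 hv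
    exact (mem_AA f hu _).2 (hg a b c d)) (by
    intro v hv hvv
    obtain ⟨a, b, c, d, rfl⟩ := (mem_AA f hu _).1 hv
    obtain ⟨⟨h2, h3⟩, h4, h5⟩ := inv_AA h hu a b c d hvv
    have h6 := F.mul_mem (q1 _ (p1 a b h2 h3)) (q2 _ (p1 c d h4 h5))
    rw [← map_mul, Prod.mk_mul_mk, mul_one, one_mul] at h6
    exact (hF _).1 h6) _ (AA_mem f hu a b c d)
  rw [mul_inv_eq_iff_eq_mul] at key
  exact key

end Cfsg.Agent.TypeLFive.WRFaith
end

-- part: TypeLFive/WRhoBase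
section
/-!
# S0511, wreathed case: the base of the fusion analysis

`Ctx`: `S` a Sylow 2-subgroup `W ≀ 2`, `W = Z_{2^n} ≀ 2`, with `A = A₀ × A₀` weakly closed in `S`.
`control`: `N_G(A)` controls the fusion of subsets of `A`.
-/

set_option autoImplicit false

namespace Cfsg.Agent.TypeLFive.WRho

open Cfsg.Agent.TypeLFive.Model Cfsg.Agent.TwoFusion.QDBasic Cfsg.Agent.TwoFusion.WreathedBasic
open scoped Pointwise

variable {G W : Type*} [Group G] [Group W]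

structure Ctx (S : Sylow 2 G) (f : W × W →* G) (w : G) {n : ℕ}
    (u : ZMod (2 ^ n) → ZMod (2 ^ n) → W) (s : W) : Prop where
  wr : Wr (S : Subgroup G) f w
  co : IsWCoord n u s
  /-- `A` is weakly closed in `S`. -/
  weak : ∀ g : G, (∀ a b c d, g * f (u a b, u c d) * g⁻¹ ∈ (S : Subgroup G)) →
    ∀ a b c d, ∃ a' b' c' d', g * f (u a b, u c d) * g⁻¹ = f (u a' b', u c' d')

variable {S : Sylow 2 G} {f : W × W →* G} {w : G} {n : ℕ}
  {u : ZMod (2 ^ n) → ZMod (2 ^ n) → W} {s : W}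

namespace Ctx

/-- `A = A₀ × A₀` -/
def A (h : Ctx S f w u s) : Subgroup G := (h.co.base.prod h.co.base).map f

theorem mem_A (h : Ctx S f w u s) {g : G} : g ∈ h.A ↔ ∃ a b c d, g = f (u a b, u c d) := by
  constructor
  · rintro ⟨⟨x, y⟩, hxy, rfl⟩
    rw [SetLike.mem_coe, Subgroup.mem_prod] at hxy
    obtain ⟨⟨a, b, hx⟩, ⟨c, d, hy⟩⟩ := hxy
    refine ⟨a, b, c, d, ?_⟩
    show f (x, y) = _
    have hx' : x = u a b := hx
    have hy' : y = u c d := hy
    rw [hx', hy']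
  · rintro ⟨a, b, c, d, rfl⟩
    exact ⟨(u a b, u c d), Subgroup.mem_prod.2 ⟨h.co.u_mem_base a b, h.co.u_mem_base c d⟩, rfl⟩

theorem f_mem_A (h : Ctx S f w u s) (a b c d : ZMod (2 ^ n)) : f (u a b, u c d) ∈ h.A :=
  h.mem_A.2 ⟨a, b, c, d, rfl⟩

theorem A_comm (h : Ctx S f w u s) {x y : G} (hx : x ∈ h.A) (hy : y ∈ h.A) : x * y = y * x := by
  obtain ⟨a, b, c, d, rfl⟩ := h.mem_A.1 hx
  obtain ⟨a', b', c', d', rfl⟩ := h.mem_A.1 hy
  rw [h.wr.f_comm_f_iff]
  exact ⟨h.co.u_comm _ _ _ _, h.co.u_comm _ _ _ _⟩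

theorem A_le (h : Ctx S f w u s) : h.A ≤ (S : Subgroup G) := by
  intro x hx
  obtain ⟨a, b, c, d, rfl⟩ := h.mem_A.1 hx
  exact h.wr.mem _

theorem A_isPGroup (h : Ctx S f w u s) : IsPGroup 2 h.A := S.isPGroup'.to_le h.A_le

theorem weak' (h : Ctx S f w u s) {g : G} (hg : ∀ x ∈ h.A, g * x * g⁻¹ ∈ (S : Subgroup G)) :
    ∀ x ∈ h.A, g * x * g⁻¹ ∈ h.A := by
  intro x hx
  obtain ⟨a, b, c, d, rfl⟩ := h.mem_A.1 hx
  exact h.mem_A.2 (h.weak g (fun a b c d => hg _ (h.f_mem_A a b c d)) a b c d)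

variable [Finite G]

/-- conjugation by `g` mapping `K` into `K` maps `K` onto `K`. -/
theorem conj_inv_mem {K : Subgroup G} {g : G} (hg : ∀ x ∈ K, g * x * g⁻¹ ∈ K) :
    ∀ x ∈ K, g⁻¹ * x * g ∈ K := by
  let φ : K → K := fun x => ⟨g * x * g⁻¹, hg x x.2⟩
  have hφ : Function.Injective φ := by
    intro x y hxy
    have h1 : g * (x : G) * g⁻¹ = g * y * g⁻¹ := congrArg Subtype.val hxy
    exact Subtype.ext (mul_left_cancel (mul_right_cancel h1))
  have hφ' : Function.Surjective φ := Finite.surjective_of_injective hφ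
  intro x hx
  obtain ⟨y, hy⟩ := hφ' ⟨x, hx⟩
  have h1 : g * (y : G) * g⁻¹ = x := congrArg Subtype.val hy
  have h2 : g⁻¹ * x * g = y := by
    rw [← h1]
    group
  rw [h2]
  exact y.2

/-- A 2-subgroup containing `A` lies in a conjugate of `S` by an element of `N(A)`. -/
theorem exists_norm (h : Ctx S f w u s) {P : Subgroup G} (hP : IsPGroup 2 P) (hAP : h.A ≤ P) :
    ∃ x : G, (∀ a ∈ h.A, x * a * x⁻¹ ∈ h.A) ∧ (∀ a ∈ h.A, x⁻¹ * a * x ∈ h.A) ∧
      ∀ p ∈ P, x⁻¹ * p * x ∈ (S : Subgroup G) := by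
  have : Fact (Nat.Prime 2) := ⟨Nat.prime_two⟩
  obtain ⟨Q, hQ⟩ := hP.exists_le_sylow
  obtain ⟨x, hx⟩ := MulAction.exists_smul_eq G S Q
  have h1 : ∀ p ∈ P, x⁻¹ * p * x ∈ (S : Subgroup G) := by
    intro p hp
    have h2 := hQ hp
    rw [← hx, Sylow.coe_subgroup_smul, Subgroup.mem_pointwise_smul_iff_inv_smul_mem] at h2
    rwa [← map_inv, MulAut.smul_def, MulAut.conj_apply, inv_inv] at h2
  have h2 : ∀ a ∈ h.A, x⁻¹ * a * x ∈ h.A := by
    intro a ha
    have h3 := h.weak' (g := x⁻¹) (fun y hy => by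
      rw [inv_inv]
      exact h1 y (hAP hy)) a ha
    rwa [inv_inv] at h3
  refine ⟨x, ?_, h2, h1⟩
  have h3 := conj_inv_mem (K := h.A) (g := x⁻¹) (fun y hy => by
    rw [inv_inv]
    exact h2 y hy)
  intro a ha
  have h4 := h3 a ha
  rwa [inv_inv] at h4

/-- `N_G(A)` controls fusion in `A`. -/
theorem control (h : Ctx S f w u s) {X : Set G} (hX : ∀ x ∈ X, x ∈ h.A) {g : G}
    (hg : ∀ x ∈ X, g * x * g⁻¹ ∈ h.A) :
    ∃ η : G, (∀ a ∈ h.A, η * a * η⁻¹ ∈ h.A) ∧ ∀ x ∈ X, η * x * η⁻¹ = g * x * g⁻¹ := by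
  have : Fact (Nat.Prime 2) := ⟨Nat.prime_two⟩
  let C : Subgroup G := Subgroup.centralizer ((fun x => g * x * g⁻¹) '' X)
  have hAC : h.A ≤ C := by
    intro a ha
    rw [Subgroup.mem_centralizer_iff]
    rintro _ ⟨x, hx, rfl⟩
    exact h.A_comm (hg x hx) ha
  let A' : Subgroup G := h.A.map (MulAut.conj g).toMonoidHom
  have hA'C : A' ≤ C := by
    rintro _ ⟨a, ha, rfl⟩
    rw [Subgroup.mem_centralizer_iff]
    rintro _ ⟨x, hx, rfl⟩
    show g * x * g⁻¹ * (g * a * g⁻¹) = g * a * g⁻¹ * (g * x * g⁻¹)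
    have h1 := h.A_comm (hX x hx) ha
    calc g * x * g⁻¹ * (g * a * g⁻¹) = g * (x * a) * g⁻¹ := by group
      _ = g * (a * x) * g⁻¹ := by rw [h1]
      _ = g * a * g⁻¹ * (g * x * g⁻¹) := by group
  have hA1 : IsPGroup 2 (h.A.subgroupOf C) :=
    h.A_isPGroup.comap_of_injective C.subtype C.subtype_injective
  have hA2 : IsPGroup 2 (A'.subgroupOf C) :=
    (h.A_isPGroup.map _).comap_of_injective C.subtype C.subtype_injective
  obtain ⟨R₁, hR₁⟩ := hA1.exists_le_sylow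
  obtain ⟨R₂, hR₂⟩ := hA2.exists_le_sylow
  obtain ⟨c, hc⟩ := MulAction.exists_smul_eq C R₁ R₂
  -- `c⁻¹ A' c ≤ R₁`
  have h1 : ∀ a ∈ h.A, (c : G)⁻¹ * (g * a * g⁻¹) * c ∈ (R₁ : Subgroup C).map C.subtype := by
    intro a ha
    have h2 : (⟨g * a * g⁻¹, hA'C ⟨a, ha, rfl⟩⟩ : C) ∈ (R₂ : Subgroup C) :=
      hR₂ (show (g * a * g⁻¹) ∈ A' from ⟨a, ha, rfl⟩)
    rw [← hc, Sylow.coe_subgroup_smul, Subgroup.mem_pointwise_smul_iff_inv_smul_mem] at h2
    rw [← map_inv, MulAut.smul_def, MulAut.conj_apply, inv_inv] at h2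
    exact ⟨_, h2, rfl⟩
  have hR₁p : IsPGroup 2 ((R₁ : Subgroup C).map C.subtype) := R₁.isPGroup'.map _
  have hAR₁ : h.A ≤ (R₁ : Subgroup C).map C.subtype := by
    intro a ha
    exact ⟨⟨a, hAC ha⟩, hR₁ (show a ∈ h.A from ha), rfl⟩
  obtain ⟨x, hx1, hx2, hx3⟩ := h.exists_norm hR₁p hAR₁
  have h3 : ∀ a ∈ h.A, (x⁻¹ * (c : G)⁻¹ * g) * a * (x⁻¹ * (c : G)⁻¹ * g)⁻¹ ∈ h.A := by
    apply h.weak'
    intro a ha
    have h4 := hx3 _ (h1 a ha)
    have h5 : (x⁻¹ * (c : G)⁻¹ * g) * a * (x⁻¹ * (c : G)⁻¹ * g)⁻¹ =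
        x⁻¹ * ((c : G)⁻¹ * (g * a * g⁻¹) * c) * x := by group
    rwa [h5]
  refine ⟨(c : G)⁻¹ * g, ?_, ?_⟩
  · intro a ha
    have h4 := hx1 _ (h3 a ha)
    have h5 : x * ((x⁻¹ * (c : G)⁻¹ * g) * a * (x⁻¹ * (c : G)⁻¹ * g)⁻¹) * x⁻¹ =
        ((c : G)⁻¹ * g) * a * ((c : G)⁻¹ * g)⁻¹ := by group
    rwa [h5] at h4
  · intro y hy
    have h4 := c.2
    rw [Subgroup.mem_centralizer_iff] at h4
    have h5 := h4 (g * y * g⁻¹) ⟨y, hy, rfl⟩
    calc (c : G)⁻¹ * g * y * ((c : G)⁻¹ * g)⁻¹ = (c : G)⁻¹ * (g * y * g⁻¹ * c) := by group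
      _ = (c : G)⁻¹ * (c * (g * y * g⁻¹)) := by rw [h5]
      _ = g * y * g⁻¹ := by group

end Ctx

end Cfsg.Agent.TypeLFive.WRho
end

-- part: TypeLFive/WRhoSylow
section
/-!
# S0511, wreathed case: `T = W₁ × W₂` is a Sylow 2-subgroup of `C_G(D)⟨s₂⟩`, `D = Z(W₁) × A₀(2)`
-/

set_option autoImplicit false

namespace Cfsg.Agent.TypeLFive.WRho

open Cfsg.Agent.TypeLFive.Model Cfsg.Agent.TwoFusion.QDBasic Cfsg.Agent.TwoFusion.WreathedBasic
open scoped Pointwise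

variable {G W : Type*} [Group G] [Group W] {S : Sylow 2 G} {f : W × W →* G} {w : G} {n : ℕ}
  {u : ZMod (2 ^ n) → ZMod (2 ^ n) → W} {s : W}

/-- `g` centralises `D = Z(W₁) × A₀(2)`. -/
def Cen (f : W × W →* G) (u : ZMod (2 ^ n) → ZMod (2 ^ n) → W) (g : G) : Prop :=
  ∀ a c e, SemiconjBy g (f (u a a, u c e)) (f (u a a, u c e))

/-- `g` acts on `D` as `s₂`. -/
def Sw (f : W × W →* G) (u : ZMod (2 ^ n) → ZMod (2 ^ n) → W) (g : G) : Prop :=
  ∀ a c e, SemiconjBy g (f (u a a, u c e)) (f (u a a, u e c))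

theorem Cen.mul {g k : G} (hg : Cen f u g) (hk : Cen f u k) : Cen f u (g * k) :=
  fun a c e => (hg a c e).mul_left (hk a c e)

theorem Sw.mul {g k : G} (hg : Sw f u g) (hk : Sw f u k) : Cen f u (g * k) :=
  fun a c e => (hg a e c).mul_left (hk a c e)

theorem Cen.mul_sw {g k : G} (hg : Cen f u g) (hk : Sw f u k) : Sw f u (g * k) :=
  fun a c e => (hg a e c).mul_left (hk a c e)

theorem Sw.mul_cen {g k : G} (hg : Sw f u g) (hk : Cen f u k) : Sw f u (g * k) :=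
  fun a c e => (hg a c e).mul_left (hk a c e)

theorem Cen.inv {g : G} (hg : Cen f u g) : Cen f u g⁻¹ := fun a c e => (hg a c e).inv_symm_left

theorem Sw.inv {g : G} (hg : Sw f u g) : Sw f u g⁻¹ := fun a c e => (hg a e c).inv_symm_left

theorem Cen.one : Cen f u (1 : G) := fun a c e => SemiconjBy.one_left _

/-- `Y⁺ = C_G(D)⟨s₂⟩` -/
def Yp (f : W × W →* G) (u : ZMod (2 ^ n) → ZMod (2 ^ n) → W) : Subgroup G where
  carrier := {g | Cen f u g ∨ Sw f u g}
  one_mem' := Or.inl Cen.one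
  mul_mem' := by
    rintro a b (ha | ha) (hb | hb)
    · exact Or.inl (ha.mul hb)
    · exact Or.inr (ha.mul_sw hb)
    · exact Or.inr (ha.mul_cen hb)
    · exact Or.inl (ha.mul hb)
  inv_mem' := by
    rintro a (ha | ha)
    · exact Or.inl ha.inv
    · exact Or.inr ha.inv

theorem cen_sq {g : G} (hg : g ∈ Yp f u) : Cen f u (g * g) := by
  rcases hg with h | h
  · exact h.mul h
  · exact h.mul h

namespace Ctx

variable (h : Ctx S f w u s)
include h

theorem semi_iff (x y a b a' b' : W) :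
    SemiconjBy (f (x, y)) (f (a, b)) (f (a', b')) ↔ x * a = a' * x ∧ y * b = b' * y := by
  rw [SemiconjBy, h.wr.f_mul_f, h.wr.f_mul_f, h.wr.f_eq_iff, Prod.mk.injEq]

theorem cen_f {x y : W} (hy : y ∈ h.co.base) : Cen f u (f (x, y)) := by
  intro a c e
  obtain ⟨p, q, rfl⟩ := hy
  rw [h.semi_iff]
  refine ⟨?_, h.co.u_comm _ _ _ _⟩
  rcases h.co.cases x with ⟨a', b', rfl⟩ | ⟨a', b', rfl⟩
  · exact h.co.u_comm _ _ _ _
  · rw [h.co.uz_mul_u, h.co.u_mul_uz, add_comm a', add_comm b']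

theorem sw_f {x y : W} (hy : y ∉ h.co.base) : Sw f u (f (x, y)) := by
  intro a c e
  obtain ⟨p, q, rfl⟩ := (h.co.not_mem_base y).1 hy
  rw [h.semi_iff]
  refine ⟨?_, ?_⟩
  · rcases h.co.cases x with ⟨a', b', rfl⟩ | ⟨a', b', rfl⟩
    · exact h.co.u_comm _ _ _ _
    · rw [h.co.uz_mul_u, h.co.u_mul_uz, add_comm a', add_comm b']
  · rw [h.co.uz_mul_u, h.co.u_mul_uz, add_comm p, add_comm q]

theorem range_le_Yp : f.range ≤ Yp f u := by
  rintro _ ⟨⟨x, y⟩, rfl⟩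
  by_cases hy : y ∈ h.co.base
  · exact Or.inl (h.cen_f hy)
  · exact Or.inr (h.sw_f hy)

theorem A_le_range : h.A ≤ f.range := by
  intro g hg
  obtain ⟨a, b, c, d, rfl⟩ := h.mem_A.1 hg
  exact ⟨_, rfl⟩

theorem range_isPGroup : IsPGroup 2 f.range := S.isPGroup'.to_le h.wr.range_le

theorem card_le [Finite G] : Nat.card (S : Subgroup G) ≤ 2 * Nat.card f.range := by
  let φ : f.range × Bool → (S : Subgroup G) := fun p =>
    ⟨p.1 * (if p.2 then w else 1), (S : Subgroup G).mul_mem (h.wr.range_le p.1.2) (by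
      split_ifs
      · exact h.wr.w_mem
      · exact (S : Subgroup G).one_mem)⟩
  have hφ : Function.Surjective φ := by
    rintro ⟨g, hg⟩
    rcases h.wr.cases g hg with ⟨x, y, rfl⟩ | ⟨x, y, rfl⟩
    · exact ⟨(⟨f (x, y), _, rfl⟩, false), Subtype.ext (by simp [φ])⟩
    · exact ⟨(⟨f (x, y), _, rfl⟩, true), Subtype.ext (by simp [φ])⟩
  have h1 := Nat.card_le_card_of_surjective φ hφ
  rw [Nat.card_prod] at h1
  have h2 : Nat.card Bool = 2 := by simp
  rw [h2, mul_comm] at h1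
  exact h1

/-- an element of `A` commuting with `f (s, s)`. -/
theorem of_comm_ss {y : G} (hy : y ∈ h.A) (hc : f (s, s) * y = y * f (s, s)) :
    ∃ a c, y = f (u a a, u c c) := by
  obtain ⟨a, b, c, d, rfl⟩ := h.mem_A.1 hy
  rw [h.wr.f_comm_f_iff, h.co.z_u, h.co.z_u] at hc
  have h1 := h.co.u_inj _ _ _ _ (mul_right_cancel hc.1)
  have h2 := h.co.u_inj _ _ _ _ (mul_right_cancel hc.2)
  exact ⟨a, c, by rw [h1.1, h2.1]⟩

variable [Finite G]

/-- `T` is a Sylow 2-subgroup of `Y⁺`. -/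
theorem le_range {P : Subgroup G} (hP : IsPGroup 2 P) (hTP : f.range ≤ P) (hPY : P ≤ Yp f u) :
    P ≤ f.range := by
  by_contra hcon
  obtain ⟨x, hx1, hx2, hx3⟩ := h.exists_norm hP (h.A_le_range.trans hTP)
  -- `x⁻¹ P x = S`
  have hlt : Nat.card f.range < Nat.card P := by
    rcases (Subgroup.card_le_of_le hTP).lt_or_eq with h1 | h1
    · exact h1
    · exact absurd (Subgroup.eq_of_le_of_card_ge hTP h1.ge).ge hcon
  have h2 : 2 * Nat.card f.range ≤ Nat.card P := by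
    obtain ⟨k, hk⟩ := Subgroup.card_dvd_of_le hTP
    rcases k with _ | _ | k
    · omega
    · omega
    · rw [hk]
      nlinarith only []
  let P' : Subgroup G := P.map (MulAut.conj x⁻¹).toMonoidHom
  have hP'S : P' ≤ (S : Subgroup G) := by
    rintro _ ⟨p, hp, rfl⟩
    have h3 := hx3 p hp
    show x⁻¹ * p * x⁻¹⁻¹ ∈ (S : Subgroup G)
    rwa [inv_inv]
  have hP'c : Nat.card P' = Nat.card P :=
    Nat.card_congr (P.equivMapOfInjective _ (MulAut.conj x⁻¹).injective).symm.toEquiv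
  have hP'eq : P' = (S : Subgroup G) := by
    apply Subgroup.eq_of_le_of_card_ge hP'S
    rw [hP'c]
    exact h.card_le.trans h2
  -- the element `f (1, s) w`
  have h3 : f (1, s) * w ∈ P' := by
    rw [hP'eq]
    exact h.wr.fw_mem _
  obtain ⟨p, hp, hpe⟩ := h3
  have hpe' : x⁻¹ * p * x = f (1, s) * w := by
    have : x⁻¹ * p * x⁻¹⁻¹ = f (1, s) * w := hpe
    rwa [inv_inv] at this
  have hp2 : p * p = x * f (s, s) * x⁻¹ := by
    have h4 : f (1, s) * w * (f (1, s) * w) = f (s, s) := by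
      rw [h.wr.fw_mul_fw, one_mul, mul_one]
    rw [← h4, ← hpe']
    group
  have hcen : Cen f u (x * f (s, s) * x⁻¹) := by
    rw [← hp2]
    exact cen_sq (hPY hp)
  have h5 : ∀ a c e, ∃ a' c', x⁻¹ * f (u a a, u c e) * x = f (u a' a', u c' c') := by
    intro a c e
    apply h.of_comm_ss (hx2 _ (h.f_mem_A _ _ _ _))
    have h6 : x * f (s, s) * x⁻¹ * f (u a a, u c e) = f (u a a, u c e) * (x * f (s, s) * x⁻¹) :=
      hcen a c e
    calc f (s, s) * (x⁻¹ * f (u a a, u c e) * x) =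
        x⁻¹ * (x * f (s, s) * x⁻¹ * f (u a a, u c e)) * x := by group
      _ = x⁻¹ * (f (u a a, u c e) * (x * f (s, s) * x⁻¹)) * x := by rw [h6]
      _ = x⁻¹ * f (u a a, u c e) * x * f (s, s) := by group
  choose α β hαβ using h5
  let ψ : ZMod (2 ^ n) × ZMod (2 ^ n) × ZMod (2 ^ n) → ZMod (2 ^ n) × ZMod (2 ^ n) :=
    fun p => (α p.1 p.2.1 p.2.2, β p.1 p.2.1 p.2.2)
  have hψ : Function.Injective ψ := by
    rintro ⟨a, c, e⟩ ⟨a', c', e'⟩ hp
    have h6 : α a c e = α a' c' e' := congrArg Prod.fst hp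
    have h7 : β a c e = β a' c' e' := congrArg Prod.snd hp
    have h8 : x⁻¹ * f (u a a, u c e) * x = x⁻¹ * f (u a' a', u c' e') * x := by
      rw [hαβ, hαβ, h6, h7]
    have h9 := mul_left_cancel (mul_right_cancel h8)
    rw [h.wr.f_eq_iff, Prod.mk.injEq, h.co.u_eq_iff, h.co.u_eq_iff] at h9
    rw [h9.1.1, h9.2.1, h9.2.2]
  have hcard := Nat.card_le_card_of_injective ψ hψ
  rw [Nat.card_prod, Nat.card_prod, Nat.card_zmod] at hcard
  have h10 : 2 ≤ 2 ^ n := by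
    calc 2 = 2 ^ 1 := rfl
      _ ≤ 2 ^ n := Nat.pow_le_pow_right (by norm_num) h.co.one_le
  linarith only [hcard, Nat.mul_le_mul h10 (le_refl (2 ^ n * 2 ^ n)), Nat.mul_pos (Nat.pos_of_ne_zero (by positivity : (2:ℕ) ^ n ≠ 0)) (Nat.pos_of_ne_zero (by positivity : (2:ℕ) ^ n ≠ 0))]

end Ctx

end Cfsg.Agent.TypeLFive.WRho
end

-- part: TypeLFive/WRhoMove
section
/-!
# S0511, wreathed case: moving `y (P₁ × W₂) y⁻¹` into `T`
-/

set_option autoImplicit false

namespace Cfsg.Agent.TypeLFive.WRho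

open Cfsg.Agent.TypeLFive.Model Cfsg.Agent.TwoFusion.QDBasic Cfsg.Agent.TwoFusion.WreathedBasic
open scoped Pointwise

variable {G W : Type*} [Group G] [Group W] {S : Sylow 2 G} {f : W × W →* G} {w : G} {n : ℕ}
  {u : ZMod (2 ^ n) → ZMod (2 ^ n) → W} {s : W}

namespace Ctx

/-- `Ω₁(Z(T))` -/
def Z0 (h : Ctx S f w u s) : Subgroup G where
  carrier := {g | ∃ i j, i + i = 0 ∧ j + j = 0 ∧ g = f (u i i, u j j)}
  one_mem' := ⟨0, 0, add_zero 0, add_zero 0, by rw [h.co.u_zero]; exact (map_one f).symm⟩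
  mul_mem' := by
    rintro _ _ ⟨i, j, hi, hj, rfl⟩ ⟨i', j', hi', hj', rfl⟩
    refine ⟨i + i', j + j', ?_, ?_, ?_⟩
    · rw [add_add_add_comm, hi, hi', add_zero]
    · rw [add_add_add_comm, hj, hj', add_zero]
    · rw [h.wr.f_mul_f, h.co.u_mul, h.co.u_mul]
  inv_mem' := by
    rintro _ ⟨i, j, hi, hj, rfl⟩
    refine ⟨-i, -j, ?_, ?_, ?_⟩
    · rw [← neg_add, hi, neg_zero]
    · rw [← neg_add, hj, neg_zero]
    · rw [← map_inv, Prod.inv_mk, h.co.u_inv, h.co.u_inv]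

theorem comm_Z0 (h : Ctx S f w u s) {g z : G} (hg : g ∈ Yp f u) (hz : z ∈ h.Z0) : g * z * g⁻¹ = z := by
  obtain ⟨i, j, hi, hj, rfl⟩ := hz
  rcases hg with hg | hg
  · rw [(hg i j j).eq, mul_inv_cancel_right]
  · rw [(hg i j j).eq, mul_inv_cancel_right]

/-- `M⁺`: the elements of `Y⁺` centralising `v` modulo `Z0`. -/
def Mp (h : Ctx S f w u s) (v : G) : Subgroup G where
  carrier := {g | g ∈ Yp f u ∧ g * v * g⁻¹ * v⁻¹ ∈ h.Z0}
  one_mem' := ⟨Subgroup.one_mem _, by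
    have : (1 : G) * v * 1⁻¹ * v⁻¹ = 1 := by group
    rw [this]
    exact h.Z0.one_mem⟩
  mul_mem' := by
    rintro a b ⟨ha, ha'⟩ ⟨hb, hb'⟩
    refine ⟨(Yp f u).mul_mem ha hb, ?_⟩
    have h1 : a * b * v * (a * b)⁻¹ * v⁻¹ = a * (b * v * b⁻¹ * v⁻¹) * a⁻¹ * (a * v * a⁻¹ * v⁻¹) := by group
    rw [h1, h.comm_Z0 ha hb']
    exact h.Z0.mul_mem hb' ha'
  inv_mem' := by
    rintro a ⟨ha, ha'⟩
    refine ⟨(Yp f u).inv_mem ha, ?_⟩
    have h1 : a⁻¹ * v * a⁻¹⁻¹ * v⁻¹ = a⁻¹ * (a * v * a⁻¹ * v⁻¹)⁻¹ * a⁻¹⁻¹ := by group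
    rw [h1, h.comm_Z0 ((Yp f u).inv_mem ha) (h.Z0.inv_mem ha')]
    exact h.Z0.inv_mem ha'

variable (h : Ctx S f w u s)
include h

omit [Group G] [Group W] h in
theorem neg_self' {a : ZMod (2 ^ n)} (ha : a + a = 0) : -a = a := by
  exact neg_eq_of_add_eq_zero_left ha

/-- commutator of an element of `W` with an involution of the base -/
theorem comm_base (x : W) {a b : ZMod (2 ^ n)} (ha : a + a = 0) (hb : b + b = 0) :
    ∃ i, i + i = 0 ∧ x * u a b * x⁻¹ * (u a b)⁻¹ = u i i := by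
  rcases h.co.cases x with ⟨c, d, rfl⟩ | ⟨c, d, rfl⟩
  · refine ⟨0, add_zero 0, ?_⟩
    rw [h.co.u_conj_u, mul_inv_cancel, h.co.u_zero]
  · refine ⟨a + b, ?_, ?_⟩
    · rw [add_add_add_comm, ha, hb, add_zero]
    · rw [h.co.uz_conj_u, h.co.u_inv, h.co.u_mul, neg_self' ha, neg_self' hb, add_comm b a]

theorem range_le_Mp {a b c d : ZMod (2 ^ n)} (ha : a + a = 0) (hb : b + b = 0) (hc : c + c = 0)
    (hd : d + d = 0) : f.range ≤ h.Mp (f (u a b, u c d)) := by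
  rintro _ ⟨⟨x, y⟩, rfl⟩
  refine ⟨h.range_le_Yp ⟨_, rfl⟩, ?_⟩
  obtain ⟨i, hi, hi'⟩ := h.comm_base x ha hb
  obtain ⟨j, hj, hj'⟩ := h.comm_base y hc hd
  refine ⟨i, j, hi, hj, ?_⟩
  rw [← hi', ← hj', ← map_inv, ← map_inv, ← map_mul, ← map_mul, ← map_mul]
  rfl

variable [Finite G]

/-- Sylow's theorem in `M⁺`. -/
theorem exists_into_range {a b c d : ZMod (2 ^ n)} (ha : a + a = 0) (hb : b + b = 0) (hc : c + c = 0)
    (hd : d + d = 0) {V : Subgroup G} (hV : IsPGroup 2 V) (hVM : V ≤ h.Mp (f (u a b, u c d))) :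
    ∃ m ∈ h.Mp (f (u a b, u c d)), ∀ x ∈ V, m * x * m⁻¹ ∈ f.range := by
  have : Fact (Nat.Prime 2) := ⟨Nat.prime_two⟩
  set M := h.Mp (f (u a b, u c d)) with hM
  have hTM : f.range ≤ M := h.range_le_Mp ha hb hc hd
  have h1 : IsPGroup 2 (f.range.subgroupOf M) :=
    h.range_isPGroup.comap_of_injective M.subtype M.subtype_injective
  have h2 : IsPGroup 2 (V.subgroupOf M) := hV.comap_of_injective M.subtype M.subtype_injective
  obtain ⟨R₁, hR₁⟩ := h1.exists_le_sylow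
  obtain ⟨R₂, hR₂⟩ := h2.exists_le_sylow
  obtain ⟨m, hm⟩ := MulAction.exists_smul_eq M R₁ R₂
  -- `R₁ = T`
  have h3 : (R₁ : Subgroup M).map M.subtype ≤ f.range := by
    apply h.le_range (R₁.isPGroup'.map _)
    · intro x hx
      exact ⟨⟨x, hTM hx⟩, hR₁ (show x ∈ f.range from hx), rfl⟩
    · rintro _ ⟨x, _, rfl⟩
      exact x.2.1
  refine ⟨(m : G)⁻¹, M.inv_mem m.2, ?_⟩
  intro x hx
  have h4 : (⟨x, hVM hx⟩ : M) ∈ (R₂ : Subgroup M) := hR₂ (show x ∈ V from hx)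
  rw [← hm, Sylow.coe_subgroup_smul, Subgroup.mem_pointwise_smul_iff_inv_smul_mem] at h4
  rw [← map_inv, MulAut.smul_def, MulAut.conj_apply, inv_inv] at h4
  have h5 := h3 ⟨_, h4, rfl⟩
  rw [inv_inv]
  exact h5

/-- First form: `y` maps `(s,1)`, `(d,1)`, `(1,s)` into `T`. -/
theorem exists_y_aux {y₀ : G} (hy : Cen f u y₀) {a b c d : ZMod (2 ^ n)} (ha : a + a = 0) (hb : b + b = 0)
    (hc : c + c = 0) (hd : d + d = 0) (hs : SemiconjBy y₀ (f (s, 1)) (f (u a b, u c d)))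
    (hab : a = b + 2 ^ (n - 1)) :
    ∃ y : G, Cen f u y ∧ (∃ c' d', c' + c' = 0 ∧ d' + d' = 0 ∧
      SemiconjBy y (f (s, 1)) (f (u (2 ^ (n - 1)) 0, u c' d'))) ∧
      y * f (u (2 ^ (n - 1)) 0, 1) * y⁻¹ ∈ f.range ∧ y * f (1, s) * y⁻¹ ∈ f.range := by
  have hh : (2 : ZMod (2 ^ n)) ^ (n - 1) + 2 ^ (n - 1) = 0 := by
    rw [← two_mul]
    exact two_mul_half n h.co.one_le
  set hf : ZMod (2 ^ n) := 2 ^ (n - 1) with hhf
  set v : G := f (u a b, u c d) with hv
  let V : Subgroup G := (f.range).map (MulAut.conj y₀).toMonoidHom ⊓ h.Mp v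
  have hVp : IsPGroup 2 V := (h.range_isPGroup.map _).to_le inf_le_left
  obtain ⟨m, hm, hmV⟩ := h.exists_into_range ha hb hc hd hVp inf_le_right
  have hsv : y₀ * f (s, 1) * y₀⁻¹ = v := by rw [hs.eq, mul_inv_cancel_right]
  have hyY : y₀ ∈ Yp f u := Or.inl hy
  -- the elements
  have key : ∀ x : W × W, f x * f (s, 1) * (f x)⁻¹ * (f (s, 1))⁻¹ ∈ h.Z0 → y₀ * f x * y₀⁻¹ ∈ V := by
    intro x hx
    refine ⟨⟨f x, ⟨x, rfl⟩, rfl⟩, ?_, ?_⟩
    · exact (Yp f u).mul_mem ((Yp f u).mul_mem hyY (h.range_le_Yp ⟨x, rfl⟩)) ((Yp f u).inv_mem hyY)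
    · rw [← hsv]
      have h1 : y₀ * f x * y₀⁻¹ * (y₀ * f (s, 1) * y₀⁻¹) * (y₀ * f x * y₀⁻¹)⁻¹ * (y₀ * f (s, 1) * y₀⁻¹)⁻¹ =
          y₀ * (f x * f (s, 1) * (f x)⁻¹ * (f (s, 1))⁻¹) * y₀⁻¹ := by group
      rw [h1, h.comm_Z0 hyY hx]
      exact hx
  have k1 : y₀ * f (s, 1) * y₀⁻¹ ∈ V := key _ (by
    rw [mul_inv_cancel_right, mul_inv_cancel]
    exact h.Z0.one_mem)
  have k2 : y₀ * f (u hf 0, 1) * y₀⁻¹ ∈ V := key _ (by
    refine ⟨hf, 0, hh, add_zero 0, ?_⟩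
    rw [← map_inv, ← map_inv, ← map_mul, ← map_mul, ← map_mul, h.wr.f_eq_iff]
    apply Prod.ext
    · show u hf 0 * s * (u hf 0)⁻¹ * s⁻¹ = u hf hf
      rw [h.co.z_inv, h.co.u_inv, mul_assoc (u hf 0), h.co.z_u, ← mul_assoc, h.co.u_mul, mul_assoc, h.co.z_z,
        mul_one, neg_zero, add_zero, zero_add, neg_self' hh]
    · show (1 : W) * 1 * 1⁻¹ * 1⁻¹ = u 0 0
      rw [h.co.u_zero]
      simp)
  have k3 : y₀ * f (1, s) * y₀⁻¹ ∈ V := key _ (by
    refine ⟨0, 0, add_zero 0, add_zero 0, ?_⟩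
    rw [← map_inv, ← map_inv, ← map_mul, ← map_mul, ← map_mul, h.wr.f_eq_iff]
    apply Prod.ext
    · show (1 : W) * s * 1⁻¹ * s⁻¹ = u 0 0
      rw [h.co.u_zero]
      simp
    · show s * 1 * s⁻¹ * 1⁻¹ = u 0 0
      rw [h.co.u_zero]
      simp)
  -- WLOG `m` centralises `D`
  obtain ⟨m', hm'c, hm'M, hm'V⟩ : ∃ m', Cen f u m' ∧ m' ∈ h.Mp v ∧ ∀ x ∈ V, m' * x * m'⁻¹ ∈ f.range := by
    rcases hm.1 with h1 | h1
    · exact ⟨m, h1, hm, hmV⟩
    · refine ⟨f (1, s) * m, (h.sw_f h.co.z_not_mem_base).mul h1, (h.Mp v).mul_mem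
        (h.range_le_Mp ha hb hc hd ⟨_, rfl⟩) hm, ?_⟩
      intro x hx
      have h2 : f (1, s) * m * x * (f (1, s) * m)⁻¹ = f (1, s) * (m * x * m⁻¹) * (f (1, s))⁻¹ := by group
      rw [h2]
      exact f.range.mul_mem (f.range.mul_mem ⟨_, rfl⟩ (hmV x hx)) (f.range.inv_mem ⟨_, rfl⟩)
  -- the image of `(s,1)`
  obtain ⟨i, j, hi, hj, hij⟩ := hm'M.2
  have hmv : m' * v * m'⁻¹ = f (u (i + a) (i + b), u (j + c) (j + d)) := by
    have h1 : m' * v * m'⁻¹ = (m' * v * m'⁻¹ * v⁻¹) * v := by group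
    rw [h1, hij, hv, h.wr.f_mul_f, h.co.u_mul, h.co.u_mul]
  have h0 : i + b + (i + b) = 0 := by rw [add_add_add_comm, hi, hb, add_zero]
  have h0c : j + c + (j + c) = 0 := by rw [add_add_add_comm, hj, hc, add_zero]
  have h0d : j + d + (j + d) = 0 := by rw [add_add_add_comm, hj, hd, add_zero]
  have hib : i + b = 0 ∨ i + b = hf := (two_mul_eq_zero_iff n h.co.one_le _).1 (by rw [two_mul]; exact h0)
  have hia : i + a = (i + b) + hf := by rw [hab]; ring
  have hgen : ∀ x : G, m' * y₀ * x * (m' * y₀)⁻¹ = m' * (y₀ * x * y₀⁻¹) * m'⁻¹ := by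
    intro x
    group
  rcases hib with h1 | h1
  · refine ⟨m' * y₀, hm'c.mul hy, ⟨j + c, j + d, h0c, h0d, ?_⟩, ?_, ?_⟩
    · apply SemiconjBy.mul_left _ hs
      rw [hia, h1, zero_add] at hmv
      show m' * v = _ * m'
      rw [← hmv]
      group
    · rw [hgen]
      exact hm'V _ k2
    · rw [hgen]
      exact hm'V _ k3
  · have hc1 : Cen f u (f (s, 1)) := h.cen_f (h.co.base.one_mem)
    have hgen' : ∀ x : G, f (s, 1) * (m' * y₀) * x * (f (s, 1) * (m' * y₀))⁻¹ =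
        f (s, 1) * (m' * (y₀ * x * y₀⁻¹) * m'⁻¹) * (f (s, 1))⁻¹ := by
      intro x
      group
    refine ⟨f (s, 1) * (m' * y₀), hc1.mul (hm'c.mul hy), ⟨j + c, j + d, h0c, h0d, ?_⟩, ?_, ?_⟩
    · have h2 : SemiconjBy (m' * y₀) (f (s, 1)) (f (u 0 hf, u (j + c) (j + d))) := by
        apply SemiconjBy.mul_left _ hs
        rw [hia, h1, hh] at hmv
        show m' * v = _ * m'
        rw [← hmv]
        group
      refine SemiconjBy.mul_left ?_ h2
      rw [h.semi_iff]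
      exact ⟨h.co.z_u _ _, by rw [one_mul, mul_one]⟩
    · rw [hgen']
      exact f.range.mul_mem (f.range.mul_mem ⟨_, rfl⟩ (hm'V _ k2)) (f.range.inv_mem ⟨_, rfl⟩)
    · rw [hgen']
      exact f.range.mul_mem (f.range.mul_mem ⟨_, rfl⟩ (hm'V _ k3)) (f.range.inv_mem ⟨_, rfl⟩)

/-- Final form of `y`. -/
theorem exists_y {y₀ : G} (hy : Cen f u y₀) {a b c d : ZMod (2 ^ n)} (ha : a + a = 0) (hb : b + b = 0)
    (hc : c + c = 0) (hd : d + d = 0) (hs : SemiconjBy y₀ (f (s, 1)) (f (u a b, u c d)))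
    (hab : a = b + 2 ^ (n - 1)) :
    ∃ (y : G) (i j k : ZMod (2 ^ n)), Cen f u y ∧ i + i = 0 ∧ j + j = 0 ∧ k + k = 0 ∧
      SemiconjBy y (f (s, 1)) (f (u (2 ^ (n - 1)) 0, u i i)) ∧
      SemiconjBy y (f (u (2 ^ (n - 1)) 0, 1)) (f (s, u j j)) ∧
      SemiconjBy y (f (1, s)) (f (u k k, s)) := by
  have hh : (2 : ZMod (2 ^ n)) ^ (n - 1) + 2 ^ (n - 1) = 0 := by
    rw [← two_mul]
    exact two_mul_half n h.co.one_le
  have hh0 : (2 : ZMod (2 ^ n)) ^ (n - 1) ≠ 0 := half_ne_zero n h.co.one_le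
  obtain ⟨y, hyc, ⟨c', d', hc', hd', hys⟩, ⟨⟨x5, x6⟩, hyd⟩, ⟨⟨x3, x4⟩, hyt⟩⟩ :=
    h.exists_y_aux hy ha hb hc hd hs hab
  generalize hf_eq : (2 : ZMod (2 ^ n)) ^ (n - 1) = e at *
  have syd : SemiconjBy y (f (u e 0, 1)) (f (x5, x6)) := by
    show y * _ = _ * y
    rw [hyd]
    group
  have syt : SemiconjBy y (f (1, s)) (f (x3, x4)) := by
    show y * _ = _ * y
    rw [hyt]
    group
  -- transport of relations
  have trans : ∀ {a₁ a₂ b₁ b₂ : G}, SemiconjBy y a₁ b₁ → SemiconjBy y a₂ b₂ → a₁ = a₂ → b₁ = b₂ := by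
    intro a₁ a₂ b₁ b₂ h1 h2 h3
    have h4 : b₁ * y = b₂ * y := by rw [← h1.eq, ← h2.eq, h3]
    exact mul_right_cancel h4
  -- `x6 ∈ base`, from commuting with `D`
  have hx6c : ∀ p q, x6 * u p q = u p q * x6 := by
    intro p q
    have h1 := trans (syd.mul_right (hyc 0 p q)) ((hyc 0 p q).mul_right syd) (by
      rw [h.wr.f_mul_f, h.wr.f_mul_f, h.co.u_mul, h.co.u_mul, one_mul, mul_one]
      congr 3 <;> ring)
    rw [h.wr.f_mul_f, h.wr.f_mul_f, h.wr.f_eq_iff, Prod.mk.injEq] at h1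
    exact h1.2
  have hx6b : ∃ p q, x6 = u p q := by
    rcases h.co.cases x6 with h1 | ⟨p, q, rfl⟩
    · exact h1
    · exfalso
      have h2 := hx6c e 0
      rw [h.co.uz_mul_u, h.co.u_mul_uz] at h2
      have h3 := (h.co.u_inj _ _ _ _ (mul_right_cancel h2)).1
      apply hh0
      have : p + 0 = e + p := h3
      linear_combination -this
  obtain ⟨p6, q6, rfl⟩ := hx6b
  -- `x4` acts as `s`
  have hx4c : ∀ p q, x4 * u p q = u q p * x4 := by
    intro p q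
    have h1 := trans (syt.mul_right (hyc 0 p q)) ((hyc 0 q p).mul_right syt) (by
      rw [h.wr.f_mul_f, h.wr.f_mul_f, h.co.z_u, h.co.u_zero])
    rw [h.wr.f_mul_f, h.wr.f_mul_f, h.wr.f_eq_iff, Prod.mk.injEq] at h1
    exact h1.2
  have hx4b : ∃ p q, x4 = u p q * s := by
    rcases h.co.cases x4 with ⟨p, q, rfl⟩ | h1
    · exfalso
      have h2 := hx4c e 0
      rw [h.co.u_mul, h.co.u_mul] at h2
      have h3 := (h.co.u_inj _ _ _ _ h2).1
      apply hh0
      linear_combination h3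
    · exact h1
  obtain ⟨p4, q4, rfl⟩ := hx4b
  -- `(s,1)` commutes with `(1,s)`
  have r1 := trans (hys.mul_right syt) (syt.mul_right hys) (by
    rw [h.wr.f_mul_f, h.wr.f_mul_f]
    simp only [one_mul, mul_one])
  rw [h.wr.f_mul_f, h.wr.f_mul_f, h.wr.f_eq_iff, Prod.mk.injEq] at r1
  -- `c' = d'`
  have hcd : d' = c' := by
    have h2 := r1.2
    rw [h.co.u_mul_uz, h.co.uz_mul_u] at h2
    have h3 := (h.co.u_inj _ _ _ _ (mul_right_cancel h2)).1
    linear_combination -h3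
  subst hcd
  -- `x3 ∈ base`
  have hx3b : ∃ p q, x3 = u p q := by
    rcases h.co.cases x3 with h1 | ⟨p, q, rfl⟩
    · exact h1
    · exfalso
      have h2 := r1.1
      rw [h.co.u_mul_uz, h.co.uz_mul_u] at h2
      have h3 := (h.co.u_inj _ _ _ _ (mul_right_cancel h2)).1
      apply hh0
      linear_combination h3
  obtain ⟨p3, q3, rfl⟩ := hx3b
  -- `(d,1)(s,1) = (s,1)(d,1)(ζ,1)`
  have r2 := trans (syd.mul_right hys) ((hys.mul_right syd).mul_right (hyc e 0 0)) (by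
    rw [h.wr.f_mul_f, h.wr.f_mul_f, h.wr.f_mul_f, h.co.z_u, mul_assoc, h.co.z_u, ← mul_assoc, h.co.u_mul,
      h.co.u_zero, mul_one, mul_one, zero_add, hh])
  rw [h.wr.f_mul_f, h.wr.f_mul_f, h.wr.f_mul_f, h.wr.f_eq_iff, Prod.mk.injEq] at r2
  have hx5b : ∃ p q, x5 = u p q * s := by
    rcases h.co.cases x5 with ⟨p, q, rfl⟩ | h1
    · exfalso
      have h2 := r2.1
      rw [h.co.u_mul, h.co.u_mul, h.co.u_mul] at h2
      have h3 := (h.co.u_inj _ _ _ _ h2).1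
      apply hh0
      linear_combination -h3
    · exact h1
  obtain ⟨p5, q5, rfl⟩ := hx5b
  -- involutions
  have r3 := trans (syd.mul_right syd) (hyc 0 0 0) (by
    rw [h.wr.f_mul_f, h.co.u_mul, h.co.u_zero, hh, mul_one, add_zero, h.co.u_zero])
  rw [h.wr.f_mul_f, h.wr.f_eq_iff, Prod.mk.injEq, h.co.uz_mul_uz, h.co.u_mul] at r3
  have r4 := trans (syt.mul_right syt) (hyc 0 0 0) (by
    rw [h.wr.f_mul_f, h.co.z_z, mul_one, h.co.u_zero])
  rw [h.wr.f_mul_f, h.wr.f_eq_iff, Prod.mk.injEq, h.co.uz_mul_uz, h.co.u_mul] at r4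
  have h56 : q5 = -p5 := by
    have := (h.co.u_inj _ _ _ _ r3.1).1
    linear_combination this
  have h44 : q4 = -p4 := by
    have := (h.co.u_inj _ _ _ _ r4.2).1
    linear_combination this
  subst h56 h44
  -- `(d,1)` commutes with `(1,s)`
  have r5 := trans (syd.mul_right syt) (syt.mul_right syd) (by
    rw [h.wr.f_mul_f, h.wr.f_mul_f]
    simp only [one_mul, mul_one])
  rw [h.wr.f_mul_f, h.wr.f_mul_f, h.wr.f_eq_iff, Prod.mk.injEq, h.co.u_mul_uz, h.co.uz_mul_u, h.co.u_mul_uz,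
    h.co.uz_mul_u] at r5
  have h33 : q3 = p3 := by
    have := (h.co.u_inj _ _ _ _ (mul_right_cancel r5.1)).1
    linear_combination this
  have h66 : q6 = p6 := by
    have := (h.co.u_inj _ _ _ _ (mul_right_cancel r5.2)).1
    linear_combination -this
  subst h33 h66
  have h3z : q3 + q3 = 0 := (h.co.u_inj _ _ _ _ r4.1).1
  have h6z : q6 + q6 = 0 := (h.co.u_inj _ _ _ _ r3.2).1
  -- adjust by an element of `A`
  have ha1 : Cen f u (f (u (-p5) 0, u (-p4) 0)) := h.cen_f (h.co.u_mem_base _ _)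
  refine ⟨f (u (-p5) 0, u (-p4) 0) * y, d', q6, q3, ha1.mul hyc, hc', h6z, h3z, ?_, ?_, ?_⟩
  · refine SemiconjBy.mul_left ?_ hys
    rw [h.semi_iff]
    exact ⟨h.co.u_comm _ _ _ _, h.co.u_comm _ _ _ _⟩
  · refine SemiconjBy.mul_left ?_ syd
    rw [h.semi_iff]
    refine ⟨?_, h.co.u_comm _ _ _ _⟩
    rw [h.co.u_mul_uz, h.co.z_u]
    congr 2 <;> ring
  · refine SemiconjBy.mul_left ?_ syt
    rw [h.semi_iff]
    refine ⟨h.co.u_comm _ _ _ _, ?_⟩
    rw [h.co.u_mul_uz, h.co.z_u]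
    congr 2 <;> ring

end Ctx

end Cfsg.Agent.TypeLFive.WRho
end

-- part: TypeLFive/WRhoMake
section
/-!
# S0511, wreathed case: construction of `ρ` from `y`
-/

set_option autoImplicit false

namespace Cfsg.Agent.TypeLFive.WRho

open Cfsg.Agent.TypeLFive.Model Cfsg.Agent.TwoFusion.QDBasic Cfsg.Agent.TwoFusion.WreathedBasic

variable {G W : Type*} [Group G] [Group W] {S : Sylow 2 G} {f : W × W →* G} {w : G} {n : ℕ}
  {u : ZMod (2 ^ n) → ZMod (2 ^ n) → W} {s : W}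

theorem quarter_add (hn : 2 ≤ n) : (2 : ZMod (2 ^ n)) ^ (n - 2) + 2 ^ (n - 2) = 2 ^ (n - 1) := by
  obtain ⟨m, rfl⟩ : ∃ m, n = m + 2 := ⟨n - 2, by omega⟩
  have h1 : m + 2 - 2 = m := by omega
  have h2 : m + 2 - 1 = m + 1 := by omega
  rw [h1, h2, pow_succ]
  ring

namespace Ctx

/-- The conjugating element `ρ` with the unknown `v = u j j`. -/
theorem exists_rho_of_y (h : Ctx S f w u s) {y : G} {i j k : ZMod (2 ^ n)} (hy : Cen f u y)
    (h1 : SemiconjBy y (f (s, 1)) (f (u (2 ^ (n - 1)) 0, u i i)))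
    (h2 : SemiconjBy y (f (u (2 ^ (n - 1)) 0, 1)) (f (s, u j j)))
    (h3 : SemiconjBy y (f (1, s)) (f (u k k, s))) :
    ∃ ρ : G, (∀ a x, SemiconjBy ρ (f (u a a, x)) (f (u a a, x))) ∧
      SemiconjBy ρ (f (u (-(2 ^ (n - 2))) (2 ^ (n - 2)), 1)) (f (u (2 ^ (n - 2)) (2 ^ (n - 2)) * s, u j j)) ∧
      SemiconjBy ρ (f (u (2 ^ (n - 2)) (2 ^ (n - 2)) * s, u j j))
        (f (u (-(2 ^ (n - 2))) (2 ^ (n - 2)) * (u (2 ^ (n - 2)) (2 ^ (n - 2)) * s), u j j)) := by
  have hq := quarter_add (n := n) h.co.two_le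
  have he : (2 : ZMod (2 ^ n)) ^ (n - 1) + 2 ^ (n - 1) = 0 := by
    rw [← two_mul]
    exact two_mul_half n h.co.one_le
  generalize (2 : ZMod (2 ^ n)) ^ (n - 1) = e at *
  generalize (2 : ZMod (2 ^ n)) ^ (n - 2) = q at *
  have r : ∀ x a b : W, x * a * x⁻¹ = b → SemiconjBy (f (x, 1)) (f (a, 1)) (f (b, 1)) := by
    intro x a b hx
    rw [h.semi_iff]
    exact ⟨by rw [← hx]; group, rfl⟩
  set r₀ : G := f (u q 0, 1) with hr₀
  -- `r₀`
  have r₀c : Cen f u r₀ := h.cen_f h.co.base.one_mem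
  have r₀d : SemiconjBy r₀ (f (u e 0, 1)) (f (u e 0, 1)) := by
    rw [h.semi_iff]
    exact ⟨h.co.u_comm _ _ _ _, rfl⟩
  have r₀t : SemiconjBy r₀ (f (1, s)) (f (1, s)) := by
    rw [h.semi_iff]
    simp only [one_mul, mul_one, and_self]
  have r₀s : SemiconjBy r₀ (f (s, 1)) (f (u q (-q) * s, 1)) := by
    rw [h.semi_iff, h.co.uz_mul_u]
    refine ⟨?_, rfl⟩
    congr 2 <;> ring
  -- `y⁻¹`
  have y1 := h1.inv_symm_left
  have y2 := h2.inv_symm_left
  have y3 := h3.inv_symm_left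
  have yc := hy.inv
  set X : G := y * r₀ * y⁻¹ with hX
  have Xc : Cen f u X := (hy.mul r₀c).mul yc
  have e1 : (1 : W) = u 0 0 := h.co.u_zero.symm
  -- `X` centralises `(1, s)`
  have Xt : SemiconjBy X (f (1, s)) (f (1, s)) := by
    have a1 : f (1, s) = f (u (-k) (-k), u 0 0) * f (u k k, s) := by
      rw [h.wr.f_mul_f, h.co.u_mul, h.co.u_zero, neg_add_cancel, h.co.u_zero, one_mul]
    have b1 : SemiconjBy y⁻¹ (f (1, s)) (f (u (-k) (-k), u 0 0) * f (1, s)) := by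
      have := (yc (-k) 0 0).mul_right y3
      rwa [← a1] at this
    have b2 : SemiconjBy r₀ (f (u (-k) (-k), u 0 0) * f (1, s)) (f (u (-k) (-k), u 0 0) * f (1, s)) :=
      (r₀c (-k) 0 0).mul_right r₀t
    have b3 : SemiconjBy y (f (u (-k) (-k), u 0 0) * f (1, s)) (f (1, s)) := by
      have := (hy (-k) 0 0).mul_right h3
      rwa [← a1] at this
    exact (b3.mul_left b2).mul_left b1
  -- `X` centralises `(s, 1)`
  have Xs : SemiconjBy X (f (s, 1)) (f (s, 1)) := by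
    have a1 : f (s, 1) = f (s, u j j) * f (u 0 0, u (-j) (-j)) := by
      rw [h.wr.f_mul_f, h.co.u_mul, h.co.u_zero, mul_one, add_neg_cancel, h.co.u_zero]
    have b1 : SemiconjBy y⁻¹ (f (s, 1)) (f (u e 0, 1) * f (u 0 0, u (-j) (-j))) := by
      have := y2.mul_right (yc 0 (-j) (-j))
      rwa [← a1] at this
    have b2 : SemiconjBy r₀ (f (u e 0, 1) * f (u 0 0, u (-j) (-j))) (f (u e 0, 1) * f (u 0 0, u (-j) (-j))) :=
      r₀d.mul_right (r₀c 0 (-j) (-j))
    have b3 : SemiconjBy y (f (u e 0, 1) * f (u 0 0, u (-j) (-j))) (f (s, 1)) := by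
      have := h2.mul_right (hy 0 (-j) (-j))
      rwa [← a1] at this
    exact (b3.mul_left b2).mul_left b1
  -- the image of `(d, 1)`
  have Xd : SemiconjBy X (f (u e 0, 1)) (f (u (-q) q * s, u j j)) := by
    have a1 : f (u e 0, 1) = f (u e 0, u i i) * f (u 0 0, u (-i) (-i)) := by
      rw [h.wr.f_mul_f, h.co.u_mul, h.co.u_mul, add_neg_cancel, h.co.u_zero, add_zero, add_zero]
    have b1 : SemiconjBy y⁻¹ (f (u e 0, 1)) (f (s, 1) * f (u 0 0, u (-i) (-i))) := by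
      have := y1.mul_right (yc 0 (-i) (-i))
      rwa [← a1] at this
    have b2 : SemiconjBy r₀ (f (s, 1) * f (u 0 0, u (-i) (-i)))
        (f (u q (-q) * s, 1) * f (u 0 0, u (-i) (-i))) := r₀s.mul_right (r₀c 0 (-i) (-i))
    have a2 : f (u q (-q) * s, 1) * f (u 0 0, u (-i) (-i)) =
        f (u e 0, 1) * (f (u (-q) (-q), u 0 0) * (f (s, 1) * f (u 0 0, u (-i) (-i)))) := by
      rw [h.wr.f_mul_f, h.wr.f_mul_f, h.wr.f_mul_f, h.wr.f_mul_f, h.co.u_zero, mul_one, mul_one, one_mul,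
        one_mul, one_mul, ← mul_assoc, h.co.u_mul]
      congr 3
      congr 1
      · linear_combination hq
      · ring
    have b3 : SemiconjBy y (f (u q (-q) * s, 1) * f (u 0 0, u (-i) (-i)))
        (f (s, u j j) * (f (u (-q) (-q), u 0 0) * (f (u e 0, u i i) * f (u 0 0, u (-i) (-i))))) := by
      rw [a2]
      exact h2.mul_right ((hy (-q) 0 0).mul_right (h1.mul_right (hy 0 (-i) (-i))))
    have a3 : f (s, u j j) * (f (u (-q) (-q), u 0 0) * (f (u e 0, u i i) * f (u 0 0, u (-i) (-i)))) =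
        f (u (-q) q * s, u j j) := by
      rw [← a1, h.wr.f_mul_f, h.wr.f_mul_f, h.co.u_mul, h.co.z_u, h.co.u_zero, mul_one, mul_one]
      congr 3
      congr 1
      · ring
      · linear_combination -hq
    rw [a3] at b3
    exact (b3.mul_left b2).mul_left b1
  -- `ρ₀`
  set ρ₀ : G := r₀ * X with hρ₀
  have ρc : Cen f u ρ₀ := r₀c.mul Xc
  have ρt : SemiconjBy ρ₀ (f (1, s)) (f (1, s)) := r₀t.mul_left Xt
  have ρs : SemiconjBy ρ₀ (f (s, 1)) (f (u q (-q) * s, 1)) := r₀s.mul_left Xs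
  have ρd : SemiconjBy ρ₀ (f (u e 0, 1)) (f (s, u j j)) := by
    refine SemiconjBy.mul_left ?_ Xd
    rw [h.semi_iff]
    constructor
    · rw [h.co.u_mul_uz, h.co.z_u, add_neg_cancel, zero_add]
    · rw [one_mul, mul_one]
  -- the element `j`
  have jc : Cen f u (f (u q q * s, 1)) := h.cen_f h.co.base.one_mem
  have jt : SemiconjBy (f (u q q * s, 1)) (f (1, s)) (f (1, s)) := by
    rw [h.semi_iff]
    simp only [one_mul, mul_one, and_self]
  refine ⟨f (u q q * s, 1) * ρ₀, ?_, ?_, ?_⟩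
  · -- centralises `Z(W₁) × W₂`
    have c1 := jc.mul ρc
    have c2 : SemiconjBy (f (u q q * s, 1) * ρ₀) (f (1, s)) (f (1, s)) := jt.mul_left ρt
    intro a x
    rcases h.co.cases x with ⟨b, c, rfl⟩ | ⟨b, c, rfl⟩
    · exact c1 a b c
    · have a1 : f (u a a, u b c * s) = f (u a a, u b c) * f (1, s) := by
        rw [h.wr.f_mul_f, mul_one]
      rw [a1]
      exact (c1 a b c).mul_right c2
  · -- `i ↦ j`
    have a1 : f (u (-q) q, 1) = f (u e 0, 1) * f (u q q, u 0 0) := by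
      rw [h.wr.f_mul_f, h.co.u_mul, h.co.u_zero, mul_one, zero_add]
      congr 3
      linear_combination -hq - he
    rw [a1]
    have b1 : SemiconjBy ρ₀ (f (u e 0, 1) * f (u q q, u 0 0)) (f (s, u j j) * f (u q q, u 0 0)) :=
      ρd.mul_right (ρc q 0 0)
    refine SemiconjBy.mul_left ?_ b1
    rw [h.wr.f_mul_f, h.co.z_u, h.co.u_zero, mul_one, h.semi_iff]
    refine ⟨rfl, ?_⟩
    rw [one_mul, mul_one]
  · have a1 : f (u q q * s, u j j) = f (u q q, u j j) * f (s, 1) := by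
      rw [h.wr.f_mul_f, mul_one]
    have b1 : SemiconjBy ρ₀ (f (u q q * s, u j j)) (f (u q q, u j j) * f (u q (-q) * s, 1)) := by
      rw [a1]
      exact (ρc q j j).mul_right ρs
    refine SemiconjBy.mul_left ?_ b1
    rw [h.wr.f_mul_f, mul_one, h.semi_iff, one_mul, mul_one, h.co.u_mul_uz, h.co.u_mul_uz, h.co.uz_mul_uz,
      h.co.uz_mul_uz]
    refine ⟨?_, rfl⟩
    congr 1
    · ring
    · ring

end Ctx

end Cfsg.Agent.TypeLFive.WRho
end

-- part: TypeLFive/WRhoTransfer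
section
/-!
# S0511, wreathed case: transfer of `(s, 1)` into `A`, with `⟨(s,1)⟩ × D` moved into `A`
-/

set_option autoImplicit false

namespace Cfsg.Agent.TypeLFive.WRho

open Cfsg.Agent.TypeLFive.Model Cfsg.Agent.TwoFusion.QDBasic Cfsg.Agent.TwoFusion.WreathedBasic

/-- counting in a subgroup meeting `T` in index at most two -/
theorem card_le_two_mul {G : Type*} [Group G] [Finite G] {K T : Subgroup G}
    (hT : ∀ a ∈ K, ∀ b ∈ K, a ∉ T → b ∉ T → a * b⁻¹ ∈ T) :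
    Nat.card K ≤ 2 * Nat.card (K ⊓ T : Subgroup G) := by
  by_cases hK : K ≤ T
  · rw [inf_eq_left.2 hK]
    omega
  · obtain ⟨r, hrK, hrT⟩ := SetLike.not_le_iff_exists.1 hK
    let φ : (K ⊓ T : Subgroup G) × Bool → K := fun p =>
      ⟨p.1 * (if p.2 then r else 1), K.mul_mem p.1.2.1 (by
        split_ifs
        · exact hrK
        · exact K.one_mem)⟩
    have hφ : Function.Surjective φ := by
      rintro ⟨g, hg⟩
      by_cases hgT : g ∈ T
      · exact ⟨(⟨g, hg, hgT⟩, false), Subtype.ext (by simp [φ])⟩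
      · exact ⟨(⟨g * r⁻¹, K.mul_mem hg (K.inv_mem hrK), hT g hg r hrK hgT hrT⟩, true),
          Subtype.ext (by simp [φ])⟩
    have h1 := Nat.card_le_card_of_surjective φ hφ
    rw [Nat.card_prod] at h1
    have h2 : Nat.card Bool = 2 := by simp
    rw [h2, mul_comm] at h1
    exact h1

section coord

variable {W : Type*} [Group W] {n : ℕ} {u : ZMod (2 ^ n) → ZMod (2 ^ n) → W} {s : W}

/-- centralisers of elements outside the base -/
theorem cent_forms (hc : IsWCoord n u s) {x : W} (hx : x ∉ hc.base) {y : W} (hy : y * x = x * y) :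
    (∃ c, y = u c c) ∨ ∃ c, y = u c c * x := by
  obtain ⟨a, b, rfl⟩ := (hc.not_mem_base x).1 hx
  rcases hc.cases y with ⟨c, d, rfl⟩ | ⟨c, d, rfl⟩
  · left
    rw [hc.u_mul_uz, hc.uz_mul_u] at hy
    have h1 := (hc.u_inj _ _ _ _ (mul_right_cancel hy)).1
    refine ⟨c, ?_⟩
    congr 1
    linear_combination -h1
  · right
    rw [hc.uz_mul_uz, hc.uz_mul_uz] at hy
    have h1 := (hc.u_inj _ _ _ _ hy).1
    refine ⟨c - a, ?_⟩
    rw [hc.u_mul_uz]
    congr 1
    congr 1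
    · ring
    · linear_combination -h1

theorem card_cent_le (hc : IsWCoord n u s) {x : W} (hx : x ∉ hc.base) :
    Nat.card (Subgroup.centralizer ({x} : Set W)) ≤ 2 ^ (n + 1) := by
  have hfin : Finite W := hc.finite
  let φ : ZMod (2 ^ n) × Bool → Subgroup.centralizer ({x} : Set W) := fun p =>
    ⟨u p.1 p.1 * (if p.2 then x else 1), by
      rw [Subgroup.mem_centralizer_singleton_iff]
      obtain ⟨a, b, rfl⟩ := (hc.not_mem_base x).1 hx
      split_ifs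
      · rw [hc.u_mul_uz, hc.uz_mul_uz, hc.uz_mul_uz]
        congr 1 <;> ring
      · rw [mul_one, hc.u_mul_uz, hc.uz_mul_u]
        congr 2 <;> ring⟩
  have hφ : Function.Surjective φ := by
    rintro ⟨y, hy⟩
    rw [Subgroup.mem_centralizer_singleton_iff] at hy
    rcases cent_forms hc hx hy with ⟨c, rfl⟩ | ⟨c, rfl⟩
    · exact ⟨(c, false), Subtype.ext (by simp [φ])⟩
    · exact ⟨(c, true), Subtype.ext (by simp [φ])⟩
  have h1 := Nat.card_le_card_of_surjective φ hφ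
  rw [Nat.card_prod, Nat.card_zmod] at h1
  have h2 : Nat.card Bool = 2 := by simp
  rw [h2] at h1
  rw [pow_succ]
  exact h1

theorem le_card_cent_s (hc : IsWCoord n u s) :
    2 ^ (n + 1) ≤ Nat.card (Subgroup.centralizer ({s} : Set W)) := by
  have hfin : Finite W := hc.finite
  let φ : ZMod (2 ^ n) × Bool → Subgroup.centralizer ({s} : Set W) := fun p =>
    ⟨u p.1 p.1 * (if p.2 then s else 1), by
      rw [Subgroup.mem_centralizer_singleton_iff]
      split_ifs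
      · rw [mul_assoc, hc.z_z, ← mul_assoc, hc.z_u, mul_assoc, hc.z_z]
      · rw [mul_one, hc.z_u]⟩
  have hφ : Function.Injective φ := by
    rintro ⟨a, i⟩ ⟨b, j⟩ hp
    have h1 : u a a * (if i then s else 1) = u b b * (if j then s else 1) := congrArg Subtype.val hp
    cases i <;> cases j
    · simp only [Bool.false_eq_true, if_false, mul_one] at h1
      rw [(hc.u_inj _ _ _ _ h1).1]
    · simp only [Bool.false_eq_true, if_false, if_true, mul_one] at h1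
      exact absurd h1 (hc.u_ne _ _ _ _)
    · simp only [Bool.false_eq_true, if_false, if_true, mul_one] at h1
      exact absurd h1.symm (hc.u_ne _ _ _ _)
    · simp only [if_true] at h1
      rw [(hc.u_inj _ _ _ _ (mul_right_cancel h1)).1]
  have h1 := Nat.card_le_card_of_injective φ hφ
  rw [Nat.card_prod, Nat.card_zmod] at h1
  have h2 : Nat.card Bool = 2 := by simp
  rw [h2] at h1
  rw [pow_succ]
  exact h1

end coord

variable {G W : Type*} [Group G] [Group W] {S : Sylow 2 G} {f : W × W →* G} {w : G} {n : ℕ}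
  {u : ZMod (2 ^ n) → ZMod (2 ^ n) → W} {s : W}

namespace Ctx

variable (h : Ctx S f w u s)
include h

theorem base_iff {x y : W} : x * y ∈ h.co.base ↔ (x ∈ h.co.base ↔ y ∈ h.co.base) :=
  Subgroup.mul_mem_iff_of_index_two h.co.index_base

omit h in
/-- the maximal subgroup `M` -/
def M (h : Ctx S f w u s) : Subgroup G where
  carrier := {g | (∃ x y, g = f (x, y) ∧ (x ∈ h.co.base ↔ y ∈ h.co.base)) ∨
    ∃ x y, g = f (x, y) * w ∧ ¬ (x ∈ h.co.base ↔ y ∈ h.co.base)}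
  one_mem' := Or.inl ⟨1, 1, (map_one f).symm, Iff.rfl⟩
  mul_mem' := by
    rintro _ _ (⟨x, y, rfl, hxy⟩ | ⟨x, y, rfl, hxy⟩) (⟨x', y', rfl, hxy'⟩ | ⟨x', y', rfl, hxy'⟩)
    · refine Or.inl ⟨x * x', y * y', h.wr.f_mul_f _ _ _ _, ?_⟩
      rw [h.base_iff, h.base_iff]
      itauto
    · refine Or.inr ⟨x * x', y * y', h.wr.f_mul_fw _ _ _ _, ?_⟩
      rw [h.base_iff, h.base_iff]
      itauto
    · refine Or.inr ⟨x * y', y * x', h.wr.fw_mul_f _ _ _ _, ?_⟩
      rw [h.base_iff, h.base_iff]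
      itauto
    · refine Or.inl ⟨x * y', y * x', h.wr.fw_mul_fw _ _ _ _, ?_⟩
      rw [h.base_iff, h.base_iff]
      tauto
  inv_mem' := by
    rintro _ (⟨x, y, rfl, hxy⟩ | ⟨x, y, rfl, hxy⟩)
    · refine Or.inl ⟨x⁻¹, y⁻¹, by rw [← map_inv]; rfl, ?_⟩
      rw [inv_mem_iff, inv_mem_iff]
      exact hxy
    · refine Or.inr ⟨y⁻¹, x⁻¹, h.wr.fw_inv _ _, ?_⟩
      rw [inv_mem_iff, inv_mem_iff]
      tauto

theorem M_le : h.M ≤ (S : Subgroup G) := by
  rintro _ (⟨x, y, rfl, -⟩ | ⟨x, y, rfl, -⟩)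
  · exact h.wr.mem _
  · exact h.wr.fw_mem _

theorem s1_not_mem_M : f (s, 1) ∉ h.M := by
  rintro (⟨x, y, h1, h2⟩ | ⟨x, y, h1, h2⟩)
  · rw [h.wr.f_eq_iff, Prod.mk.injEq] at h1
    rw [← h1.1, ← h1.2] at h2
    exact h.co.z_not_mem_base (h2.2 h.co.base.one_mem)
  · exact h.wr.f_ne_fw _ _ h1

theorem M_cases {g : G} (hg : g ∈ (S : Subgroup G)) (hgM : g ∉ h.M) : g * f (s, 1) ∈ h.M := by
  rcases h.wr.cases g hg with ⟨x, y, rfl⟩ | ⟨x, y, rfl⟩
  · have h1 : ¬ (x ∈ h.co.base ↔ y ∈ h.co.base) := fun h1 => hgM (Or.inl ⟨x, y, rfl, h1⟩)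
    refine Or.inl ⟨x * s, y, by rw [h.wr.f_mul_f, mul_one], ?_⟩
    rw [h.base_iff]
    have := h.co.z_not_mem_base
    (clear * - f w n s h x y h1 this; tauto)
  · have h1 : (x ∈ h.co.base ↔ y ∈ h.co.base) := by
      by_contra h1
      exact hgM (Or.inr ⟨x, y, rfl, h1⟩)
    refine Or.inr ⟨x, y * s, by rw [h.wr.fw_mul_f, mul_one], ?_⟩
    rw [h.base_iff]
    have := h.co.z_not_mem_base
    (clear * - S f w n s h x y h1 this; itauto)

theorem M_relIndex : h.M.relIndex (S : Subgroup G) = 2 := by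
  rw [Subgroup.relIndex, Subgroup.index_eq_two_iff]
  refine ⟨⟨f (s, 1), h.wr.mem _⟩, ?_⟩
  rintro ⟨g, hg⟩
  by_cases hgM : g ∈ h.M
  · right
    refine ⟨hgM, ?_⟩
    intro h1
    have h2 : g * f (s, 1) ∈ h.M := h1
    exact h.s1_not_mem_M ((h.M.mul_mem_cancel_left hgM).1 h2)
  · left
    exact ⟨h.M_cases hg hgM, hgM⟩

/-- `C_S((s,1))` -/
theorem R_isPGroup : IsPGroup 2 (((Subgroup.centralizer ({s} : Set W)).prod ⊤).map f) :=
  S.isPGroup'.to_le (by
    rintro _ ⟨x, -, rfl⟩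
    exact h.wr.mem x)

theorem card_map_prod (K L : Subgroup W) : Nat.card ((K.prod L).map f) = Nat.card K * Nat.card L := by
  rw [← Nat.card_prod, Nat.card_congr (K.prodEquiv L).toEquiv.symm]
  exact Nat.card_congr ((K.prod L).equivMapOfInjective f h.wr.inj).symm.toEquiv

theorem mul_inv_mem_range {K : Subgroup G} (hK : K ≤ (S : Subgroup G)) :
    ∀ a ∈ K, ∀ b ∈ K, a ∉ f.range → b ∉ f.range → a * b⁻¹ ∈ f.range := by
  intro a ha b hb ha' hb'
  rcases h.wr.cases a (hK ha) with ⟨x, y, rfl⟩ | ⟨x, y, rfl⟩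
  · exact absurd ⟨_, rfl⟩ ha'
  rcases h.wr.cases b (hK hb) with ⟨x', y', rfl⟩ | ⟨x', y', rfl⟩
  · exact absurd ⟨_, rfl⟩ hb'
  rw [mul_inv_rev, ← mul_assoc, mul_inv_cancel_right, ← map_inv, ← map_mul]
  exact ⟨_, rfl⟩

variable [Finite G]

theorem card_bound {K : Subgroup G} (hK : K ≤ (S : Subgroup G)) :
    Nat.card K ≤ 2 * Nat.card (K ⊓ f.range : Subgroup G) :=
  card_le_two_mul (h.mul_inv_mem_range hK)

/-- transfer -/
theorem exists_g (hG : ∀ φ : G →* ℤˣ, ∀ x, φ x = 1) :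
    ∃ g : G, g * f (s, 1) * g⁻¹ ∈ h.A ∧
      ∀ x y, x * s = s * x → g * f (x, y) * g⁻¹ ∈ (S : Subgroup G) := by
  have hfin : Finite W := h.co.finite
  obtain ⟨g, hg1, hg2⟩ := SylowSp4.ExtTransfer.exists_extremal S h.M h.M_le h.M_relIndex (f (s, 1)) (by
    rw [h.wr.f_mul_f, h.co.z_z, one_mul]
    exact map_one f) (fun φ => hG φ _) _ h.R_isPGroup (by
    rintro _ ⟨⟨x, y⟩, hxy, rfl⟩
    rw [SetLike.mem_coe, Subgroup.mem_prod, Subgroup.mem_centralizer_singleton_iff] at hxy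
    rw [h.wr.f_mul_f, h.wr.f_mul_f, hxy.1, one_mul, mul_one])
  have hg3 : ∀ x y, x * s = s * x → g * f (x, y) * g⁻¹ ∈ (S : Subgroup G) := by
    intro x y hx
    exact hg2 _ ⟨(x, y), Subgroup.mem_prod.2 ⟨Subgroup.mem_centralizer_singleton_iff.2 hx, trivial⟩, rfl⟩
  refine ⟨g, ?_, hg3⟩
  have hvv : g * f (s, 1) * g⁻¹ * (g * f (s, 1) * g⁻¹) = 1 := by
    have h1 : g * f (s, 1) * g⁻¹ * (g * f (s, 1) * g⁻¹) = g * (f (s, 1) * f (s, 1)) * g⁻¹ := by group
    have h2 : f ((1 : W), (1 : W)) = 1 := map_one f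
    rw [h1, h.wr.f_mul_f, h.co.z_z, one_mul, h2]
    group
  rcases hg1 with ⟨x, y, hxy, hxy'⟩ | ⟨x, y, hxy, hxy'⟩
  · by_cases hx : x ∈ h.co.base
    · have hy := hxy'.1 hx
      obtain ⟨a, b, rfl⟩ := hx
      obtain ⟨c, d, rfl⟩ := hy
      rw [hxy]
      exact h.f_mem_A _ _ _ _
    · exfalso
      have hy : y ∉ h.co.base := fun hy => hx (hxy'.2 hy)
      set R : Subgroup G := ((Subgroup.centralizer ({s} : Set W)).prod ⊤).map f with hR
      let R' : Subgroup G := R.map (MulAut.conj g).toMonoidHom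
      have hR'S : R' ≤ (S : Subgroup G) := by
        rintro _ ⟨r, hr, rfl⟩
        exact hg2 r hr
      have hR'c : Nat.card R' = Nat.card R :=
        Nat.card_congr (R.equivMapOfInjective _ (MulAut.conj g).injective).symm.toEquiv
      have h1 := h.card_bound hR'S
      have h2 : R' ⊓ f.range ≤ ((Subgroup.centralizer ({x} : Set W)).prod (Subgroup.centralizer ({y} : Set W))).map f := by
        rintro r ⟨⟨r', hr', hrr⟩, ⟨⟨p, q⟩, hpq⟩⟩
        obtain ⟨⟨x', y'⟩, hx'y', rfl⟩ := hr'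
        rw [SetLike.mem_coe, Subgroup.mem_prod, Subgroup.mem_centralizer_singleton_iff] at hx'y'
        have hc : r * f (x, y) = f (x, y) * r := by
          rw [← hxy, ← hrr]
          show g * f (x', y') * g⁻¹ * (g * f (s, 1) * g⁻¹) = g * f (s, 1) * g⁻¹ * (g * f (x', y') * g⁻¹)
          have h3 : f (x', y') * f (s, 1) = f (s, 1) * f (x', y') := by
            rw [h.wr.f_mul_f, h.wr.f_mul_f, hx'y'.1, one_mul, mul_one]
          calc g * f (x', y') * g⁻¹ * (g * f (s, 1) * g⁻¹) = g * (f (x', y') * f (s, 1)) * g⁻¹ := by group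
            _ = g * (f (s, 1) * f (x', y')) * g⁻¹ := by rw [h3]
            _ = _ := by group
        rw [← hpq, h.wr.f_comm_f_iff] at hc
        exact ⟨(p, q), Subgroup.mem_prod.2 ⟨Subgroup.mem_centralizer_singleton_iff.2 hc.1,
          Subgroup.mem_centralizer_singleton_iff.2 hc.2⟩, hpq⟩
      have h3 := Subgroup.card_le_of_le h2
      rw [h.card_map_prod] at h3
      have h4 := card_cent_le h.co hx
      have h5 := card_cent_le h.co hy
      have h6 := le_card_cent_s h.co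
      have h7 : Nat.card R = Nat.card (Subgroup.centralizer ({s} : Set W)) * Nat.card W := by
        rw [hR, h.card_map_prod, Subgroup.card_top]
      rw [h.co.card] at h7
      have h8 : Nat.card R ≤ 2 * (2 ^ (n + 1) * 2 ^ (n + 1)) := by
        rw [← hR'c]
        exact h1.trans (Nat.mul_le_mul_left 2 (h3.trans (Nat.mul_le_mul h4 h5)))
      have h9 : 2 ^ (n + 1) * 2 ^ (2 * n + 1) ≤ 2 * (2 ^ (n + 1) * 2 ^ (n + 1)) := by
        refine le_trans ?_ h8
        rw [h7]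
        exact Nat.mul_le_mul_right _ h6
      have h10 : 2 ^ (n + 1 + (2 * n + 1)) ≤ 2 ^ (1 + (n + 1 + (n + 1))) := by
        calc 2 ^ (n + 1 + (2 * n + 1)) = 2 ^ (n + 1) * 2 ^ (2 * n + 1) := pow_add _ _ _
          _ ≤ 2 * (2 ^ (n + 1) * 2 ^ (n + 1)) := h9
          _ = 2 ^ (1 + (n + 1 + (n + 1))) := by ring
      have h11 := (Nat.pow_le_pow_iff_right (by norm_num : 1 < 2)).1 h10
      have := h.co.two_le
      omega
  · exfalso
    apply hxy'
    rw [hxy, h.wr.fw_sq_eq_one_iff] at hvv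
    rw [hvv, inv_mem_iff]

end Ctx

end Cfsg.Agent.TypeLFive.WRho
end

-- part: TypeLFive/WRho
section
/-!
# S0511, wreathed case: the 3-element `ρ`

`exists_rho`: there are `ρ` and `v ∈ Ω₁(Z(W))` such that `ρ` centralises `Z(W₁) × W₂` and maps
`(i, 1) ↦ (j, v) ↦ (i j, v)`.
`exists_isRho`: after a twist of `f` this is `IsRho`.
-/

set_option autoImplicit false

namespace Cfsg.Agent.TypeLFive.WRho

open Cfsg.Agent.TypeLFive.Model Cfsg.Agent.TwoFusion.QDBasic Cfsg.Agent.TwoFusion.WreathedBasic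
open Cfsg.Agent.TypeLFive.Out

variable {G W : Type*} [Group G] [Group W] {S : Sylow 2 G} {f : W × W →* G} {w : G} {n : ℕ}
  {u : ZMod (2 ^ n) → ZMod (2 ^ n) → W} {s : W}

namespace Ctx

/-- `B = (⟨s⟩ × Z(W₁)) × A₀(2)` -/
def B (h : Ctx S f w u s) : Subgroup G := ((Subgroup.centralizer ({s} : Set W)).prod h.co.base).map f

variable (h : Ctx S f w u s)
include h

theorem mem_B {g : G} : g ∈ h.B ↔ ∃ x y, g = f (x, y) ∧ x * s = s * x ∧ y ∈ h.co.base := by
  constructor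
  · rintro ⟨⟨x, y⟩, hxy, rfl⟩
    rw [SetLike.mem_coe, Subgroup.mem_prod, Subgroup.mem_centralizer_singleton_iff] at hxy
    exact ⟨x, y, rfl, hxy.1, hxy.2⟩
  · rintro ⟨x, y, rfl, hx, hy⟩
    exact ⟨(x, y), Subgroup.mem_prod.2 ⟨Subgroup.mem_centralizer_singleton_iff.2 hx, hy⟩, rfl⟩

theorem B_comm {a b : G} (ha : a ∈ h.B) (hb : b ∈ h.B) : a * b = b * a := by
  obtain ⟨x, y, rfl, hx, hy⟩ := h.mem_B.1 ha
  obtain ⟨x', y', rfl, hx', hy'⟩ := h.mem_B.1 hb
  rw [h.wr.f_comm_f_iff]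
  constructor
  · have hs := h.co.z_not_mem_base
    rcases cent_forms h.co hs hx with ⟨c, rfl⟩ | ⟨c, rfl⟩ <;>
      rcases cent_forms h.co hs hx' with ⟨c', rfl⟩ | ⟨c', rfl⟩
    · exact h.co.u_comm _ _ _ _
    · rw [h.co.u_mul_uz, h.co.uz_mul_u]
      congr 2 <;> ring
    · rw [h.co.u_mul_uz, h.co.uz_mul_u]
      congr 2 <;> ring
    · rw [h.co.uz_mul_uz, h.co.uz_mul_uz]
      congr 1 <;> ring
  · obtain ⟨a, b, rfl⟩ := hy
    obtain ⟨a', b', rfl⟩ := hy'
    exact h.co.u_comm _ _ _ _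

theorem le_card_B : 2 ^ (3 * n + 1) ≤ Nat.card h.B := by
  rw [B, h.card_map_prod, h.co.card_base]
  calc 2 ^ (3 * n + 1) = 2 ^ (n + 1) * 2 ^ (2 * n) := by rw [← pow_add]; congr 1; ring
    _ ≤ _ := Nat.mul_le_mul_right _ (le_card_cent_s h.co)

variable [Finite G]

/-- the essential case: all second coordinates lie in the base. -/
theorem caseX {g : G} (hgT : ∀ b ∈ h.B, g * b * g⁻¹ ∈ f.range) (hv : g * f (s, 1) * g⁻¹ ∈ h.A)
    (hq : ∀ b ∈ h.B, ∀ x y, g * b * g⁻¹ = f (x, y) → y ∈ h.co.base) :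
    ∀ b ∈ h.B, g * b * g⁻¹ ∈ h.A := by
  classical
  have hfin : Finite W := h.co.finite
  intro b hb
  obtain ⟨⟨p, q⟩, hpq⟩ := hgT b hb
  have hqb := hq b hb p q hpq.symm
  by_cases hp : p ∈ h.co.base
  · obtain ⟨a, c, rfl⟩ := hp
    obtain ⟨a', c', rfl⟩ := hqb
    rw [← hpq]
    exact h.f_mem_A _ _ _ _
  exfalso
  -- `B' ≤ C_W(p) × A₀`
  let B' : Subgroup G := h.B.map (MulAut.conj g).toMonoidHom
  have hB'c : Nat.card B' = Nat.card h.B :=
    Nat.card_congr (h.B.equivMapOfInjective _ (MulAut.conj g).injective).symm.toEquiv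
  have h1 : B' ≤ ((Subgroup.centralizer ({p} : Set W)).prod h.co.base).map f := by
    rintro _ ⟨b', hb', rfl⟩
    obtain ⟨⟨p', q'⟩, hpq'⟩ := hgT b' hb'
    refine ⟨(p', q'), Subgroup.mem_prod.2 ⟨?_, hq b' hb' p' q' hpq'.symm⟩, hpq'⟩
    rw [Subgroup.mem_centralizer_singleton_iff]
    have h2 : f (p', q') * f (p, q) = f (p, q) * f (p', q') := by
      rw [hpq, hpq']
      calc g * b' * g⁻¹ * (g * b * g⁻¹) = g * (b' * b) * g⁻¹ := by group
        _ = g * (b * b') * g⁻¹ := by rw [h.B_comm hb' hb]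
        _ = _ := by group
    rw [h.wr.f_comm_f_iff] at h2
    exact h2.1
  have h2 : B' = ((Subgroup.centralizer ({p} : Set W)).prod h.co.base).map f := by
    apply Subgroup.eq_of_le_of_card_ge h1
    rw [h.card_map_prod, h.co.card_base, hB'c]
    refine le_trans ?_ h.le_card_B
    calc Nat.card (Subgroup.centralizer ({p} : Set W)) * 2 ^ (2 * n) ≤ 2 ^ (n + 1) * 2 ^ (2 * n) :=
          Nat.mul_le_mul_right _ (card_cent_le h.co hp)
      _ = 2 ^ (3 * n + 1) := by rw [← pow_add]; congr 1; ring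
  -- the involution `v`
  have hs1B : f (s, 1) ∈ h.B := h.mem_B.2 ⟨s, 1, rfl, rfl, h.co.base.one_mem⟩
  obtain ⟨v₁, v₁', v₂, v₂', hv'⟩ := h.mem_A.1 hv
  have hvB : f (u v₁ v₁', u v₂ v₂') ∈ B' := by
    rw [← hv']
    exact ⟨_, hs1B, rfl⟩
  rw [h2] at hvB
  obtain ⟨⟨z₁, z₂⟩, hz, hz'⟩ := hvB
  rw [SetLike.mem_coe, Subgroup.mem_prod, Subgroup.mem_centralizer_singleton_iff] at hz
  rw [h.wr.f_eq_iff, Prod.mk.injEq] at hz'
  obtain ⟨hz1, hz2⟩ := hz'
  have hzp : u v₁ v₁' * p = p * u v₁ v₁' := by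
    rw [← hz1]
    exact hz.1
  have hv11 : v₁' = v₁ := by
    obtain ⟨a, c, rfl⟩ := (h.co.not_mem_base p).1 hp
    rw [h.co.u_mul_uz, h.co.uz_mul_u] at hzp
    have := (h.co.u_inj _ _ _ _ (mul_right_cancel hzp)).1
    linear_combination -this
  subst hv11
  have hss : g * f (s, 1) * g⁻¹ * (g * f (s, 1) * g⁻¹) = 1 := by
    have h3 : g * f (s, 1) * g⁻¹ * (g * f (s, 1) * g⁻¹) = g * (f (s, 1) * f (s, 1)) * g⁻¹ := by group
    have h4 : f ((1 : W), (1 : W)) = 1 := map_one f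
    rw [h3, h.wr.f_mul_f, h.co.z_z, one_mul, h4]
    group
  rw [hv', h.wr.f_mul_f, h.co.u_mul, h.co.u_mul, h.wr.f_eq_one_iff, Prod.mk_eq_one, h.co.u_eq_one_iff,
    h.co.u_eq_one_iff] at hss
  obtain ⟨⟨hs1, -⟩, hs2, hs3⟩ := hss
  have half : ∀ c : ZMod (2 ^ n), c + c = 0 → ∃ c', ((2 ^ (n - 1) : ℕ) : ZMod (2 ^ n)) * c' = c := by
    intro c hc
    rcases (two_mul_eq_zero_iff n h.co.one_le c).1 (by rw [two_mul]; exact hc) with h3 | h3
    · exact ⟨0, by rw [h3, mul_zero]⟩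
    · exact ⟨1, by rw [h3, mul_one]; push_cast; rfl⟩
  obtain ⟨c₁, hc₁⟩ := half _ hs1
  obtain ⟨c₂, hc₂⟩ := half _ hs2
  obtain ⟨c₃, hc₃⟩ := half _ hs3
  -- the root
  have hroot : f (u c₁ c₁, u c₂ c₃) ∈ B' := by
    rw [h2]
    refine ⟨(u c₁ c₁, u c₂ c₃), Subgroup.mem_prod.2 ⟨?_, h.co.u_mem_base _ _⟩, rfl⟩
    rw [Subgroup.mem_centralizer_singleton_iff]
    obtain ⟨a, c, rfl⟩ := (h.co.not_mem_base p).1 hp
    rw [h.co.u_mul_uz, h.co.uz_mul_u]
    congr 2 <;> ring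
  obtain ⟨b', hb', hbe⟩ := hroot
  have hbe' : g * b' * g⁻¹ = f (u c₁ c₁, u c₂ c₃) := hbe
  have h3 : (g * b' * g⁻¹) ^ (2 ^ (n - 1)) = g * f (s, 1) * g⁻¹ := by
    rw [hbe', hv', ← map_pow, Prod.pow_mk, h.co.u_pow, h.co.u_pow, hc₁, hc₂, hc₃]
  rw [conj_pow] at h3
  have h4 : b' ^ (2 ^ (n - 1)) = f (s, 1) := mul_left_cancel (mul_right_cancel h3)
  obtain ⟨x, y, rfl, hx, hy⟩ := h.mem_B.1 hb'
  rw [← map_pow, Prod.pow_mk, h.wr.f_eq_iff, Prod.mk.injEq] at h4
  -- squares of `W` lie in the base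
  have h5 : x ^ (2 ^ (n - 1)) ∈ h.co.base := by
    have h6 : 2 ^ (n - 1) = 2 * 2 ^ (n - 2) := by
      rw [← pow_succ']
      congr 1
      have := h.co.two_le
      omega
    rw [h6, pow_mul]
    apply Subgroup.pow_mem
    rw [pow_two, h.base_iff]
  rw [h4.1] at h5
  exact h.co.z_not_mem_base h5

/-- `B` is moved into `A`. -/
theorem B_into_A {g : G} (hgS : ∀ b ∈ h.B, g * b * g⁻¹ ∈ (S : Subgroup G)) (hv : g * f (s, 1) * g⁻¹ ∈ h.A) :
    ∃ g' : G, g' * f (s, 1) * g'⁻¹ ∈ h.A ∧ ∀ b ∈ h.B, g' * b * g'⁻¹ ∈ h.A := by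
  have hfin : Finite W := h.co.finite
  let B' : Subgroup G := h.B.map (MulAut.conj g).toMonoidHom
  have hB'c : Nat.card B' = Nat.card h.B :=
    Nat.card_congr (h.B.equivMapOfInjective _ (MulAut.conj g).injective).symm.toEquiv
  have hB'S : B' ≤ (S : Subgroup G) := by
    rintro _ ⟨b, hb, rfl⟩
    exact hgS b hb
  have hB'comm : ∀ a ∈ B', ∀ b ∈ B', a * b = b * a := by
    rintro _ ⟨a, ha, rfl⟩ _ ⟨b, hb, rfl⟩
    show g * a * g⁻¹ * (g * b * g⁻¹) = g * b * g⁻¹ * (g * a * g⁻¹)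
    calc g * a * g⁻¹ * (g * b * g⁻¹) = g * (a * b) * g⁻¹ := by group
      _ = g * (b * a) * g⁻¹ := by rw [h.B_comm ha hb]
      _ = _ := by group
  have hbig : 2 ^ (3 * n + 1) ≤ Nat.card B' := hB'c ▸ h.le_card_B
  have hn := h.co.two_le
  -- `B' ≤ T`
  have hT : B' ≤ f.range := by
    by_contra hcon
    obtain ⟨r, hr, hrT⟩ := SetLike.not_le_iff_exists.1 hcon
    rcases h.wr.cases r (hB'S hr) with ⟨p, q, rfl⟩ | ⟨p, q, rfl⟩
    · exact hrT ⟨_, rfl⟩
    have h1 := h.card_bound hB'S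
    have h2 : Nat.card (B' ⊓ f.range : Subgroup G) ≤ Nat.card W := by
      have hch : ∀ b : (B' ⊓ f.range : Subgroup G), ∃ x : W, ∃ y : W, f (x, y) = b := by
        rintro ⟨b, -, ⟨⟨x, y⟩, hxy⟩⟩
        exact ⟨x, y, hxy⟩
      choose α β hαβ using hch
      apply Nat.card_le_card_of_injective α
      intro b b' hbb
      apply Subtype.ext
      have h3 : ∀ b : (B' ⊓ f.range : Subgroup G), p * β b = α b * p := by
        intro b
        have h4 := hB'comm _ hr _ b.2.1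
        rw [← hαβ b, h.wr.fw_comm_f_iff] at h4
        exact h4.1
      rw [← hαβ b, ← hαβ b', hbb]
      have h4 : β b = β b' := by
        have h5 := h3 b
        rw [hbb, ← h3 b'] at h5
        exact mul_left_cancel h5
      rw [h4]
    rw [h.co.card] at h2
    have h3 : 2 ^ (3 * n + 1) ≤ 2 ^ (1 + (2 * n + 1)) := by
      calc 2 ^ (3 * n + 1) ≤ Nat.card B' := hbig
        _ ≤ 2 * Nat.card (B' ⊓ f.range : Subgroup G) := h1
        _ ≤ 2 * 2 ^ (2 * n + 1) := Nat.mul_le_mul_left _ h2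
        _ = 2 ^ (1 + (2 * n + 1)) := by ring
    have h4 := (Nat.pow_le_pow_iff_right (by norm_num : 1 < 2)).1 h3
    omega
  -- not both coordinates leave the base
  have hnot : (∀ x y, f (x, y) ∈ B' → y ∈ h.co.base) ∨ (∀ x y, f (x, y) ∈ B' → x ∈ h.co.base) := by
    by_contra hcon
    push Not at hcon
    obtain ⟨⟨x, y, hxy, hy⟩, ⟨x', y', hxy', hx'⟩⟩ := hcon
    have h1 : B' ≤ ((Subgroup.centralizer ({x'} : Set W)).prod (Subgroup.centralizer ({y} : Set W))).map f := by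
      intro b hb
      obtain ⟨⟨p, q⟩, rfl⟩ := hT hb
      refine ⟨(p, q), Subgroup.mem_prod.2 ⟨?_, ?_⟩, rfl⟩
      · have h2 := hB'comm _ hb _ hxy'
        rw [h.wr.f_comm_f_iff] at h2
        exact Subgroup.mem_centralizer_singleton_iff.2 h2.1
      · have h2 := hB'comm _ hb _ hxy
        rw [h.wr.f_comm_f_iff] at h2
        exact Subgroup.mem_centralizer_singleton_iff.2 h2.2
    have h2 := Subgroup.card_le_of_le h1
    rw [h.card_map_prod] at h2
    have h3 : 2 ^ (3 * n + 1) ≤ 2 ^ (n + 1 + (n + 1)) := by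
      calc 2 ^ (3 * n + 1) ≤ Nat.card B' := hbig
        _ ≤ _ := h2
        _ ≤ 2 ^ (n + 1) * 2 ^ (n + 1) := Nat.mul_le_mul (card_cent_le h.co hx') (card_cent_le h.co hy)
        _ = 2 ^ (n + 1 + (n + 1)) := (pow_add _ _ _).symm
    have h4 := (Nat.pow_le_pow_iff_right (by norm_num : 1 < 2)).1 h3
    omega
  rcases hnot with hq | hp
  · refine ⟨g, hv, h.caseX (fun b hb => hT ⟨b, hb, rfl⟩) hv ?_⟩
    intro b hb x y hxy
    exact hq x y (hxy ▸ ⟨b, hb, rfl⟩)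
  · -- replace `g` by `w g`
    have hwf : ∀ x y, w * f (x, y) * w⁻¹ = f (y, x) := h.wr.w_conj
    have hg' : ∀ b, (w * g) * b * (w * g)⁻¹ = w * (g * b * g⁻¹) * w⁻¹ := by
      intro b
      group
    have hA' : ∀ a ∈ h.A, w * a * w⁻¹ ∈ h.A := by
      intro a ha
      obtain ⟨a, b, c, d, rfl⟩ := h.mem_A.1 ha
      rw [hwf]
      exact h.f_mem_A _ _ _ _
    have hv' : (w * g) * f (s, 1) * (w * g)⁻¹ ∈ h.A := by
      rw [hg']
      exact hA' _ hv
    refine ⟨w * g, hv', h.caseX ?_ hv' ?_⟩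
    · intro b hb
      rw [hg']
      obtain ⟨⟨x, y⟩, hxy⟩ := hT (⟨b, hb, rfl⟩ : g * b * g⁻¹ ∈ B')
      rw [← hxy, hwf]
      exact ⟨_, rfl⟩
    · intro b hb x y hxy
      rw [hg'] at hxy
      apply hp y x
      have h1 : f (y, x) = g * b * g⁻¹ := by
        have h2 : w * (w * (g * b * g⁻¹) * w⁻¹) * w⁻¹ = w * f (x, y) * w⁻¹ := by rw [hxy]
        rw [hwf] at h2
        rw [← h2]
        have hww := h.wr.w_w
        calc w * (w * (g * b * g⁻¹) * w⁻¹) * w⁻¹ = (w * w) * (g * b * g⁻¹) * (w * w)⁻¹ := by group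
          _ = g * b * g⁻¹ := by rw [hww]; group
      rw [h1]
      exact ⟨b, hb, rfl⟩

/-- the element `y₀ ∈ C_G(D)` moving `(s, 1)` into `A`. -/
theorem exists_y₀ (hG : ∀ φ : G →* ℤˣ, ∀ x, φ x = 1) :
    ∃ (y₀ : G) (a b c d : ZMod (2 ^ n)), Cen f u y₀ ∧ a + a = 0 ∧ b + b = 0 ∧ c + c = 0 ∧ d + d = 0 ∧
      SemiconjBy y₀ (f (s, 1)) (f (u a b, u c d)) ∧ a = b + 2 ^ (n - 1) := by
  obtain ⟨g₀, hg₀, hg₀S⟩ := h.exists_g hG
  obtain ⟨g, hgv, hgB⟩ := h.B_into_A (g := g₀) (by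
    intro b hb
    obtain ⟨x, y, rfl, hx, -⟩ := h.mem_B.1 hb
    exact hg₀S x y hx) hg₀
  have hD : ∀ a c e, f (u a a, u c e) ∈ h.B := by
    intro a c e
    exact h.mem_B.2 ⟨_, _, rfl, by rw [h.co.z_u], h.co.u_mem_base _ _⟩
  let X : Set G := {x | ∃ a c e, x = f (u a a, u c e)}
  obtain ⟨η, hη, hηX⟩ := h.control (X := X) (by
    rintro _ ⟨a, c, e, rfl⟩
    exact h.f_mem_A _ _ _ _) (g := g) (by
    rintro _ ⟨a, c, e, rfl⟩
    exact hgB _ (hD a c e))
  have hy : Cen f u (η⁻¹ * g) := by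
    intro a c e
    have h1 := hηX (f (u a a, u c e)) ⟨a, c, e, rfl⟩
    show η⁻¹ * g * f (u a a, u c e) = f (u a a, u c e) * (η⁻¹ * g)
    calc η⁻¹ * g * f (u a a, u c e) = η⁻¹ * (g * f (u a a, u c e) * g⁻¹) * g := by group
      _ = η⁻¹ * (η * f (u a a, u c e) * η⁻¹) * g := by rw [h1]
      _ = _ := by group
  have hv : (η⁻¹ * g) * f (s, 1) * (η⁻¹ * g)⁻¹ ∈ h.A := by
    have h1 := conj_inv_mem hη _ hgv
    have h2 : (η⁻¹ * g) * f (s, 1) * (η⁻¹ * g)⁻¹ = η⁻¹ * (g * f (s, 1) * g⁻¹) * η := by group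
    rwa [h2]
  obtain ⟨a, b, c, d, hab⟩ := h.mem_A.1 hv
  have hsemi : SemiconjBy (η⁻¹ * g) (f (s, 1)) (f (u a b, u c d)) := by
    show _ = _
    rw [← hab]
    group
  have hss : f (u a b, u c d) * f (u a b, u c d) = 1 := by
    have h1 := hsemi.mul_right hsemi
    have h2 : f (s, 1) * f (s, 1) = 1 := by
      rw [h.wr.f_mul_f, h.co.z_z, one_mul]
      exact map_one f
    rw [h2] at h1
    have h3 : (η⁻¹ * g) * 1 = (f (u a b, u c d) * f (u a b, u c d)) * (η⁻¹ * g) := h1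
    rw [mul_one] at h3
    exact (right_eq_mul.1 h3)
  rw [h.wr.f_mul_f, h.co.u_mul, h.co.u_mul, h.wr.f_eq_one_iff, Prod.mk_eq_one, h.co.u_eq_one_iff,
    h.co.u_eq_one_iff] at hss
  obtain ⟨⟨ha, hb⟩, hc, hd⟩ := hss
  refine ⟨η⁻¹ * g, a, b, c, d, hy, ha, hb, hc, hd, hsemi, ?_⟩
  have h1 : 2 * (a - b) = 0 := by linear_combination ha - hb
  rcases (two_mul_eq_zero_iff n h.co.one_le _).1 h1 with h2 | h2
  · exfalso
    have h3 : a = b := sub_eq_zero.1 h2
    subst h3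
    -- then `(s,1) ∈ D`
    have h4 := hy a c d
    have h5 : (η⁻¹ * g) * f (s, 1) = (η⁻¹ * g) * f (u a a, u c d) := by
      rw [hsemi.eq, h4.eq]
    have h6 := mul_left_cancel h5
    rw [h.wr.f_eq_iff, Prod.mk.injEq] at h6
    exact h.co.z_not_mem_base ⟨a, a, h6.1⟩
  · linear_combination h2

/-- **The element `ρ`**, general form: `ρ` centralises `Z(W₁) × W₂` and `(i,1) ↦ (j,v) ↦ (ij,v)` with
`v = u j j ∈ Ω₁(Z(W))`. -/
theorem exists_rho (hG : ∀ φ : G →* ℤˣ, ∀ x, φ x = 1) :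
    ∃ (ρ : G) (j : ZMod (2 ^ n)), j + j = 0 ∧ (∀ a x, SemiconjBy ρ (f (u a a, x)) (f (u a a, x))) ∧
      SemiconjBy ρ (f (u (-(2 ^ (n - 2))) (2 ^ (n - 2)), 1)) (f (u (2 ^ (n - 2)) (2 ^ (n - 2)) * s, u j j)) ∧
      SemiconjBy ρ (f (u (2 ^ (n - 2)) (2 ^ (n - 2)) * s, u j j))
        (f (u (-(2 ^ (n - 2))) (2 ^ (n - 2)) * (u (2 ^ (n - 2)) (2 ^ (n - 2)) * s), u j j)) := by
  obtain ⟨y₀, a, b, c, d, h88⟩ := h.exists_y₀ hG
  revert h88; rintro ⟨hy₀, ha, hb, hc, hd, h88⟩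
  revert h88; rintro ⟨hs, hab⟩
  obtain ⟨y, i, j, k, hy, h88⟩ := h.exists_y hy₀ ha hb hc hd hs hab
  revert h88; rintro ⟨-, hj, -, h1, h2, h3⟩
  obtain ⟨ρ, hρ1, hρ2, hρ3⟩ := h.exists_rho_of_y hy h1 h2 h3
  exact ⟨ρ, j, hj, hρ1, hρ2, hρ3⟩

omit [Finite G] in
/-- the hom `W → ⟨v⟩` with kernel the base, `v = u j j`, `j + j = 0` -/
theorem exists_mu {j : ZMod (2 ^ n)} (hj : j + j = 0) : ∃ μ : W →* W, (∀ x ∈ h.co.base, μ x = 1) ∧
    (∀ x, x ∉ h.co.base → μ x = u j j) ∧ (∀ x y, μ x * y = y * μ x) ∧ ∀ x, μ (μ x) = x → x = 1 := by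
  classical
  have hvv : u j j * u j j = 1 := by rw [h.co.u_mul, hj, h.co.u_zero]
  let μ : W →* W :=
    { toFun := fun x => if x ∈ h.co.base then 1 else u j j
      map_one' := if_pos h.co.base.one_mem
      map_mul' := by
        intro x y
        have h1 := h.base_iff (x := x) (y := y)
        by_cases hx : x ∈ h.co.base <;> by_cases hy : y ∈ h.co.base <;> simp [h1, hx, hy, hvv] }
  have hμ1 : ∀ x ∈ h.co.base, μ x = 1 := fun x hx => if_pos hx
  have hμ2 : ∀ x, x ∉ h.co.base → μ x = u j j := fun x hx => if_neg hx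
  refine ⟨μ, hμ1, hμ2, ?_, ?_⟩
  · intro x y
    by_cases hx : x ∈ h.co.base
    · rw [hμ1 x hx, one_mul, mul_one]
    · rw [hμ2 x hx]
      rcases h.co.cases y with ⟨a, b, rfl⟩ | ⟨a, b, rfl⟩
      · exact h.co.u_comm _ _ _ _
      · rw [h.co.u_mul_uz, h.co.uz_mul_u]
        congr 2 <;> ring
  · intro x hx
    have h1 : μ x ∈ h.co.base := by
      by_cases hx : x ∈ h.co.base
      · rw [hμ1 x hx]
        exact h.co.base.one_mem
      · rw [hμ2 x hx]
        exact h.co.u_mem_base _ _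
    rw [hμ1 _ h1] at hx
    exact hx.symm

/-- **`IsRho`** after a twist of `f` which does not change `f` on `A₀ × A₀`. -/
theorem exists_isRho (hG : ∀ φ : G →* ℤˣ, ∀ x, φ x = 1) :
    ∃ (μ : W →* W) (hμ : ∀ x y, μ x * y = y * μ x), (∀ x, μ (μ x) = x → x = 1) ∧
      (∀ a b, μ (u a b) = 1) ∧ Ctx S (f.comp (twistHom μ hμ)) w u s ∧
      (∀ a b c d, f.comp (twistHom μ hμ) (u a b, u c d) = f (u a b, u c d)) ∧
      ∃ ρ : G, IsRho (f.comp (twistHom μ hμ)) u s ρ := by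
  have hfin : Finite W := h.co.finite
  obtain ⟨ρ, j, hj, h1, h2, h3⟩ := h.exists_rho hG
  obtain ⟨μ, hμ1, hμ2, hμ, hinj⟩ := h.exists_mu hj
  have hA : ∀ a b c d, f.comp (twistHom μ hμ) (u a b, u c d) = f (u a b, u c d) := by
    intro a b c d
    show f (u a b * μ (u c d), u c d * μ (u a b)) = _
    rw [hμ1 _ (h.co.u_mem_base c d), hμ1 _ (h.co.u_mem_base a b), mul_one, mul_one]
  refine ⟨μ, hμ, hinj, fun a b => hμ1 _ (h.co.u_mem_base a b), ⟨h.wr.twist μ hμ hinj, h.co, ?_⟩, hA, ρ, ?_⟩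
  · intro g hg a b c d
    obtain ⟨a', b', c', d', h4⟩ := h.weak g (fun a b c d => by
      rw [← hA]
      exact hg a b c d) a b c d
    exact ⟨a', b', c', d', by rw [hA, hA, h4]⟩
  · have e1 : ∀ x y, f.comp (twistHom μ hμ) (x, y) = f (x * μ y, y * μ x) := fun x y => rfl
    refine ⟨?_, ?_, ?_⟩
    · intro a y
      rw [e1, hμ1 _ (h.co.u_mem_base a a), mul_one]
      by_cases hy : y ∈ h.co.base
      · rw [hμ1 y hy, mul_one]
        exact h1 a y
      · rw [hμ2 y hy, h.co.u_mul]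
        exact h1 (a + j) y
    · rw [e1, e1, hμ1 1 h.co.base.one_mem, hμ1 _ (h.co.u_mem_base _ _), hμ2 _ (h.co.uz_not_mem_base _ _), mul_one,
        mul_one, one_mul, mul_one, h2.eq, mul_inv_cancel_right]
    · rw [e1, e1, hμ1 1 h.co.base.one_mem, hμ2 _ (h.co.uz_not_mem_base _ _), mul_one, one_mul]
      have h4 : u (-(2 ^ (n - 2))) (2 ^ (n - 2)) * (u (2 ^ (n - 2)) (2 ^ (n - 2)) * s) ∉ h.co.base := by
        rw [h.co.u_mul_uz]
        exact h.co.uz_not_mem_base _ _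
      rw [hμ2 _ h4, mul_one, one_mul, h3.eq, mul_inv_cancel_right]

end Ctx

end Cfsg.Agent.TypeLFive.WRho
end

-- part: TypeLFive/WRComb
section
/-!
# S0511 (F): the two counting lemmas on `E = 2^4` for the fusion of `w`
-/

set_option autoImplicit false

namespace Cfsg.Agent.TypeLFive.WRComb

open Cfsg.Agent.TypeLFive.EOrbit

attribute [local instance high] _root_.Finset.decidableExistsAndFinset _root_.List.decidableBAll _root_.List.decidableBEx in
set_option maxRecDepth 100000 in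
set_option maxHeartbeats 4000000 in
theorem pick_c : ∀ a b : V,
    (∀ x ∈ [b, vy + b, vy + a, a + b, vy + a + b, a], x ≠ 0 ∧ x ≠ vt ∧ x ≠ vt2) →
    ∃ x ∈ [b, vy + b, vy + a, a + b, vy + a + b], ∃ p ∈ D, x = v1 ∘ p := by
  decide +kernel

attribute [local instance high] _root_.Finset.decidableExistsAndFinset _root_.List.decidableBAll _root_.List.decidableBEx in
set_option maxRecDepth 100000 in
set_option maxHeartbeats 4000000 in
theorem pick_a : ∀ a b : V,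
    (∀ x ∈ [a, b, vz + a, vz + b, a + b, vz + a + b], x ≠ 0 ∧ x ≠ vt ∧ x ≠ vt2) →
    (∃ x ∈ [a, b, vz + a, vz + b, a + b, vz + a + b], ∃ p ∈ D, x = v1 ∘ p) ∧
    ∃ x ∈ [a, b, vz + a, vz + b, a + b, vz + a + b], ∃ p ∈ D, x = v3 ∘ p := by
  decide +kernel

theorem vt_orb : ∀ x : V, (∃ p ∈ D, x = vt ∘ p) → x = vt ∨ x = vt2 := by
  decide +kernel

end Cfsg.Agent.TypeLFive.WRComb
end

-- part: TypeLFive/ExtTransfer
section
/-!
# Refined Thompson transfer

`G` without subgroups of index two, `P` a Sylow 2-subgroup, `M` of index two in `P`, `x` an involution: then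
some conjugate `v = g x g⁻¹ ∈ M` satisfies `g C_P(x) g⁻¹ ≤ P` and `C_P(v)` is Sylow in `C_G(v)`.
-/

set_option autoImplicit false

namespace Cfsg.Agent.TypeLFive.ExtTransfer

open Subgroup Cfsg.Agent.Lib.GoldschmidtFusion

variable {G : Type*} [Group G]

/-- `g` maps `x` to an element of `P` fully centralised in `P`, and `C_P(x)` into `P`. -/
structure Ext (P : Subgroup G) (x g : G) : Prop where
  mem : g * x * g⁻¹ ∈ P
  cen : ∀ y ∈ P, y * x = x * y → g * y * g⁻¹ ∈ P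
  syl : ∀ R : Subgroup G, IsPGroup 2 R → (∀ r ∈ R, r * (g * x * g⁻¹) = g * x * g⁻¹ * r) →
    ∃ c, c * (g * x * g⁻¹) = g * x * g⁻¹ * c ∧ ∀ r ∈ R, c * r * c⁻¹ ∈ P

/-- followed by an element of `P` -/
theorem Ext.mul {P : Subgroup G} {x g : G} (h : Ext P x g) {r : G} (hr : r ∈ P) :
    Ext P x (r * g) where
  mem := by
    have e : r * g * x * (r * g)⁻¹ = r * (g * x * g⁻¹) * r⁻¹ := by group
    rw [e]
    exact P.mul_mem (P.mul_mem hr h.mem) (P.inv_mem hr)
  cen y hy hyx := by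
    have e : r * g * y * (r * g)⁻¹ = r * (g * y * g⁻¹) * r⁻¹ := by group
    rw [e]
    exact P.mul_mem (P.mul_mem hr (h.cen y hy hyx)) (P.inv_mem hr)
  syl R hR hRc := by
    obtain ⟨c, hc, hcR⟩ := h.syl (R.map (MulAut.conj r⁻¹).toMonoidHom) (hR.map _) (by
      rintro _ ⟨y, hy, rfl⟩
      have h1 := hRc y hy
      simp only [MulEquiv.coe_toMonoidHom, MulAut.conj_apply, inv_inv]
      calc r⁻¹ * y * r * (g * x * g⁻¹) = r⁻¹ * (y * (r * g * x * (r * g)⁻¹)) * r := by group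
        _ = r⁻¹ * (r * g * x * (r * g)⁻¹ * y) * r := by rw [h1]
        _ = _ := by group)
    refine ⟨r * c * r⁻¹, ?_, ?_⟩
    · calc r * c * r⁻¹ * (r * g * x * (r * g)⁻¹) = r * (c * (g * x * g⁻¹)) * r⁻¹ := by group
        _ = r * (g * x * g⁻¹ * c) * r⁻¹ := by rw [hc]
        _ = _ := by group
    · intro y hy
      have h1 := hcR (r⁻¹ * y * r) ⟨y, hy, by simp only [_root_.map_inv, _root_.MulEquiv.toMonoidHom_eq_coe, _root_.MonoidHom.coe_coe, _root_.MulAut.inv_apply, _root_.MulAut.conj_symm_apply]⟩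
      have e : r * c * r⁻¹ * y * (r * c * r⁻¹)⁻¹ = r * (c * (r⁻¹ * y * r) * c⁻¹) * r⁻¹ := by group
      rw [e]
      exact P.mul_mem (P.mul_mem hr h1) (P.inv_mem hr)

/-- **Refined Thompson transfer** (every involution of `G` has a fully centralised conjugate in `M`). -/
theorem exists_ext [Finite G] (P : Sylow 2 G) (hG : ∀ M : Subgroup G, M.index ≠ 2)
    (M : Subgroup G) (hM : M.relIndex (P : Subgroup G) = 2) {x : G} (hxx : x * x = 1) :
    ∃ g : G, g * x * g⁻¹ ∈ M ∧ Ext (P : Subgroup G) x g := by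
  classical
  obtain ⟨φ, hφ⟩ := SylowSp4.Extremal.exists_char (M.subgroupOf (P : Subgroup G)) hM
  have hPG : IsPGroup 2 (P : Subgroup G) := P.isPGroup'
  have := Fintype.ofFinite (G ⧸ (P : Subgroup G))
  obtain ⟨f, hf, hprod⟩ := StdL3.OneParity.transfer_eq_prod_fixed (P : Subgroup G) φ x hxx
  rw [SylowSp4.Extremal.char_trivial hG] at hprod
  have hxi : x⁻¹ = x := inv_eq_of_mul_eq_one_right hxx
  -- membership in the fixed set
  have hfix : ∀ g : G, x • (g : G ⧸ (P : Subgroup G)) = (g : G ⧸ (P : Subgroup G)) ↔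
      g⁻¹ * x * g ∈ (P : Subgroup G) := by
    intro g
    rw [MulAction.Quotient.smul_mk, smul_eq_mul, QuotientGroup.eq]
    have : (x * g)⁻¹ * g = g⁻¹ * x * g := by rw [mul_inv_rev, hxi]
    rw [this]
  -- the Sylow subgroup `R` of `C(x)`
  obtain ⟨R, hxR, hRN, hR, hRi⟩ := exists_sylow_in (p := 2) (N := centralizer ({x} : Set G))
    (D := (P : Subgroup G) ⊓ centralizer ({x} : Set G)) inf_le_right (hPG.to_le inf_le_left)
  have hRx : ∀ r ∈ R, r * x = x * r := fun r hr => mem_centralizer_singleton_iff.1 (hRN hr)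
  set F := Finset.univ.filter (fun q : G ⧸ (P : Subgroup G) => x • q = q) with hF
  set F1 := F.filter (fun q => f q = 1) with hF1
  have hxq : ∀ q : G ⧸ (P : Subgroup G), x • (x • q) = q := by
    intro q; rw [← mul_smul, hxx, one_smul]
  have hP3 : Odd (Fintype.card (G ⧸ (P : Subgroup G))) := by
    have h3 : ¬ 2 ∣ (P : Subgroup G).index := P.not_dvd_index
    rw [← Nat.not_even_iff_odd, even_iff_two_dvd, ← Nat.card_eq_fintype_card]
    exact h3
  -- the number of fixed points with value `1` is odd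
  have hF1odd : (-1 : ℤˣ) ^ F1.card = -1 := by
    have h1 : ∏ _q : G ⧸ (P : Subgroup G), (-1 : ℤˣ) = -1 := by
      rw [Finset.prod_const, Finset.card_univ, hP3.neg_one_pow]
    have h2 : ∏ _q ∈ Finset.univ.filter (fun q : G ⧸ (P : Subgroup G) => ¬ x • q = q),
        (-1 : ℤˣ) = 1 := by
      apply Finset.prod_involution (fun q _ => x • q)
      · intro q _; decide
      · intro q hq _ h
        simp only [Finset.mem_filter, Finset.mem_univ, true_and] at hq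
        exact hq h
      · intro q _; exact hxq q
      · intro q hq
        simp only [Finset.mem_filter, Finset.mem_univ, true_and] at hq ⊢
        intro h
        exact hq (MulAction.injective x h)
    have h3 : ∏ _q ∈ F, (-1 : ℤˣ) = -1 := by
      rw [← Finset.prod_filter_mul_prod_filter_not Finset.univ
        (fun q : G ⧸ (P : Subgroup G) => x • q = q), h2, mul_one] at h1
      exact h1
    have h4 : ∏ q ∈ F, (-1 * f q) = -1 := by
      rw [Finset.prod_mul_distrib, h3, ← hprod, mul_one]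
    rw [← Finset.prod_filter_mul_prod_filter_not F (fun q => f q = 1)] at h4
    have h5 : ∏ q ∈ F.filter (fun q => f q = 1), (-1 * f q) = (-1) ^ F1.card := by
      rw [← Finset.prod_const]
      apply Finset.prod_congr rfl
      intro q hq
      rw [(Finset.mem_filter.1 hq).2, mul_one]
    have h6 : ∏ q ∈ F.filter (fun q => ¬ f q = 1), (-1 * f q) = 1 := by
      apply Finset.prod_eq_one
      intro q hq
      have h7 := (Finset.mem_filter.1 hq).2
      rw [(Int.units_eq_one_or (f q)).resolve_left h7]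
      decide
    rw [h5, h6, mul_one] at h4
    exact h4
  -- `R` acts on `F1`
  have hinv : ∀ r ∈ R, ∀ q : G ⧸ (P : Subgroup G), (x • q = q ∧ f q = 1) →
      (x • (r • q) = r • q ∧ f (r • q) = 1) := by
    rintro r hr q ⟨h1, h2⟩
    obtain ⟨g, rfl⟩ := QuotientGroup.mk_surjective q
    have h3 := (hfix g).1 h1
    have h4 : (r * g)⁻¹ * x * (r * g) = g⁻¹ * x * g := by
      calc (r * g)⁻¹ * x * (r * g) = g⁻¹ * r⁻¹ * (x * r) * g := by group
        _ = g⁻¹ * r⁻¹ * (r * x) * g := by rw [hRx r hr]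
        _ = _ := by group
    have h5 : (r * g)⁻¹ * x * (r * g) ∈ (P : Subgroup G) := by rw [h4]; exact h3
    have h6 : r • ((g : G) : G ⧸ (P : Subgroup G)) = ((r * g : G) : G ⧸ (P : Subgroup G)) := by
      rw [MulAction.Quotient.smul_mk, smul_eq_mul]
    constructor
    · rw [h6]; exact (hfix _).2 h5
    · rw [hf _ (r * g) h6.symm h5, ← h2, hf _ g rfl h3]
      congr 1
      exact Subtype.ext h4
  let α := {q : G ⧸ (P : Subgroup G) // x • q = q ∧ f q = 1}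
  let _ : MulAction R α :=
    { smul := fun r q => ⟨(r : G) • q.1, hinv r r.2 q.1 q.2⟩
      one_smul := fun q => Subtype.ext (one_smul G q.1)
      mul_smul := fun r r' q => Subtype.ext (mul_smul (r : G) (r' : G) q.1) }
  have hα : ¬ 2 ∣ Nat.card α := by
    intro h2
    have h3 : Nat.card α = F1.card := by
      rw [Nat.card_eq_fintype_card, Fintype.card_subtype]
      congr 1
      ext q
      simp [hF1, hF]
    rw [h3] at h2
    rw [(even_iff_two_dvd.2 h2).neg_one_pow] at hF1odd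
    exact absurd hF1odd (by decide)
  obtain ⟨⟨q, hq1, hq2⟩, hq⟩ := hR.nonempty_fixed_point_of_prime_not_dvd_card α hα
  obtain ⟨g, rfl⟩ := QuotientGroup.mk_surjective q
  have hgx := (hfix g).1 hq1
  have hRg : ∀ r ∈ R, g⁻¹ * r * g ∈ (P : Subgroup G) := by
    intro r hr
    have h1 := hq ⟨r, hr⟩
    have h2 : r • ((g : G) : G ⧸ (P : Subgroup G)) = (g : G ⧸ (P : Subgroup G)) :=
      congrArg Subtype.val h1
    rw [MulAction.Quotient.smul_mk, smul_eq_mul, eq_comm, QuotientGroup.eq] at h2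
    rwa [mul_assoc]
  refine ⟨g⁻¹, ?_, ?_, ?_, ?_⟩
  · rw [inv_inv]
    have h1 := hf _ g rfl hgx
    rw [hq2] at h1
    exact (hφ _).1 h1.symm
  · rw [inv_inv]; exact hgx
  · intro y hy hyx
    rw [inv_inv]
    exact hRg y (hxR ⟨hy, mem_centralizer_singleton_iff.2 hyx⟩)
  · intro R' hR' hR'c
    rw [inv_inv] at hR'c ⊢
    obtain ⟨m, hm, hmD⟩ := exists_conj_le_in hR hRi (D := R'.map (MulAut.conj g).toMonoidHom) (by
      rintro _ ⟨y, hy, rfl⟩
      rw [mem_centralizer_singleton_iff]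
      have h1 := hR'c y hy
      change g * y * g⁻¹ * x = x * (g * y * g⁻¹)
      calc g * y * g⁻¹ * x = g * (y * (g⁻¹ * x * g)) * g⁻¹ := by group
        _ = g * (g⁻¹ * x * g * y) * g⁻¹ := by rw [h1]
        _ = _ := by group) (hR'.map _)
    have hmx := mem_centralizer_singleton_iff.1 hm
    refine ⟨g⁻¹ * m * g, ?_, ?_⟩
    · calc g⁻¹ * m * g * (g⁻¹ * x * g) = g⁻¹ * (m * x) * g := by group
        _ = g⁻¹ * (x * m) * g := by rw [hmx]
        _ = _ := by group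
    · intro y hy
      have h1 := hRg _ (hmD (mem_map_of_mem _ ⟨y, hy, rfl⟩))
      have e : g⁻¹ * m * g * y * (g⁻¹ * m * g)⁻¹ = g⁻¹ * (m * (g * y * g⁻¹) * m⁻¹) * g := by group
      rw [e]
      simpa only [_root_.MulEquiv.toMonoidHom_eq_coe, _root_.MonoidHom.coe_coe, _root_.MulAut.conj_apply] using h1

end Cfsg.Agent.TypeLFive.ExtTransfer
end

-- part: TypeLFive/WRFive
section
/-!
# S0511 (F), step (5) in the wreathed case: `w` is conjugate to `t` and `t` to `(d, d)`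

`ζ = u h h`, `d = u h 0`, `h = 2 ^ (n - 1)`.
-/

set_option autoImplicit false

namespace Cfsg.Agent.TypeLFive.WRFive

open Cfsg.Agent.TypeLFive.Model Cfsg.Agent.TypeLFive.Facts Cfsg.Agent.TypeLFive.ExtTransfer
open Cfsg.Agent.TwoFusion.QDBasic Cfsg.Agent.TwoFusion.WreathedBasic
open Cfsg.Agent.TypeLFive.EOrbit Cfsg.Agent.TypeLFive.WRComb
open scoped commutatorElement

variable {G W : Type*} [Group G] [Group W] {n : ℕ}

/-- The standing hypotheses. -/
structure Ctx (S : Subgroup G) (f : W × W →* G) (w : G)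
    (u : ZMod (2 ^ n) → ZMod (2 ^ n) → W) (s : W) : Prop where
  wr : Wr S f w
  co : IsWCoord n u s
  weak : ∀ g : G, (∀ a b c d, g * f (u a b, u c d) * g⁻¹ ∈ S) →
    ∀ a b c d, ∃ a' b' c' d', g * f (u a b, u c d) * g⁻¹ = f (u a' b', u c' d')
  not_conj : ¬ IsConj (f (u (2 ^ (n - 1)) (2 ^ (n - 1)), 1))
    (f (u (2 ^ (n - 1)) (2 ^ (n - 1)), u (2 ^ (n - 1)) (2 ^ (n - 1))))
  rho : ∃ (ρ : G) (v : W), (v = 1 ∨ v = u (2 ^ (n - 1)) (2 ^ (n - 1))) ∧
    (∀ a y, ρ * f (u a a, y) = f (u a a, y) * ρ) ∧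
    ρ * f (s, 1) * ρ⁻¹ = f (u (2 ^ (n - 1)) 0, v)

/-- noncentral involution of `W` -/
structure NC (ζ x : W) : Prop where
  sq : x * x = 1
  ne_one : x ≠ 1
  ne : x ≠ ζ

section

variable {S : Subgroup G} {f : W × W →* G} {w : G} {u : ZMod (2 ^ n) → ZMod (2 ^ n) → W} {s : W}

theorem diag_of {h : IsWCoord n u s} {v : W} (hv : v = 1 ∨ v = u (2 ^ (n - 1)) (2 ^ (n - 1))) :
    ∃ a, v = u a a := by
  rcases hv with rfl | rfl
  · exact ⟨0, h.u_zero.symm⟩
  · exact ⟨_, rfl⟩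

namespace Ctx

theorem base (c : Ctx S f w u s) : WBase (u (2 ^ (n - 1)) (2 ^ (n - 1))) := wr_base c.co

/-- moving the first coordinate to `d`. -/
theorem move1 (c : Ctx S f w u s) {x : W} (hx : NC (u (2 ^ (n - 1)) (2 ^ (n - 1))) x) :
    ∃ (m : G) (v : W), (v = 1 ∨ v = u (2 ^ (n - 1)) (2 ^ (n - 1))) ∧
      (∀ a y, m * f (u a a, y) = f (u a a, y) * m) ∧
      m * f (x, 1) * m⁻¹ = f (u (2 ^ (n - 1)) 0, v) := by
  have h := c.co
  rcases wr_inv_cases h x hx.sq hx.ne_one hx.ne with rfl | rfl | ⟨a, rfl⟩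
  · exact ⟨1, 1, Or.inl rfl, fun a y => by group, by group⟩
  · refine ⟨f (s, 1), 1, Or.inl rfl, fun a y => ?_, ?_⟩
    · rw [c.wr.f_comm_f_iff]
      exact ⟨(wr_diag_central h a s).symm, by group⟩
    · rw [← map_inv, ← map_mul, ← map_mul]
      congr 1
      ext
      · exact h.z_conj_u _ _
      · simp
  · obtain ⟨ρ, v, hv, h1, h2⟩ := c.rho
    refine ⟨ρ * f (u (-a) 0, 1), v, hv, fun b y => ?_, ?_⟩
    · have h3 : f (u (-a) 0, 1) * f (u b b, y) = f (u b b, y) * f (u (-a) 0, 1) := by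
        rw [c.wr.f_comm_f_iff]
        exact ⟨h.u_comm _ _ _ _, by group⟩
      rw [mul_assoc, h3, ← mul_assoc, h1, mul_assoc]
    · rw [← h2]
      have h3 : f (u (-a) 0, 1) * f (u a (-a) * s, 1) * (f (u (-a) 0, 1))⁻¹ = f (s, 1) := by
        rw [← map_inv, ← map_mul, ← map_mul]
        congr 1
        ext
        · change u (-a) 0 * (u a (-a) * s) * (u (-a) 0)⁻¹ = s
          rw [h.u_conj_uz]
          have e1 : (-a - 0 + a : ZMod (2 ^ n)) = 0 := by ring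
          have e2 : (0 - -a + -a : ZMod (2 ^ n)) = 0 := by ring
          simp [h.u_zero]
        · simp
      calc ρ * f (u (-a) 0, 1) * f (u a (-a) * s, 1) * (ρ * f (u (-a) 0, 1))⁻¹ =
          ρ * (f (u (-a) 0, 1) * f (u a (-a) * s, 1) * (f (u (-a) 0, 1))⁻¹) * ρ⁻¹ := by group
        _ = _ := by rw [h3]

/-- moving the second coordinate to `d`. -/
theorem move2 (c : Ctx S f w u s) {x : W} (hx : NC (u (2 ^ (n - 1)) (2 ^ (n - 1))) x) :
    ∃ (m : G) (v : W), (v = 1 ∨ v = u (2 ^ (n - 1)) (2 ^ (n - 1))) ∧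
      (∀ a y, m * f (y, u a a) = f (y, u a a) * m) ∧
      m * f (1, x) * m⁻¹ = f (v, u (2 ^ (n - 1)) 0) := by
  obtain ⟨m, v, hv, h1, h2⟩ := c.move1 hx
  have hw := c.wr.w_inv
  refine ⟨w * m * w⁻¹, v, hv, fun a y => ?_, ?_⟩
  · have h3 := h1 a y
    calc w * m * w⁻¹ * f (y, u a a) = w * m * (w⁻¹ * f (y, u a a) * w) * w⁻¹ := by group
      _ = w * m * f (u a a, y) * w⁻¹ := by rw [hw, c.wr.w_conj' y (u a a)]
      _ = w * (m * f (u a a, y)) * w⁻¹ := by group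
      _ = w * (f (u a a, y) * m) * w⁻¹ := by rw [h3]
      _ = w * f (u a a, y) * w⁻¹ * (w * m * w⁻¹) := by group
      _ = _ := by rw [c.wr.w_conj]
  · calc w * m * w⁻¹ * f (1, x) * (w * m * w⁻¹)⁻¹ =
        w * (m * (w⁻¹ * f (1, x) * w) * m⁻¹) * w⁻¹ := by group
      _ = w * (m * f (x, 1) * m⁻¹) * w⁻¹ := by rw [hw, c.wr.w_conj']
      _ = _ := by rw [h2, c.wr.w_conj]

/-- moving both coordinates. -/
theorem move (c : Ctx S f w u s) {x y : W} (hx : NC (u (2 ^ (n - 1)) (2 ^ (n - 1))) x)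
    (hy : NC (u (2 ^ (n - 1)) (2 ^ (n - 1))) y) :
    ∃ (m : G) (v1 v2 : W), (v1 = 1 ∨ v1 = u (2 ^ (n - 1)) (2 ^ (n - 1))) ∧
      (v2 = 1 ∨ v2 = u (2 ^ (n - 1)) (2 ^ (n - 1))) ∧
      (∀ a b, m * f (u a a, u b b) = f (u a a, u b b) * m) ∧
      m * f (x, 1) * m⁻¹ = f (u (2 ^ (n - 1)) 0, v1) ∧
      m * f (1, y) * m⁻¹ = f (v2, u (2 ^ (n - 1)) 0) := by
  obtain ⟨m1, v1, hv1, h1, h1'⟩ := c.move1 hx
  obtain ⟨m2, v2, hv2, h2, h2'⟩ := c.move2 hy
  refine ⟨m2 * m1, v1, v2, hv1, hv2, fun a b => ?_, ?_, ?_⟩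
  · rw [mul_assoc, h1, ← mul_assoc, h2, mul_assoc]
  · obtain ⟨a, ha⟩ := diag_of (h := c.co) hv1
    have h3 := h2 a (u (2 ^ (n - 1)) 0)
    calc m2 * m1 * f (x, 1) * (m2 * m1)⁻¹ = m2 * (m1 * f (x, 1) * m1⁻¹) * m2⁻¹ := by group
      _ = m2 * f (u (2 ^ (n - 1)) 0, v1) * m2⁻¹ := by rw [h1']
      _ = f (u (2 ^ (n - 1)) 0, v1) := by rw [ha, h3]; group
  · have h3 := h1 0 y
    rw [c.co.u_zero] at h3
    calc m2 * m1 * f (1, y) * (m2 * m1)⁻¹ = m2 * (m1 * f (1, y) * m1⁻¹) * m2⁻¹ := by group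
      _ = m2 * f (1, y) * m2⁻¹ := by rw [h3]; group
      _ = _ := h2'

/-- `f (d v, d v')` is `S`-conjugate to `f (d, d)`. -/
theorem conj_dd (c : Ctx S f w u s) (a b : W)
    (ha : a = u (2 ^ (n - 1)) 0 ∨ a = u 0 (2 ^ (n - 1)))
    (hb : b = u (2 ^ (n - 1)) 0 ∨ b = u 0 (2 ^ (n - 1))) :
    ∃ p : W × W, f p * f (a, b) * (f p)⁻¹ = f (u (2 ^ (n - 1)) 0, u (2 ^ (n - 1)) 0) := by
  have key : ∀ a : W, (a = u (2 ^ (n - 1)) 0 ∨ a = u 0 (2 ^ (n - 1))) →
      ∃ x : W, x * a * x⁻¹ = u (2 ^ (n - 1)) 0 := by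
    rintro a (rfl | rfl)
    · exact ⟨1, by group⟩
    · exact ⟨s, c.co.z_conj_u _ _⟩
  obtain ⟨x, hx⟩ := key a ha
  obtain ⟨y, hy⟩ := key b hb
  refine ⟨(x, y), ?_⟩
  rw [← map_inv, ← map_mul, ← map_mul]
  congr 1
  ext
  · exact hx
  · exact hy

theorem d_mul (c : Ctx S f w u s) {v : W} (hv : v = 1 ∨ v = u (2 ^ (n - 1)) (2 ^ (n - 1))) :
    u (2 ^ (n - 1)) 0 * v = u (2 ^ (n - 1)) 0 ∨ u (2 ^ (n - 1)) 0 * v = u 0 (2 ^ (n - 1)) := by
  have h := c.co
  rcases hv with rfl | rfl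
  · left; rw [mul_one]
  · right
    rw [h.u_mul, zero_add]
    congr 1
    rw [← two_mul, two_mul_half n h.one_le]

theorem mul_d (c : Ctx S f w u s) {v : W} (hv : v = 1 ∨ v = u (2 ^ (n - 1)) (2 ^ (n - 1))) :
    v * u (2 ^ (n - 1)) 0 = u (2 ^ (n - 1)) 0 ∨ v * u (2 ^ (n - 1)) 0 = u 0 (2 ^ (n - 1)) := by
  have h := c.co
  rcases hv with rfl | rfl
  · left; rw [one_mul]
  · right
    rw [h.u_mul, add_zero]
    congr 1
    rw [← two_mul, two_mul_half n h.one_le]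

/-- `f (x, y)` with `x`, `y` noncentral involutions is conjugate to `f (d, d)`. -/
theorem conj_nc (c : Ctx S f w u s) {x y : W} (hx : NC (u (2 ^ (n - 1)) (2 ^ (n - 1))) x)
    (hy : NC (u (2 ^ (n - 1)) (2 ^ (n - 1))) y) :
    IsConj (f (x, y)) (f (u (2 ^ (n - 1)) 0, u (2 ^ (n - 1)) 0)) := by
  obtain ⟨m, v1, v2, hv1, hv2, hm, h1, h2⟩ := c.move hx hy
  obtain ⟨p, hp⟩ := c.conj_dd (u (2 ^ (n - 1)) 0 * v2) (v1 * u (2 ^ (n - 1)) 0) (c.d_mul hv2)
    (c.mul_d hv1)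
  rw [isConj_iff]
  refine ⟨f p * m, ?_⟩
  rw [← hp]
  have e1 : f (x, y) = f (x, 1) * f (1, y) := by rw [← map_mul]; simp
  have e2 : f (u (2 ^ (n - 1)) 0 * v2, v1 * u (2 ^ (n - 1)) 0) =
      f (u (2 ^ (n - 1)) 0, v1) * f (v2, u (2 ^ (n - 1)) 0) := by rw [← map_mul]; rfl
  rw [e1, e2, ← h1, ← h2]
  group

end Ctx

/-! ### the elementary abelian group `E` -/

/-- the embedding of `ZMod 2` in `ZMod (2 ^ n)` -/
def cz (n : ℕ) (a : ZMod 2) : ZMod (2 ^ n) := if a = 0 then 0 else 2 ^ (n - 1)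

theorem cz_add (n : ℕ) (hn : 1 ≤ n) (a b : ZMod 2) : cz n (a + b) = cz n a + cz n b := by
  have h := two_mul_half n hn
  have h2 : (2 : ZMod (2 ^ n)) ^ (n - 1) + 2 ^ (n - 1) = 0 := by rw [← two_mul, h]
  have key : ∀ a b : ZMod 2, (a = 0 ∨ a = 1) ∧ (b = 0 ∨ b = 1) := by decide
  have h10 : (1 : ZMod 2) ≠ 0 := by decide
  have h11 : (1 + 1 : ZMod 2) = 0 := by decide
  rcases key a b with ⟨rfl | rfl, rfl | rfl⟩ <;> simp only [cz, h11, h2, _root_.add_zero, ↓ _root_.reduceIte, _root_.zero_add, _root_.one_ne_zero]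

theorem cz_ne (n : ℕ) (hn : 1 ≤ n) (a : ZMod 2) (h : cz n a = 0) : a = 0 := by
  by_contra ha
  rw [cz, if_neg ha] at h
  exact half_ne_zero n hn h

theorem cz_cases (n : ℕ) (a : ZMod (2 ^ n)) (ha : a = 0 ∨ a = 2 ^ (n - 1)) : ∃ b, a = cz n b := by
  rcases ha with rfl | rfl
  · exact ⟨0, by simp [cz]⟩
  · exact ⟨1, by simp only [cz, _root_.one_ne_zero, ↓ _root_.reduceIte]⟩

/-- `E` in coordinates. -/
def ph (f : W × W →* G) (u : ZMod (2 ^ n) → ZMod (2 ^ n) → W) (x : V) : G :=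
  f (u (cz n (x 0)) (cz n (x 1)), u (cz n (x 2)) (cz n (x 3)))

namespace Ctx

theorem ph_emb (c : Ctx S f w u s) : Emb (ph f u) where
  add x y := by
    unfold ph
    rw [← map_mul, Prod.mk_mul_mk, c.co.u_mul, c.co.u_mul]
    simp only [Pi.add_apply, cz_add n c.co.one_le]
  inj x hx := by
    unfold ph at hx
    rw [c.wr.f_eq_one_iff, Prod.mk_eq_one, c.co.u_eq_one_iff, c.co.u_eq_one_iff] at hx
    obtain ⟨⟨h0, h1⟩, h2, h3⟩ := hx
    have g := cz_ne n c.co.one_le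
    funext i
    fin_cases i
    · exact g _ h0
    · exact g _ h1
    · exact g _ h2
    · exact g _ h3

theorem ph_vz (c : Ctx S f w u s) : ph f u vz =
    f (u (2 ^ (n - 1)) (2 ^ (n - 1)), u (2 ^ (n - 1)) (2 ^ (n - 1))) := by
  have := c.co
  simp only [ph, vz, cz, _root_.Fin.isValue, _root_.Matrix.cons_val_zero, _root_.one_ne_zero, ↓ _root_.reduceIte, _root_.Matrix.cons_val_one, _root_.Matrix.cons_val]

theorem ph_vt (c : Ctx S f w u s) : ph f u vt = f (u (2 ^ (n - 1)) (2 ^ (n - 1)), 1) := by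
  have h := c.co.u_zero
  simp only [ph, vt, cz, h, _root_.Fin.isValue, _root_.Matrix.cons_val_zero, _root_.one_ne_zero, ↓ _root_.reduceIte, _root_.Matrix.cons_val_one, _root_.Matrix.cons_val]

theorem ph_vt2 (c : Ctx S f w u s) : ph f u vt2 = f (1, u (2 ^ (n - 1)) (2 ^ (n - 1))) := by
  have h := c.co.u_zero
  simp only [ph, vt2, cz, h, _root_.Fin.isValue, _root_.Matrix.cons_val_zero, ↓ _root_.reduceIte, _root_.Matrix.cons_val_one, _root_.Matrix.cons_val, _root_.one_ne_zero]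

theorem ph_vy (c : Ctx S f w u s) : ph f u vy = f (u (2 ^ (n - 1)) 0, u (2 ^ (n - 1)) 0) := by
  have h := c.co.u_zero
  simp only [ph, vy, cz, _root_.Fin.isValue, _root_.Matrix.cons_val_zero, _root_.one_ne_zero, ↓ _root_.reduceIte, _root_.Matrix.cons_val_one, _root_.Matrix.cons_val]

theorem ph_v1 (c : Ctx S f w u s) : ph f u v1 = f (u (2 ^ (n - 1)) 0, 1) := by
  have h := c.co.u_zero
  simp only [ph, v1, cz, h, _root_.Fin.isValue, _root_.Matrix.cons_val_zero, _root_.one_ne_zero, ↓ _root_.reduceIte, _root_.Matrix.cons_val_one, _root_.Matrix.cons_val]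

/-- involutions of `A` are in `E` -/
theorem exists_ph (c : Ctx S f w u s) (a b a' b' : ZMod (2 ^ n))
    (h : f (u a b, u a' b') * f (u a b, u a' b') = 1) : ∃ x, f (u a b, u a' b') = ph f u x := by
  rw [← map_mul, Prod.mk_mul_mk, c.wr.f_eq_one_iff, Prod.mk_eq_one, wr_u_sq_iff c.co,
    wr_u_sq_iff c.co] at h
  obtain ⟨⟨h0, h1⟩, h2, h3⟩ := h
  obtain ⟨x0, rfl⟩ := cz_cases n a h0
  obtain ⟨x1, rfl⟩ := cz_cases n b h1
  obtain ⟨x2, rfl⟩ := cz_cases n a' h2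
  obtain ⟨x3, rfl⟩ := cz_cases n b' h3
  exact ⟨![x0, x1, x2, x3], by simp [ph]⟩

theorem conj_u (c : Ctx S f w u s) (x : W) (a b : ZMod (2 ^ n)) :
    x * u a b * x⁻¹ = u a b ∨ x * u a b * x⁻¹ = u b a := by
  rcases c.co.cases x with ⟨p, q, rfl⟩ | ⟨p, q, rfl⟩
  · left; exact c.co.u_conj_u _ _ _ _
  · right; exact c.co.uz_conj_u _ _ _ _

theorem ph_hyp (c : Ctx S f w u s) : Hyp S (ph f u) where
  toEmb := c.ph_emb
  norm g hg x := by
    have key : ∀ p q : W, ∀ a b a' b' : ZMod 2, ∃ y,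
        f (p, q) * f (u (cz n a) (cz n b), u (cz n a') (cz n b')) * (f (p, q))⁻¹ = ph f u y := by
      intro p q a b a' b'
      have e : f (p, q) * f (u (cz n a) (cz n b), u (cz n a') (cz n b')) * (f (p, q))⁻¹ =
        f (p * u (cz n a) (cz n b) * p⁻¹, q * u (cz n a') (cz n b') * q⁻¹) := by
        rw [← map_inv, ← map_mul, ← map_mul]; rfl
      rw [e]
      rcases c.conj_u p (cz n a) (cz n b) with h1 | h1 <;>
        rcases c.conj_u q (cz n a') (cz n b') with h2 | h2 <;> rw [h1, h2]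
      · exact ⟨![a, b, a', b'], by simp [ph]⟩
      · exact ⟨![a, b, b', a'], by simp [ph]⟩
      · exact ⟨![b, a, a', b'], by simp [ph]⟩
      · exact ⟨![b, a, b', a'], by simp [ph]⟩
    rcases c.wr.cases g hg with ⟨p, q, rfl⟩ | ⟨p, q, rfl⟩
    · exact key _ _ _ _ _ _
    · have e : f (p, q) * w * ph f u x * (f (p, q) * w)⁻¹ =
        f (p, q) * (w * ph f u x * w⁻¹) * (f (p, q))⁻¹ := by group
      rw [e, ph, c.wr.w_conj]
      exact key _ _ _ _ _ _
  a := by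
    refine ⟨f (s, 1), c.wr.mem _, fun x => ?_⟩
    rw [ph, ← map_inv, ← map_mul, ← map_mul]
    simp only [Prod.mk_mul_mk, Prod.inv_mk, c.co.z_conj_u, one_mul, inv_one, mul_one]
    simp [ph, Equiv.swap_apply_def]
  b := by
    refine ⟨f (1, s), c.wr.mem _, fun x => ?_⟩
    rw [ph, ← map_inv, ← map_mul, ← map_mul]
    simp only [Prod.mk_mul_mk, Prod.inv_mk, c.co.z_conj_u, one_mul, inv_one, mul_one]
    simp [ph, Equiv.swap_apply_def]
  c := by
    refine ⟨w, c.wr.w_mem, fun x => ?_⟩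
    rw [ph, c.wr.w_conj]
    simp [ph, Equiv.swap_apply_def]

/-- an involution commuting with a noncentral involution `x` is in `⟨ζ, x⟩`. -/
theorem inv_comm (c : Ctx S f w u s) {x : W} (hx : NC (u (2 ^ (n - 1)) (2 ^ (n - 1))) x) (y : W)
    (hy : y * y = 1) (hyx : y * x = x * y) :
    y = 1 ∨ y = u (2 ^ (n - 1)) (2 ^ (n - 1)) ∨ y = x ∨ y = u (2 ^ (n - 1)) (2 ^ (n - 1)) * x := by
  have h := c.co
  have h2 : (2 : ZMod (2 ^ n)) ^ (n - 1) + 2 ^ (n - 1) = 0 := by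
    rw [← two_mul, two_mul_half n h.one_le]
  have hd : ∀ x : W, (x = u (2 ^ (n - 1)) 0 ∨ x = u 0 (2 ^ (n - 1))) → (∃ p q, y = u p q) →
      y = 1 ∨ y = u (2 ^ (n - 1)) (2 ^ (n - 1)) ∨ y = x ∨
        y = u (2 ^ (n - 1)) (2 ^ (n - 1)) * x := by
    rintro x hx ⟨p, q, rfl⟩
    rcases (wr_u_sq_iff h p q).1 hy with ⟨rfl | rfl, rfl | rfl⟩
    · left; exact h.u_zero
    · right; right
      rcases hx with rfl | rfl
      · right; rw [h.u_mul, h2, add_zero]
      · left; rfl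
    · right; right
      rcases hx with rfl | rfl
      · left; rfl
      · right; rw [h.u_mul, h2, add_zero]
    · right; left; rfl
  rcases wr_inv_cases h x hx.sq hx.ne_one hx.ne with rfl | rfl | ⟨a, rfl⟩
  · exact hd _ (Or.inl rfl) (wr_cent_u h _ _ (half_ne_zero n h.one_le) y hyx)
  · exact hd _ (Or.inr rfl) (wr_cent_u h _ _ (half_ne_zero n h.one_le).symm y hyx)
  · rcases wr_cent_us h _ _ y hyx with ⟨b, rfl⟩ | ⟨b, rfl⟩
    · rcases (wr_u_sq_iff h b b).1 hy with ⟨rfl | rfl, -⟩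
      · left; exact h.u_zero
      · right; left; rfl
    · right; right
      have h3 : u b b * u b b = 1 := by
        calc u b b * u b b = u b b * (u a (-a) * s * (u a (-a) * s)) * u b b := by
              rw [hx.sq, mul_one]
          _ = u b b * (u a (-a) * s) * ((u a (-a) * s) * u b b) := by group
          _ = u b b * (u a (-a) * s) * (u b b * (u a (-a) * s)) := by
              rw [wr_diag_central h b (u a (-a) * s)]
          _ = 1 := hy
      rcases (wr_u_sq_iff h b b).1 h3 with ⟨rfl | rfl, -⟩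
      · left; rw [h.u_zero, one_mul]
      · right; rfl

theorem central_or (x : W) (hx : x * x = 1) :
    (x = 1 ∨ x = u (2 ^ (n - 1)) (2 ^ (n - 1))) ∨ NC (u (2 ^ (n - 1)) (2 ^ (n - 1))) x := by
  by_cases h1 : x = 1
  · exact Or.inl (Or.inl h1)
  by_cases h2 : x = u (2 ^ (n - 1)) (2 ^ (n - 1))
  · exact Or.inl (Or.inr h2)
  exact Or.inr ⟨hx, h1, h2⟩

theorem zt2 (c : Ctx S f w u s) : ¬ IsConj (f (1, u (2 ^ (n - 1)) (2 ^ (n - 1))))
    (f (u (2 ^ (n - 1)) (2 ^ (n - 1)), u (2 ^ (n - 1)) (2 ^ (n - 1)))) := by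
  intro h
  apply c.not_conj
  refine IsConj.trans ?_ h
  rw [isConj_iff]
  exact ⟨w, c.wr.w_conj _ _⟩

theorem comm_sd (c : Ctx S f w u s) : s * u (2 ^ (n - 1)) 0 =
    u (2 ^ (n - 1)) (2 ^ (n - 1)) * u (2 ^ (n - 1)) 0 * s := by
  have h := c.co
  rw [h.z_u, h.u_mul, ← two_mul, two_mul_half n h.one_le, add_zero]

theorem sq_mem (c : Ctx S f w u s) {x : G} (hx : x ∈ S) : ∃ a b, x * x = f (a, b) := by
  rcases c.wr.cases x hx with ⟨a, b, rfl⟩ | ⟨a, b, rfl⟩
  · exact ⟨_, _, c.wr.f_mul_f _ _ _ _⟩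
  · exact ⟨_, _, c.wr.fw_sq _ _⟩

/-- the images of `(s, s)`, `(d, d)`, `z` under `g`. -/
theorem images (c : Ctx S f w u s) {g : G} (hE : _root_.Cfsg.Agent.TypeLFive.ExtTransfer.Ext S w g) :
    ∃ (X : G) (x2 y2 z1 z2 : W), X ∈ S ∧
      X * (g * w * g⁻¹) = g * w * g⁻¹ * X ∧
      g * f (u (2 ^ (n - 1)) 0, u (2 ^ (n - 1)) 0) * g⁻¹ = f (x2, y2) ∧
      g * f (u (2 ^ (n - 1)) (2 ^ (n - 1)), u (2 ^ (n - 1)) (2 ^ (n - 1))) * g⁻¹ = f (z1, z2) ∧
      X * f (x2, y2) = f (z1, z2) * f (x2, y2) * X ∧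
      f (x2, y2) * (g * w * g⁻¹) = g * w * g⁻¹ * f (x2, y2) ∧
      f (z1, z2) * (g * w * g⁻¹) = g * w * g⁻¹ * f (z1, z2) ∧
      f (z1, z2) * f (x2, y2) = f (x2, y2) * f (z1, z2) ∧
      x2 * x2 = 1 ∧ y2 * y2 = 1 ∧ z1 * z1 = 1 ∧ z2 * z2 = 1 ∧
      f (z1, z2) ≠ 1 ∧ f (z1, z2) ≠ g * w * g⁻¹ := by
  have h := c.co
  have hh := wr_half h
  have hz := wr_zeta_sq h
  have hcomm : ∀ x : W, f (x, x) * w = w * f (x, x) := fun x => (c.wr.f_comm_w_iff x x).2 rfl
  have hconj : ∀ x : W, g * f (x, x) * g⁻¹ * (g * w * g⁻¹) = g * w * g⁻¹ * (g * f (x, x) * g⁻¹) := by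
    intro x
    calc g * f (x, x) * g⁻¹ * (g * w * g⁻¹) = g * (f (x, x) * w) * g⁻¹ := by group
      _ = g * (w * f (x, x)) * g⁻¹ := by rw [hcomm]
      _ = _ := by group
  have hmem : ∀ x : W, g * f (x, x) * g⁻¹ ∈ S := fun x => hE.cen _ (c.wr.mem _) (hcomm x)
  have hsq : ∀ x : W, ∃ a b, g * f (x * x, x * x) * g⁻¹ = f (a, b) := by
    intro x
    obtain ⟨a, b, e⟩ := c.sq_mem (hmem x)
    refine ⟨a, b, ?_⟩
    rw [← e, ← c.wr.f_mul_f]; group
  have hdd : u (2 ^ (n - 1)) 0 = u (2 ^ (n - 2)) 0 * u (2 ^ (n - 2)) 0 := by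
    rw [h.u_mul, hh, add_zero]; congr 1; ring
  have hzz : u (2 ^ (n - 1)) (2 ^ (n - 1)) =
      u (2 ^ (n - 2)) (2 ^ (n - 2)) * u (2 ^ (n - 2)) (2 ^ (n - 2)) := by
    rw [h.u_mul, hh]; congr 1 <;> ring
  obtain ⟨x2, y2, hY⟩ := hsq (u (2 ^ (n - 2)) 0)
  obtain ⟨z1, z2, hZ⟩ := hsq (u (2 ^ (n - 2)) (2 ^ (n - 2)))
  rw [← hdd] at hY
  rw [← hzz] at hZ
  have hd2 : u (2 ^ (n - 1)) 0 * u (2 ^ (n - 1)) 0 = 1 := by
    rw [wr_u_sq_iff h]; exact ⟨Or.inr rfl, Or.inl rfl⟩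
  have hY2 : f (x2, y2) * f (x2, y2) = 1 := by
    rw [← hY]
    have : f (u (2 ^ (n - 1)) 0, u (2 ^ (n - 1)) 0) * f (u (2 ^ (n - 1)) 0, u (2 ^ (n - 1)) 0) = 1 := by
      rw [c.wr.f_mul_f, hd2]; exact map_one f
    calc g * f (u (2 ^ (n - 1)) 0, u (2 ^ (n - 1)) 0) * g⁻¹ *
        (g * f (u (2 ^ (n - 1)) 0, u (2 ^ (n - 1)) 0) * g⁻¹) =
        g * (f (u (2 ^ (n - 1)) 0, u (2 ^ (n - 1)) 0) * f (u (2 ^ (n - 1)) 0, u (2 ^ (n - 1)) 0)) *
          g⁻¹ := by group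
      _ = 1 := by rw [this]; group
  have hZ2 : f (z1, z2) * f (z1, z2) = 1 := by
    rw [← hZ]
    have : f (u (2 ^ (n - 1)) (2 ^ (n - 1)), u (2 ^ (n - 1)) (2 ^ (n - 1))) *
        f (u (2 ^ (n - 1)) (2 ^ (n - 1)), u (2 ^ (n - 1)) (2 ^ (n - 1))) = 1 := by
      rw [c.wr.f_mul_f, hz]; exact map_one f
    calc g * f (u (2 ^ (n - 1)) (2 ^ (n - 1)), u (2 ^ (n - 1)) (2 ^ (n - 1))) * g⁻¹ *
        (g * f (u (2 ^ (n - 1)) (2 ^ (n - 1)), u (2 ^ (n - 1)) (2 ^ (n - 1))) * g⁻¹) =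
        g * (f (u (2 ^ (n - 1)) (2 ^ (n - 1)), u (2 ^ (n - 1)) (2 ^ (n - 1))) *
          f (u (2 ^ (n - 1)) (2 ^ (n - 1)), u (2 ^ (n - 1)) (2 ^ (n - 1)))) * g⁻¹ := by group
      _ = 1 := by rw [this]; group
  rw [c.wr.f_mul_f, c.wr.f_eq_one_iff, Prod.mk_eq_one] at hY2 hZ2
  refine ⟨g * f (s, s) * g⁻¹, x2, y2, z1, z2, hmem s, hconj s, hY, hZ, ?_, ?_, ?_, ?_, hY2.1, hY2.2,
    hZ2.1, hZ2.2, ?_, ?_⟩
  · rw [← hY, ← hZ]
    have e : f (s, s) * f (u (2 ^ (n - 1)) 0, u (2 ^ (n - 1)) 0) =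
        f (u (2 ^ (n - 1)) (2 ^ (n - 1)), u (2 ^ (n - 1)) (2 ^ (n - 1))) *
          f (u (2 ^ (n - 1)) 0, u (2 ^ (n - 1)) 0) * f (s, s) := by
      rw [c.wr.f_mul_f, c.wr.f_mul_f, c.wr.f_mul_f, c.comm_sd]
    calc g * f (s, s) * g⁻¹ * (g * f (u (2 ^ (n - 1)) 0, u (2 ^ (n - 1)) 0) * g⁻¹) =
        g * (f (s, s) * f (u (2 ^ (n - 1)) 0, u (2 ^ (n - 1)) 0)) * g⁻¹ := by group
      _ = _ := by rw [e]; group
  · rw [← hY]; exact hconj _
  · rw [← hZ]; exact hconj _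
  · rw [← hY, ← hZ]
    have e : f (u (2 ^ (n - 1)) (2 ^ (n - 1)), u (2 ^ (n - 1)) (2 ^ (n - 1))) *
          f (u (2 ^ (n - 1)) 0, u (2 ^ (n - 1)) 0) =
          f (u (2 ^ (n - 1)) 0, u (2 ^ (n - 1)) 0) *
          f (u (2 ^ (n - 1)) (2 ^ (n - 1)), u (2 ^ (n - 1)) (2 ^ (n - 1))) := by
      rw [c.wr.f_mul_f, c.wr.f_mul_f, wr_zeta_central h]
    calc g * f (u (2 ^ (n - 1)) (2 ^ (n - 1)), u (2 ^ (n - 1)) (2 ^ (n - 1))) * g⁻¹ *
        (g * f (u (2 ^ (n - 1)) 0, u (2 ^ (n - 1)) 0) * g⁻¹) =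
        g * (f (u (2 ^ (n - 1)) (2 ^ (n - 1)), u (2 ^ (n - 1)) (2 ^ (n - 1))) *
          f (u (2 ^ (n - 1)) 0, u (2 ^ (n - 1)) 0)) * g⁻¹ := by group
      _ = _ := by rw [e]; group
  · rw [← hZ, Ne, conj_eq_one_iff, c.wr.f_eq_one_iff, Prod.mk_eq_one]
    exact fun hh => wr_zeta_ne h hh.1
  · rw [← hZ]
    intro e
    exact c.wr.w_ne _ (mul_left_cancel (mul_right_cancel e))

/-- `f (b, b) w` is conjugate to `w` for `b * b = 1`. -/
theorem conj_bw (c : Ctx S f w u s) (b : W) (hb : b * b = 1) : IsConj w (f (b, b) * w) := by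
  rw [isConj_iff]
  refine ⟨f (b, 1), ?_⟩
  rw [c.wr.f_conj_w]
  have : b⁻¹ = b := inv_eq_of_mul_eq_one_right hb
  simp [this]

theorem d_sq (c : Ctx S f w u s) : u (2 ^ (n - 1)) 0 * u (2 ^ (n - 1)) 0 = 1 := by
  rw [wr_u_sq_iff c.co]; exact ⟨Or.inr rfl, Or.inl rfl⟩

theorem nc_d (c : Ctx S f w u s) : NC (u (2 ^ (n - 1)) (2 ^ (n - 1))) (u (2 ^ (n - 1)) 0) where
  sq := c.d_sq
  ne_one := by
    rw [Ne, c.co.u_eq_one_iff]
    exact fun hh => half_ne_zero n c.co.one_le hh.1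
  ne := by
    rw [Ne, c.co.u_eq_iff]
    exact fun hh => half_ne_zero n c.co.one_le hh.2.symm

theorem nc_zeta_mul (c : Ctx S f w u s) {x : W} (hx : NC (u (2 ^ (n - 1)) (2 ^ (n - 1))) x) :
    NC (u (2 ^ (n - 1)) (2 ^ (n - 1))) (u (2 ^ (n - 1)) (2 ^ (n - 1)) * x) where
  sq := by
    have h1 := wr_zeta_central c.co x
    calc u (2 ^ (n - 1)) (2 ^ (n - 1)) * x * (u (2 ^ (n - 1)) (2 ^ (n - 1)) * x) =
        u (2 ^ (n - 1)) (2 ^ (n - 1)) * x * (x * u (2 ^ (n - 1)) (2 ^ (n - 1))) := by rw [h1]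
      _ = u (2 ^ (n - 1)) (2 ^ (n - 1)) * (x * x) * u (2 ^ (n - 1)) (2 ^ (n - 1)) := by group
      _ = 1 := by rw [hx.sq, mul_one, wr_zeta_sq c.co]
  ne_one := by
    intro h1
    apply hx.ne
    have h2 := wr_zeta_sq c.co
    have h3 : u (2 ^ (n - 1)) (2 ^ (n - 1)) * x =
      u (2 ^ (n - 1)) (2 ^ (n - 1)) * u (2 ^ (n - 1)) (2 ^ (n - 1)) := by rw [h1, h2]
    exact mul_left_cancel h3
  ne := by
    intro h1
    exact hx.ne_one (mul_eq_left.1 h1)

/-- the classes of the seven involutions of `k ⟨w, z, (d, d)⟩ k⁻¹`. -/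
theorem seven (c : Ctx S f w u s) {k : G} {a1 a2 a3 : V} (h1 : k * w * k⁻¹ = ph f u a1)
    (h2 : k * ph f u vz * k⁻¹ = ph f u a2) (h3 : k * ph f u vy * k⁻¹ = ph f u a3) :
    IsConj w (ph f u a1) ∧ IsConj (ph f u vz) (ph f u a2) ∧ IsConj (ph f u vy) (ph f u a3) ∧
    IsConj w (ph f u (a1 + a2)) ∧ IsConj w (ph f u (a1 + a3)) ∧
    IsConj (ph f u vy) (ph f u (a2 + a3)) ∧ IsConj w (ph f u (a1 + a2 + a3)) := by
  have hE := c.ph_emb
  have hz := wr_zeta_sq c.co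
  have hcw : ∀ x y : G, IsConj x y → IsConj x (k * y * k⁻¹) := by
    intro x y hxy
    exact hxy.trans (isConj_iff.2 ⟨k, rfl⟩)
  have e23 : ph f u (vz + vy) = f (u (2 ^ (n - 1)) (2 ^ (n - 1)) * u (2 ^ (n - 1)) 0,
      u (2 ^ (n - 1)) (2 ^ (n - 1)) * u (2 ^ (n - 1)) 0) := by
    rw [hE.add, c.ph_vz, c.ph_vy, c.wr.f_mul_f]
  have key : ∀ x y : G, k * (x * y) * k⁻¹ = (k * x * k⁻¹) * (k * y * k⁻¹) := by
    intro x y; group
  refine ⟨isConj_iff.2 ⟨k, h1⟩, isConj_iff.2 ⟨k, h2⟩, isConj_iff.2 ⟨k, h3⟩, ?_, ?_, ?_, ?_⟩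
  · have h4 := hcw _ _ (c.conj_bw _ hz)
    rw [← c.ph_vz, key, h1, h2, ← hE.add, add_comm] at h4
    exact h4
  · have h4 := hcw _ _ (c.conj_bw _ c.d_sq)
    rw [← c.ph_vy, key, h1, h3, ← hE.add, add_comm] at h4
    exact h4
  · have h4 : IsConj (ph f u vy) (ph f u (vz + vy)) := by
      have h5 := c.conj_nc (c.nc_zeta_mul c.nc_d) (c.nc_zeta_mul c.nc_d)
      rw [e23, c.ph_vy]
      exact h5.symm
    have h5 := hcw _ _ h4
    rw [hE.add, key, h2, h3, ← hE.add] at h5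
    exact h5
  · have h4 := hcw _ _ (c.conj_bw _ (c.nc_zeta_mul c.nc_d).sq)
    rw [← e23, hE.add, key, key, h1, h2, h3, ← hE.add, ← hE.add] at h4
    have e : a1 + a2 + a3 = a2 + a3 + a1 := by abel
    rw [e]; exact h4

theorem ne_one_of_conj {x y : G} (h : IsConj x y) (hx : x ≠ 1) : y ≠ 1 := by
  rintro rfl
  exact hx (isConj_one_right.1 h.symm)

theorem w_ne (c : Ctx S f w u s) : w ≠ 1 := c.wr.w_ne_one

theorem ph_ne_one (c : Ctx S f w u s) {x : V} (hx : x ≠ 0) : ph f u x ≠ 1 :=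
  fun h => hx (c.ph_emb.inj x h)

theorem conj_t_t2 (c : Ctx S f w u s) : IsConj (ph f u vt) (ph f u vt2) := by
  rw [c.ph_vt, c.ph_vt2, isConj_iff]
  exact ⟨w, c.wr.w_conj _ _⟩

theorem rel_conj {N : Subgroup G} {φ : V → G} {x y : V} (h : _root_.Cfsg.Agent.TypeLFive.EOrbit.Rel N φ x y) :
    IsConj (φ x) (φ y) := by
  obtain ⟨g, -, e⟩ := h
  exact isConj_iff.2 ⟨g, e⟩

/-- **case (c)**: `w` is conjugate to `(d, d)`. -/
theorem case_c (c : Ctx S f w u s) {k : G} {a2 a3 : V} (h1 : k * w * k⁻¹ = ph f u vy)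
    (h2 : k * ph f u vz * k⁻¹ = ph f u a2) (h3 : k * ph f u vy * k⁻¹ = ph f u a3)
    (hs : IsPGroup 2 S)
    (syl : ∀ R : Subgroup G, IsPGroup 2 R → (∀ r ∈ R, r * ph f u vy = ph f u vy * r) →
      ∃ l, l * ph f u vy = ph f u vy * l ∧ ∀ r ∈ R, l * r * l⁻¹ ∈ S) :
    IsConj (ph f u vt) (ph f u vy) := by
  by_contra hcon
  have hE := c.ph_emb
  have hH := c.ph_hyp
  obtain ⟨q1, q2, q3, q4, q5, q6, q7⟩ := c.seven h1 h2 h3
  have hzt : ¬ IsConj (ph f u vt) (ph f u vz) := by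
    rw [c.ph_vt, c.ph_vz]; exact c.not_conj
  have hy0 : ph f u vy ≠ 1 := c.ph_ne_one (by decide)
  have hz0 : ph f u vz ≠ 1 := c.ph_ne_one (by decide)
  have good1 : ∀ x, IsConj (ph f u vy) (ph f u x) → x ≠ 0 ∧ x ≠ vt ∧ x ≠ vt2 := by
    intro x hx
    refine ⟨?_, ?_, ?_⟩
    · rintro rfl
      exact ne_one_of_conj hx hy0 hE.zero
    · rintro rfl; exact hcon hx.symm
    · rintro rfl; exact hcon (c.conj_t_t2.trans hx.symm)
  have good2 : ∀ x, IsConj (ph f u vz) (ph f u x) → x ≠ 0 ∧ x ≠ vt ∧ x ≠ vt2 := by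
    intro x hx
    refine ⟨?_, ?_, ?_⟩
    · rintro rfl
      exact ne_one_of_conj hx hz0 hE.zero
    · rintro rfl; exact hzt hx.symm
    · rintro rfl; exact hzt (c.conj_t_t2.trans hx.symm)
  have q1' := q1.symm
  obtain ⟨x, hx, p, hp, rfl⟩ := pick_c a2 a3 (by
    intro x hx
    simp only [List.mem_cons, List.not_mem_nil, or_false] at hx
    rcases hx with rfl | rfl | rfl | rfl | rfl | rfl
    · exact good1 _ q3
    · exact good1 _ (q1'.trans q5)
    · exact good1 _ (q1'.trans q4)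
    · exact good1 _ q6
    · exact good1 _ (q1'.trans q7)
    · exact good2 _ q2)
  have hyx : IsConj (ph f u vy) (ph f u (v1 ∘ p)) := by
    simp only [List.mem_cons, List.not_mem_nil, or_false] at hx
    rcases hx with hx | hx | hx | hx | hx
    · rw [hx]; exact q3
    · rw [hx]; exact q1'.trans q5
    · rw [hx]; exact q1'.trans q4
    · rw [hx]; exact q6
    · rw [hx]; exact q1'.trans q7
  have hy1 : IsConj (ph f u v1) (ph f u vy) :=
    (rel_conj (hH.rel_perm p hp v1)).trans hyx.symm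
  rw [c.ph_v1] at hy1
  obtain ⟨m, hm⟩ := isConj_iff.1 hy1
  -- `R = f (A₀ × W)`
  have hR0 : IsPGroup 2 f.range := hs.to_le c.wr.range_le
  let R : Subgroup G := ((c.co.base).prod (⊤ : Subgroup W)).map f
  have hRle : R ≤ f.range := by
    rintro _ ⟨p, -, rfl⟩; exact ⟨p, rfl⟩
  have hRp : IsPGroup 2 R := hR0.to_le hRle
  obtain ⟨l, hl, hlR⟩ := syl (R.map (MulAut.conj m).toMonoidHom) (hRp.map _) (by
    rintro _ ⟨_, ⟨⟨x, y⟩, ⟨⟨a, b, hx⟩, -⟩, rfl⟩, rfl⟩
    change x = u a b at hx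
    subst hx
    have e : f (u a b, y) * f (u (2 ^ (n - 1)) 0, 1) = f (u (2 ^ (n - 1)) 0, 1) * f (u a b, y) := by
      rw [c.wr.f_comm_f_iff]
      exact ⟨c.co.u_comm _ _ _ _, by group⟩
    change m * f (u a b, y) * m⁻¹ * ph f u vy = ph f u vy * (m * f (u a b, y) * m⁻¹)
    rw [← hm]
    calc m * f (u a b, y) * m⁻¹ * (m * f (u (2 ^ (n - 1)) 0, 1) * m⁻¹) =
        m * (f (u a b, y) * f (u (2 ^ (n - 1)) 0, 1)) * m⁻¹ := by group
      _ = _ := by rw [e]; group)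
  have hlm : ∀ a b y, l * m * f (u a b, y) * (l * m)⁻¹ ∈ S := by
    intro a b y
    have h4 := hlR _ ⟨f (u a b, y), ⟨(u a b, y), ⟨⟨a, b, rfl⟩, trivial⟩, rfl⟩, rfl⟩
    have e : l * m * f (u a b, y) * (l * m)⁻¹ = l * (m * f (u a b, y) * m⁻¹) * l⁻¹ := by group
    rw [e]; exact h4
  have hvy : ∀ a b y, l * m * f (u a b, y) * (l * m)⁻¹ * ph f u vy =
      ph f u vy * (l * m * f (u a b, y) * (l * m)⁻¹) := by
    intro a b y
    have e : f (u a b, y) * f (u (2 ^ (n - 1)) 0, 1) = f (u (2 ^ (n - 1)) 0, 1) * f (u a b, y) := by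
      rw [c.wr.f_comm_f_iff]
      exact ⟨c.co.u_comm _ _ _ _, by group⟩
    have e2 : ph f u vy = l * m * f (u (2 ^ (n - 1)) 0, 1) * (l * m)⁻¹ := by
      calc ph f u vy = l * ph f u vy * l⁻¹ := by rw [hl]; group
        _ = _ := by rw [← hm]; group
    rw [e2]
    calc l * m * f (u a b, y) * (l * m)⁻¹ * (l * m * f (u (2 ^ (n - 1)) 0, 1) * (l * m)⁻¹) =
        l * m * (f (u a b, y) * f (u (2 ^ (n - 1)) 0, 1)) * (l * m)⁻¹ := by group
      _ = _ := by rw [e]; group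
  have hweak := c.weak (l * m) (fun a b c' d => hlm a b (u c' d))
  -- the image of `(1, s)` is not in `A`
  have hfin : Finite W := c.co.finite
  have hsA : ∀ a b a' b', l * m * f (1, s) * (l * m)⁻¹ ≠ f (u a b, u a' b') := by
    intro a b a' b' hc
    -- `A` is mapped onto `A`
    let A : Set (W × W) := {p | ∃ a b c d, p = (u a b, u c d)}
    have hmap : ∀ p : A, ∃ q : A, l * m * f p * (l * m)⁻¹ = f q := by
      rintro ⟨_, a, b, c', d, rfl⟩
      obtain ⟨a1, b1, c1, d1, e⟩ := hweak a b c' d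
      exact ⟨⟨_, a1, b1, c1, d1, rfl⟩, e⟩
    choose F hF using hmap
    have hFi : Function.Injective F := by
      intro p q hpq
      have h5 := hF p
      rw [hpq, ← hF q] at h5
      exact Subtype.ext (c.wr.inj (mul_left_cancel (mul_right_cancel h5)))
    have hFs : Function.Surjective F := Finite.surjective_of_injective hFi
    obtain ⟨⟨_, a1, b1, c1, d1, rfl⟩, hq⟩ := hFs ⟨(u a b, u a' b'), a, b, a', b', rfl⟩
    have h5 := hF ⟨_, a1, b1, c1, d1, rfl⟩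
    rw [hq, ← hc] at h5
    have h6 := c.wr.inj (mul_left_cancel (mul_right_cancel h5))
    have h7 := congrArg Prod.snd h6
    exact c.co.z_not_mem_base ⟨c1, d1, h7.symm⟩
  -- the image of `(1, s)` is `f (a, b) w`
  have hs1 := hlm 0 0 s
  have hs2 := hvy 0 0 s
  rw [c.co.u_zero] at hs1 hs2
  have hd0 : (2 : ZMod (2 ^ n)) ^ (n - 1) ≠ 0 := half_ne_zero n c.co.one_le
  rcases c.wr.cases _ hs1 with ⟨x, y, hxy⟩ | ⟨x, y, hxy⟩
  · rw [hxy, c.ph_vy, c.wr.f_comm_f_iff] at hs2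
    obtain ⟨a, b, rfl⟩ := wr_cent_u c.co _ _ hd0 x hs2.1
    obtain ⟨a', b', rfl⟩ := wr_cent_u c.co _ _ hd0 y hs2.2
    exact hsA _ _ _ _ hxy
  · rw [hxy, c.ph_vy, c.wr.fw_comm_f_iff] at hs2
    obtain ⟨a, b, rfl⟩ := wr_cent_u c.co _ _ hd0 x hs2.1
    obtain ⟨a', b', rfl⟩ := wr_cent_u c.co _ _ hd0 y hs2.2
    -- the image of `t`
    obtain ⟨p1, p2, p3, p4, ht⟩ := hweak (2 ^ (n - 1)) (2 ^ (n - 1)) 0 0
    rw [c.co.u_zero] at ht
    have htt : l * m * f (u (2 ^ (n - 1)) (2 ^ (n - 1)), 1) * (l * m)⁻¹ *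
        (l * m * f (u (2 ^ (n - 1)) (2 ^ (n - 1)), 1) * (l * m)⁻¹) = 1 := by
      have e : f (u (2 ^ (n - 1)) (2 ^ (n - 1)), 1) * f (u (2 ^ (n - 1)) (2 ^ (n - 1)), 1) = 1 := by
        rw [c.wr.f_mul_f, wr_zeta_sq c.co, one_mul]; exact map_one f
      calc _ = l * m * (f (u (2 ^ (n - 1)) (2 ^ (n - 1)), 1) *
            f (u (2 ^ (n - 1)) (2 ^ (n - 1)), 1)) * (l * m)⁻¹ := by group
        _ = 1 := by rw [e]; group
    have hcm : f (u a b, u a' b') * w * f (u p1 p2, u p3 p4) =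
        f (u p1 p2, u p3 p4) * (f (u a b, u a' b') * w) := by
      rw [← hxy, ← ht]
      have e : f (1, s) * f (u (2 ^ (n - 1)) (2 ^ (n - 1)), 1) =
          f (u (2 ^ (n - 1)) (2 ^ (n - 1)), 1) * f (1, s) := by
        rw [c.wr.f_comm_f_iff]; exact ⟨by group, by group⟩
      calc l * m * f (1, s) * (l * m)⁻¹ *
          (l * m * f (u (2 ^ (n - 1)) (2 ^ (n - 1)), 1) * (l * m)⁻¹) =
          l * m * (f (1, s) * f (u (2 ^ (n - 1)) (2 ^ (n - 1)), 1)) * (l * m)⁻¹ := by group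
        _ = _ := by rw [e]; group
    rw [c.wr.fw_comm_f_iff] at hcm
    have e34 : u p3 p4 = u p1 p2 := by
      have := hcm.1
      rw [c.co.u_comm] at this
      exact mul_right_cancel this
    rw [e34] at ht
    have htc : IsConj (ph f u vt) (f (u p1 p2, u p1 p2)) := by
      rw [c.ph_vt]; exact isConj_iff.2 ⟨l * m, ht⟩
    have hne : f (u p1 p2, u p1 p2) ≠ 1 := ne_one_of_conj htc (c.ph_ne_one (by decide))
    have hpp : u p1 p2 * u p1 p2 = 1 := by
      rw [ht, c.wr.f_mul_f, c.wr.f_eq_one_iff, Prod.mk_eq_one] at htt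
      exact htt.1
    rcases central_or (u := u) (u p1 p2) hpp with (h5 | h5) | h5
    · rw [h5] at hne; exact hne (map_one f)
    · rw [h5, ← c.ph_vz] at htc
      exact hzt htc
    · apply hcon
      rw [c.ph_vy]
      exact htc.trans (c.conj_nc h5 h5)

/-- **case (a)**: `w` is not conjugate to `z` in the way `w ↦ z`, `z ↦ E`, `(d, d) ↦ E`. -/
theorem case_a (c : Ctx S f w u s) {k : G} {a2 a3 : V} (h1 : k * w * k⁻¹ = ph f u vz)
    (h2 : k * ph f u vz * k⁻¹ = ph f u a2) (h3 : k * ph f u vy * k⁻¹ = ph f u a3)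
    (hzy : IsConj (ph f u vz) (ph f u vy))
    (hcen : ∀ y : G, IsConj y (ph f u vz) → ∃ l : G, l * y * l⁻¹ = ph f u vz ∧
      ∀ r ∈ S, r * y = y * r → l * r * l⁻¹ ∈ S) : False := by
  have hE := c.ph_emb
  have hH := c.ph_hyp
  obtain ⟨q1, q2, q3, q4, q5, q6, q7⟩ := c.seven h1 h2 h3
  have hzt : ¬ IsConj (ph f u vt) (ph f u vz) := by
    rw [c.ph_vt, c.ph_vz]; exact c.not_conj
  have hz0 : ph f u vz ≠ 1 := c.ph_ne_one (by decide)
  have good2 : ∀ x, IsConj (ph f u vz) (ph f u x) → x ≠ 0 ∧ x ≠ vt ∧ x ≠ vt2 := by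
    intro x hx
    refine ⟨?_, ?_, ?_⟩
    · rintro rfl
      exact ne_one_of_conj hx hz0 hE.zero
    · rintro rfl; exact hzt hx.symm
    · rintro rfl; exact hzt (c.conj_t_t2.trans hx.symm)
  have q1' := q1.symm
  have hall : ∀ x ∈ [a2, a3, vz + a2, vz + a3, a2 + a3, vz + a2 + a3],
      IsConj (ph f u vz) (ph f u x) := by
    intro x hx
    simp only [List.mem_cons, List.not_mem_nil, or_false] at hx
    rcases hx with rfl | rfl | rfl | rfl | rfl | rfl
    · exact q2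
    · exact hzy.trans q3
    · exact q1'.trans q4
    · exact q1'.trans q5
    · exact hzy.trans q6
    · exact q1'.trans q7
  obtain ⟨⟨x, hx, p, hp, rfl⟩, ⟨y, hy, q, hq, rfl⟩⟩ := pick_a a2 a3 (fun x hx => good2 _ (hall x hx))
  have c1 : IsConj (ph f u vz) (ph f u v1) :=
    (hall _ hx).trans (rel_conj (hH.rel_perm p hp v1)).symm
  have c3 : IsConj (ph f u vz) (ph f u v3) :=
    (hall _ hy).trans (rel_conj (hH.rel_perm q hq v3)).symm
  -- every element of `E` not conjugate to `z` is `1`, `t` or `t'`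
  have hex : ∀ x, x ≠ 0 → ¬ IsConj (ph f u vz) (ph f u x) → x = vt ∨ x = vt2 := by
    intro x hx0 hx
    rcases Hyp.cases_aux x with h5 | h5 | ⟨p, hp, h5⟩ | ⟨p, hp, h5⟩ | ⟨p, hp, h5⟩ | ⟨p, hp, h5⟩
    · exact absurd h5 hx0
    · exact absurd (by rw [h5]) hx
    · subst h5; exact absurd (c1.trans (rel_conj (hH.rel_perm p hp v1))) hx
    · subst h5; exact absurd (c3.trans (rel_conj (hH.rel_perm p hp v3))) hx
    · exact vt_orb x ⟨p, hp, h5⟩
    · subst h5; exact absurd (hzy.trans (rel_conj (hH.rel_perm p hp vy))) hx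
  -- an element normalising `A` and mapping `(d, d)` to `z`
  obtain ⟨l, hl, hlS⟩ := hcen _ hzy.symm
  have hweak := c.weak l (fun a b a' b' => hlS _ (c.wr.mem _) (by
    rw [c.ph_vy, c.wr.f_comm_f_iff]
    exact ⟨c.co.u_comm _ _ _ _, c.co.u_comm _ _ _ _⟩))
  have hEl : ∀ x, ∃ x', l * ph f u x * l⁻¹ = ph f u x' := by
    intro x
    obtain ⟨a, b, a', b', e⟩ := hweak (cz n (x 0)) (cz n (x 1)) (cz n (x 2)) (cz n (x 3))
    have e' : l * ph f u x * l⁻¹ = f (u a b, u a' b') := e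
    rw [e']
    apply c.exists_ph
    rw [← e']
    calc l * ph f u x * l⁻¹ * (l * ph f u x * l⁻¹) = l * (ph f u x * ph f u x) * l⁻¹ := by group
      _ = 1 := by rw [hE.sq]; group
  obtain ⟨x1, hx1⟩ := hEl vt
  obtain ⟨x2, hx2⟩ := hEl vt2
  have hx10 : x1 ≠ 0 := by
    rintro rfl
    rw [hE.zero, conj_eq_one_iff] at hx1
    exact c.ph_ne_one (by decide) hx1
  have hx20 : x2 ≠ 0 := by
    rintro rfl
    rw [hE.zero, conj_eq_one_iff] at hx2
    exact c.ph_ne_one (by decide) hx2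
  have hx1z : ¬ IsConj (ph f u vz) (ph f u x1) := by
    intro h5
    exact hzt ((isConj_iff.2 ⟨l, hx1⟩).trans h5.symm)
  have hx2z : ¬ IsConj (ph f u vz) (ph f u x2) := by
    intro h5
    exact hzt ((c.conj_t_t2.trans (isConj_iff.2 ⟨l, hx2⟩)).trans h5.symm)
  have hne : x1 ≠ x2 := by
    rintro rfl
    rw [← hx2] at hx1
    have h5 := hE.injective (mul_left_cancel (mul_right_cancel hx1))
    exact absurd h5 (by decide)
  have hsum : x1 + x2 = vz := by
    rcases hex x1 hx10 hx1z with rfl | rfl <;> rcases hex x2 hx20 hx2z with rfl | rfl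
    · exact absurd rfl hne
    · decide
    · decide
    · exact absurd rfl hne
  have hz : l * ph f u vz * l⁻¹ = ph f u vz := by
    have e : vz = vt + vt2 := by decide
    calc l * ph f u vz * l⁻¹ = (l * ph f u vt * l⁻¹) * (l * ph f u vt2 * l⁻¹) := by
          rw [e, hE.add]; group
      _ = ph f u vz := by rw [hx1, hx2, ← hE.add, hsum]
  have h5 := hE.injective (mul_left_cancel (mul_right_cancel (hz.trans hl.symm)))
  exact absurd h5 (by decide)

theorem nc_u (c : Ctx S f w u s) {a b : ZMod (2 ^ n)}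
    (h : NC (u (2 ^ (n - 1)) (2 ^ (n - 1))) (u a b)) :
    u a b = u (2 ^ (n - 1)) 0 ∨ u a b = u 0 (2 ^ (n - 1)) := by
  rcases wr_inv_cases c.co _ h.sq h.ne_one h.ne with h1 | h1 | ⟨p, h1⟩
  · exact Or.inl h1
  · exact Or.inr h1
  · exact absurd h1 (c.co.u_ne _ _ _ _)

/-- the fully centralised conjugate `f (a, b)` of `w` lies in `A`. -/
theorem mem_A (c : Ctx S f w u s) (hs : IsPGroup 2 S) {g : G} (hE : _root_.Cfsg.Agent.TypeLFive.ExtTransfer.Ext S w g) {a b : W}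
    (hv : g * w * g⁻¹ = f (a, b)) (ha : NC (u (2 ^ (n - 1)) (2 ^ (n - 1))) a)
    (hb : NC (u (2 ^ (n - 1)) (2 ^ (n - 1))) b) :
    (a = u (2 ^ (n - 1)) 0 ∨ a = u 0 (2 ^ (n - 1))) ∧
      (b = u (2 ^ (n - 1)) 0 ∨ b = u 0 (2 ^ (n - 1))) := by
  obtain ⟨m, hm⟩ := isConj_iff.1 (c.conj_nc ha hb)
  have hR0 : IsPGroup 2 f.range := hs.to_le c.wr.range_le
  let R : Subgroup G := ((c.co.base).prod c.co.base).map f
  have hRle : R ≤ f.range := by
    rintro _ ⟨p, -, rfl⟩; exact ⟨p, rfl⟩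
  obtain ⟨l, hl, hlR⟩ := hE.syl (R.map (MulAut.conj m⁻¹).toMonoidHom) ((hR0.to_le hRle).map _) (by
    rintro _ ⟨_, ⟨⟨x, y⟩, ⟨⟨p, q, hx⟩, ⟨p', q', hy⟩⟩, rfl⟩, rfl⟩
    change x = u p q at hx
    change y = u p' q' at hy
    subst hx hy
    have e : f (u p q, u p' q') * f (u (2 ^ (n - 1)) 0, u (2 ^ (n - 1)) 0) =
        f (u (2 ^ (n - 1)) 0, u (2 ^ (n - 1)) 0) * f (u p q, u p' q') := by
      rw [c.wr.f_comm_f_iff]
      exact ⟨c.co.u_comm _ _ _ _, c.co.u_comm _ _ _ _⟩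
    change m⁻¹ * f (u p q, u p' q') * m⁻¹⁻¹ * (g * w * g⁻¹) =
      g * w * g⁻¹ * (m⁻¹ * f (u p q, u p' q') * m⁻¹⁻¹)
    have e2 : g * w * g⁻¹ = m⁻¹ * f (u (2 ^ (n - 1)) 0, u (2 ^ (n - 1)) 0) * m := by
      rw [hv, ← hm]; group
    rw [e2]
    calc m⁻¹ * f (u p q, u p' q') * m⁻¹⁻¹ * (m⁻¹ * f (u (2 ^ (n - 1)) 0, u (2 ^ (n - 1)) 0) * m) =
        m⁻¹ * (f (u p q, u p' q') * f (u (2 ^ (n - 1)) 0, u (2 ^ (n - 1)) 0)) * m := by group
      _ = _ := by rw [e]; group)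
  obtain ⟨a', b', c', d', e⟩ := c.weak (l * m⁻¹) (fun p q p' q' => by
    have h4 := hlR _ ⟨f (u p q, u p' q'), ⟨(u p q, u p' q'), ⟨⟨p, q, rfl⟩, ⟨p', q', rfl⟩⟩, rfl⟩,
      rfl⟩
    have e : l * m⁻¹ * f (u p q, u p' q') * (l * m⁻¹)⁻¹ =
      l * (m⁻¹ * f (u p q, u p' q') * m⁻¹⁻¹) * l⁻¹ := by group
    rw [e]; exact h4) (2 ^ (n - 1)) 0 (2 ^ (n - 1)) 0
  have e2 : l * m⁻¹ * f (u (2 ^ (n - 1)) 0, u (2 ^ (n - 1)) 0) * (l * m⁻¹)⁻¹ = f (a, b) := by
    rw [← hv, ← hm]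
    calc l * m⁻¹ * (m * f (a, b) * m⁻¹) * (l * m⁻¹)⁻¹ = l * (g * w * g⁻¹) * l⁻¹ := by
          rw [hv]; group
      _ = g * w * g⁻¹ := by rw [hl]; group
  rw [e2, c.wr.f_eq_iff, Prod.mk.injEq] at e
  obtain ⟨rfl, rfl⟩ := e
  exact ⟨c.nc_u ha, c.nc_u hb⟩

/-- case (c), from the transfer lemma. -/
theorem case_c' (c : Ctx S f w u s) (hs : IsPGroup 2 S) {g : G} (hE : _root_.Cfsg.Agent.TypeLFive.ExtTransfer.Ext S w g) {a b : W}
    (hv : g * w * g⁻¹ = f (a, b)) (ha : NC (u (2 ^ (n - 1)) (2 ^ (n - 1))) a)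
    (hb : NC (u (2 ^ (n - 1)) (2 ^ (n - 1))) b) :
    IsConj (ph f u vt) (ph f u vy) ∧ IsConj w (ph f u vy) := by
  obtain ⟨ha', hb'⟩ := c.mem_A hs hE hv ha hb
  obtain ⟨p, hp⟩ := c.conj_dd a b ha' hb'
  have hE' : _root_.Cfsg.Agent.TypeLFive.ExtTransfer.Ext S w (f p * g) := hE.mul (c.wr.mem p)
  have hv' : f p * g * w * (f p * g)⁻¹ = ph f u vy := by
    rw [c.ph_vy, ← hp, ← hv]; group
  obtain ⟨X, x2, y2, z1, z2, h88⟩ := c.images hE'
  revert h88; rintro ⟨-, -, hY, hZ, -, h88⟩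
  revert h88; rintro ⟨hYv, hZv, -, hx2, hy2, h88⟩
  revert h88; rintro ⟨hz1, hz2, -, -⟩
  rw [hv', c.ph_vy, c.wr.f_comm_f_iff] at hYv hZv
  have hd0 : (2 : ZMod (2 ^ n)) ^ (n - 1) ≠ 0 := half_ne_zero n c.co.one_le
  obtain ⟨p1, p2, rfl⟩ := wr_cent_u c.co _ _ hd0 x2 hYv.1
  obtain ⟨p3, p4, rfl⟩ := wr_cent_u c.co _ _ hd0 y2 hYv.2
  obtain ⟨p5, p6, rfl⟩ := wr_cent_u c.co _ _ hd0 z1 hZv.1
  obtain ⟨p7, p8, rfl⟩ := wr_cent_u c.co _ _ hd0 z2 hZv.2
  obtain ⟨a3, ha3⟩ := c.exists_ph p1 p2 p3 p4 (by rw [c.wr.f_mul_f, hx2, hy2]; exact map_one f)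
  obtain ⟨a2, ha2⟩ := c.exists_ph p5 p6 p7 p8 (by rw [c.wr.f_mul_f, hz1, hz2]; exact map_one f)
  refine ⟨c.case_c (a2 := a2) (a3 := a3) hv' (by rw [c.ph_vz, hZ, ha2])
    (by rw [← ha3, ← hY, c.ph_vy]) hs ?_,
    isConj_iff.2 ⟨_, hv'⟩⟩
  intro R hR hRc
  rw [← hv'] at hRc ⊢
  exact hE'.syl R hR hRc

/-- **(F)(5), wreathed case.** -/
theorem main [Finite G] {S : Sylow 2 G} {f : W × W →* G} {w : G}
    {u : ZMod (2 ^ n) → ZMod (2 ^ n) → W} {s : W} (c : Ctx (S : Subgroup G) f w u s)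
    (hG : ∀ M : Subgroup G, M.index ≠ 2) :
    IsConj (f (u (2 ^ (n - 1)) (2 ^ (n - 1)), 1)) w ∧
      IsConj (f (u (2 ^ (n - 1)) (2 ^ (n - 1)), 1))
        (f (u (2 ^ (n - 1)) 0, u (2 ^ (n - 1)) 0)) := by
  have hs : IsPGroup 2 (S : Subgroup G) := S.isPGroup'
  have hb := c.base
  obtain ⟨g, ⟨⟨a, b⟩, hv⟩, hE⟩ := exists_ext S hG f.range (TNotZ.relIndex_range c.wr) c.wr.w_w
  obtain ⟨X, x2, y2, z1, z2, hXS, hXv, hY, hZ, hXY, hYv, hZv, hZY, hx2, hy2, hz1, hz2, hZ1, hZne⟩ :=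
    c.images hE
  have hv0 := hv
  rw [← hv] at hXv hYv hZv hZne
  have hab : a * a = 1 ∧ b * b = 1 := by
    have e : f (a, b) * f (a, b) = 1 := by
      rw [hv]
      calc g * w * g⁻¹ * (g * w * g⁻¹) = g * (w * w) * g⁻¹ := by group
        _ = 1 := by rw [c.wr.w_w]; group
    rw [c.wr.f_mul_f, c.wr.f_eq_one_iff, Prod.mk_eq_one] at e
    exact e
  have hv1 : f (a, b) ≠ 1 := by
    rw [hv, Ne, conj_eq_one_iff]; exact c.w_ne
  have hZz : IsConj (f (u (2 ^ (n - 1)) (2 ^ (n - 1)), u (2 ^ (n - 1)) (2 ^ (n - 1))))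
      (f (z1, z2)) := isConj_iff.2 ⟨g, hZ⟩
  -- `Z` is neither `t` nor `t'`
  have hZt : ¬ (z1 = u (2 ^ (n - 1)) (2 ^ (n - 1)) ∧ z2 = 1) := by
    rintro ⟨rfl, rfl⟩; exact c.not_conj hZz.symm
  have hZt2 : ¬ (z1 = 1 ∧ z2 = u (2 ^ (n - 1)) (2 ^ (n - 1))) := by
    rintro ⟨rfl, rfl⟩; exact c.zt2 hZz.symm
  have hZ11 : ¬ (z1 = 1 ∧ z2 = 1) := by
    rintro ⟨rfl, rfl⟩; exact hZ1 (map_one f)
  have hwz : IsConj w (f (a, b)) := isConj_iff.2 ⟨g, hv.symm⟩
  rcases c.wr.cases X hXS with ⟨x1, y1, rfl⟩ | ⟨x1, y1, rfl⟩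
  · -- case (b)
    rw [c.wr.f_mul_f, c.wr.f_mul_f, c.wr.f_mul_f, c.wr.f_eq_iff, Prod.mk.injEq] at hXY
    obtain ⟨hA, hB⟩ := hXY
    have hcm : ∀ x y z : W, x * y = z * y * x → z * z = 1 →
        z = 1 ∨ z = u (2 ^ (n - 1)) (2 ^ (n - 1)) := by
      intro x y z h1 h2
      apply hb.derived_inv z _ h2
      have e : z = ⁅x, y⁆ := by
        rw [commutatorElement_def, h1]; group
      rw [e, commutator_def]
      exact Subgroup.commutator_mem_commutator (Subgroup.mem_top _) (Subgroup.mem_top _)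
    have hzz : z1 = u (2 ^ (n - 1)) (2 ^ (n - 1)) ∧ z2 = u (2 ^ (n - 1)) (2 ^ (n - 1)) := by
      rcases hcm _ _ _ hA hz1 with h1 | h1 <;> rcases hcm _ _ _ hB hz2 with h2 | h2
      · exact absurd ⟨h1, h2⟩ hZ11
      · exact absurd ⟨h1, h2⟩ hZt2
      · exact absurd ⟨h1, h2⟩ hZt
      · exact ⟨h1, h2⟩
    obtain ⟨rfl, rfl⟩ := hzz
    have hne : u (2 ^ (n - 1)) (2 ^ (n - 1)) ≠ 1 := hb.ne
    have hx12 : x1 * x2 ≠ x2 * x1 := by
      intro h1
      rw [h1, mul_assoc] at hA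
      exact hne (mul_eq_right.1 hA.symm)
    have hy12 : y1 * y2 ≠ y2 * y1 := by
      intro h1
      rw [h1, mul_assoc] at hB
      exact hne (mul_eq_right.1 hB.symm)
    have hncx : NC (u (2 ^ (n - 1)) (2 ^ (n - 1))) x2 := by
      refine ⟨hx2, ?_, ?_⟩
      · rintro rfl; exact hx12 (by group)
      · rintro rfl; exact hx12 (hb.central _).symm
    have hncy : NC (u (2 ^ (n - 1)) (2 ^ (n - 1))) y2 := by
      refine ⟨hy2, ?_, ?_⟩
      · rintro rfl; exact hy12 (by group)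
      · rintro rfl; exact hy12 (hb.central _).symm
    rw [c.wr.f_comm_f_iff] at hXv hYv
    have ha : a = 1 ∨ a = u (2 ^ (n - 1)) (2 ^ (n - 1)) := by
      rcases central_or (u := u) a hab.1 with h1 | h1
      · exact h1
      · exact absurd (hb.cent_abelian a h1.sq h1.ne_one h1.ne x1 x2 hXv.1 hYv.1) hx12
    have hbb : b = 1 ∨ b = u (2 ^ (n - 1)) (2 ^ (n - 1)) := by
      rcases central_or (u := u) b hab.2 with h1 | h1
      · exact h1
      · exact absurd (hb.cent_abelian b h1.sq h1.ne_one h1.ne y1 y2 hXv.2 hYv.2) hy12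
    -- `w ~ (d, d) w ~ (x2, y2) v`
    have hww : IsConj w (f (x2, y2) * f (a, b)) := by
      refine (c.conj_bw _ c.d_sq).trans (isConj_iff.2 ⟨g, ?_⟩)
      rw [hv, ← hY]; group
    have hnz : ∀ x, NC (u (2 ^ (n - 1)) (2 ^ (n - 1))) x → ∀ v : W,
        (v = 1 ∨ v = u (2 ^ (n - 1)) (2 ^ (n - 1))) →
        NC (u (2 ^ (n - 1)) (2 ^ (n - 1))) (x * v) := by
      rintro x hx v (rfl | rfl)
      · rwa [mul_one]
      · rw [← hb.central]; exact c.nc_zeta_mul hx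
    have hwd : IsConj w (f (u (2 ^ (n - 1)) 0, u (2 ^ (n - 1)) 0)) := by
      rw [c.wr.f_mul_f] at hww
      exact hww.trans (c.conj_nc (hnz _ hncx a ha) (hnz _ hncy b hbb))
    have hwt : IsConj (f (u (2 ^ (n - 1)) (2 ^ (n - 1)), 1)) w := by
      refine IsConj.trans ?_ hwz.symm
      rcases ha with rfl | rfl <;> rcases hbb with rfl | rfl
      · exact absurd (map_one f) hv1
      · exact isConj_iff.2 ⟨w, c.wr.w_conj _ _⟩
      · exact IsConj.refl _
      · exact absurd rfl hZne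
    exact ⟨hwt, hwt.trans hwd⟩
  · rw [c.wr.fw_comm_f_iff] at hXv
    have hXY' : x1 * y2 = z1 * x2 * x1 ∧ y1 * x2 = z2 * y2 * y1 := by
      rw [c.wr.fw_mul_f, c.wr.f_mul_f, c.wr.f_mul_fw, c.wr.fw_eq_iff, Prod.mk.injEq] at hXY
      exact hXY
    rcases central_or (u := u) a hab.1 with ha | ha
    · -- case (a)
      exfalso
      have hvz : f (a, b) = ph f u vz := by
        rw [c.ph_vz]
        rcases ha with rfl | rfl
        · exfalso
          have h1 := hXv.1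
          rw [one_mul] at h1
          have h2 := mul_eq_left.1 h1
          subst h2
          exact hv1 (map_one f)
        · have h1 := hXv.1
          rw [hb.central] at h1
          rw [mul_left_cancel h1]
      -- `z1`, `z2` are noncentral
      have hzc : ∀ x y p q z z' : W, x * q = z * p * x → y * p = z' * q * y → z' * z' = 1 →
          (z = 1 ∨ z = u (2 ^ (n - 1)) (2 ^ (n - 1))) →
          z' = 1 ∨ z' = u (2 ^ (n - 1)) (2 ^ (n - 1)) := by
        intro x y p q z z' h1 h2 h3 h4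
        have hzcen : ∀ r, z * r = r * z := by
          rcases h4 with rfl | rfl
          · intro r; group
          · exact hb.central
        have e1 : q = z * (x⁻¹ * p * x) := by
          calc q = x⁻¹ * (x * q) := by group
            _ = x⁻¹ * (z * p * x) := by rw [h1]
            _ = x⁻¹ * z * p * x := by group
            _ = z * x⁻¹ * p * x := by rw [← hzcen]
            _ = _ := by group
        have e2 : z' = z⁻¹ * (y * p * y⁻¹ * (x⁻¹ * p * x)⁻¹) := by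
          calc z' = z' * q * y * y⁻¹ * q⁻¹ := by group
            _ = y * p * y⁻¹ * q⁻¹ := by rw [h2]
            _ = y * p * y⁻¹ * (x⁻¹ * p * x)⁻¹ * z⁻¹ := by rw [e1]; group
            _ = _ := by
              have : z⁻¹ * (y * p * y⁻¹ * (x⁻¹ * p * x)⁻¹) =
                y * p * y⁻¹ * (x⁻¹ * p * x)⁻¹ * z⁻¹ := by
                have h5 := hzcen (y * p * y⁻¹ * (x⁻¹ * p * x)⁻¹)
                rw [inv_mul_eq_iff_eq_mul, ← mul_assoc, h5, mul_inv_cancel_right]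
              exact this.symm
        have h5 : y * p * y⁻¹ * (x⁻¹ * p * x)⁻¹ ∈ commutator W := by
          have e3 : y * p * y⁻¹ * (x⁻¹ * p * x)⁻¹ = ⁅y, p⁆ * ⁅p, x⁻¹⁆ := by
            rw [commutatorElement_def, commutatorElement_def]; group
          rw [e3, commutator_def]
          exact mul_mem (Subgroup.commutator_mem_commutator (Subgroup.mem_top _) (Subgroup.mem_top _))
            (Subgroup.commutator_mem_commutator (Subgroup.mem_top _) (Subgroup.mem_top _))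
        have hzd : z⁻¹ ∈ commutator W := by
          apply inv_mem
          rcases h4 with rfl | rfl
          · exact one_mem _
          · obtain ⟨c0, hc0, hcc⟩ := hb.derived_four
            rw [← hcc]; exact mul_mem hc0 hc0
        apply hb.derived_inv _ _ h3
        rw [e2]
        exact mul_mem hzd h5
      have hZz' : ¬ (z1 = u (2 ^ (n - 1)) (2 ^ (n - 1)) ∧ z2 = u (2 ^ (n - 1)) (2 ^ (n - 1))) := by
        rintro ⟨rfl, rfl⟩
        apply hZne
        rw [hvz, c.ph_vz]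
      have hnot : ¬ ((z1 = 1 ∨ z1 = u (2 ^ (n - 1)) (2 ^ (n - 1))) ∧
          (z2 = 1 ∨ z2 = u (2 ^ (n - 1)) (2 ^ (n - 1)))) := by
        rintro ⟨h1 | h1, h2 | h2⟩
        · exact hZ11 ⟨h1, h2⟩
        · exact hZt2 ⟨h1, h2⟩
        · exact hZt ⟨h1, h2⟩
        · exact hZz' ⟨h1, h2⟩
      have hn1 : NC (u (2 ^ (n - 1)) (2 ^ (n - 1))) z1 := by
        rcases central_or (u := u) z1 hz1 with h1 | h1
        · exact absurd ⟨h1, hzc _ _ _ _ _ _ hXY'.1 hXY'.2 hz2 h1⟩ hnot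
        · exact h1
      have hn2 : NC (u (2 ^ (n - 1)) (2 ^ (n - 1))) z2 := by
        rcases central_or (u := u) z2 hz2 with h1 | h1
        · exact absurd ⟨hzc _ _ _ _ _ _ hXY'.2 hXY'.1 hz1 h1, h1⟩ hnot
        · exact h1
      rw [c.wr.f_comm_f_iff] at hZY
      have hx2' := c.inv_comm hn1 x2 hx2 hZY.1.symm
      have hy2' := c.inv_comm hn2 y2 hy2 hZY.2.symm
      obtain ⟨m, v1, v2, hv1', hv2', hm, hm1, hm2⟩ := c.move hn1 hn2
      -- images in `A`
      have hdiag : ∀ v : W, (v = 1 ∨ v = u (2 ^ (n - 1)) (2 ^ (n - 1))) → ∃ p, v = u p p :=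
        fun v hv => diag_of (h := c.co) hv
      obtain ⟨p1, hp1⟩ := hdiag v1 hv1'
      obtain ⟨p2, hp2⟩ := hdiag v2 hv2'
      have hinA : ∀ x y : G, (∃ p q r t, x = f (u p q, u r t)) → (∃ p q r t, y = f (u p q, u r t)) →
          ∃ p q r t, x * y = f (u p q, u r t) := by
        rintro _ _ ⟨p, q, r, t, rfl⟩ ⟨p', q', r', t', rfl⟩
        exact ⟨p + p', q + q', r + r', t + t', by rw [c.wr.f_mul_f, c.co.u_mul, c.co.u_mul]⟩
      have hone : ∃ p q r t, m * f (1, 1) * m⁻¹ = f (u p q, u r t) := by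
        refine ⟨0, 0, 0, 0, ?_⟩
        rw [c.co.u_zero]
        have : f (1, 1) = 1 := map_one f
        rw [this]; group
      have hzeta1 : ∃ p q r t, m * f (u (2 ^ (n - 1)) (2 ^ (n - 1)), 1) * m⁻¹ =
          f (u p q, u r t) := by
        refine ⟨2 ^ (n - 1), 2 ^ (n - 1), 0, 0, ?_⟩
        have := hm (2 ^ (n - 1)) 0
        rw [c.co.u_zero] at this ⊢
        rw [this]; group
      have hzeta2 : ∃ p q r t, m * f (1, u (2 ^ (n - 1)) (2 ^ (n - 1))) * m⁻¹ =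
          f (u p q, u r t) := by
        refine ⟨0, 0, 2 ^ (n - 1), 2 ^ (n - 1), ?_⟩
        have := hm 0 (2 ^ (n - 1))
        rw [c.co.u_zero] at this ⊢
        rw [this]; group
      have hz1A : ∃ p q r t, m * f (z1, 1) * m⁻¹ = f (u p q, u r t) :=
        ⟨_, _, _, _, by rw [hm1, hp1]⟩
      have hz2A : ∃ p q r t, m * f (1, z2) * m⁻¹ = f (u p q, u r t) :=
        ⟨_, _, _, _, by rw [hm2, hp2]⟩
      have hconjmul : ∀ x y : G, m * (x * y) * m⁻¹ = (m * x * m⁻¹) * (m * y * m⁻¹) := by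
        intro x y; group
      have hsplit : ∀ x y : W, f (x, y) = f (x, 1) * f (1, y) := by
        intro x y; rw [← map_mul]; simp
      have hx2A : ∃ p q r t, m * f (x2, 1) * m⁻¹ = f (u p q, u r t) := by
        rcases hx2' with rfl | rfl | rfl | rfl
        · exact hone
        · exact hzeta1
        · exact hz1A
        · have e : f (u (2 ^ (n - 1)) (2 ^ (n - 1)) * z1, 1) =
              f (u (2 ^ (n - 1)) (2 ^ (n - 1)), 1) * f (z1, 1) := by
            rw [c.wr.f_mul_f, one_mul]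
          rw [e, hconjmul]
          exact hinA _ _ hzeta1 hz1A
      have hy2A : ∃ p q r t, m * f (1, y2) * m⁻¹ = f (u p q, u r t) := by
        rcases hy2' with rfl | rfl | rfl | rfl
        · exact hone
        · exact hzeta2
        · exact hz2A
        · have e : f (1, u (2 ^ (n - 1)) (2 ^ (n - 1)) * z2) =
              f (1, u (2 ^ (n - 1)) (2 ^ (n - 1))) * f (1, z2) := by
            rw [c.wr.f_mul_f, one_mul]
          rw [e, hconjmul]
          exact hinA _ _ hzeta2 hz2A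
      have hYA : ∃ x, m * f (x2, y2) * m⁻¹ = ph f u x := by
        obtain ⟨p, q, r, t, e⟩ := hinA _ _ hx2A hy2A
        rw [← hconjmul, ← hsplit] at e
        rw [e]
        apply c.exists_ph
        rw [← e]
        calc m * f (x2, y2) * m⁻¹ * (m * f (x2, y2) * m⁻¹) =
            m * (f (x2, y2) * f (x2, y2)) * m⁻¹ := by group
          _ = 1 := by
            rw [c.wr.f_mul_f, hx2, hy2]
            have : f (1, 1) = 1 := map_one f
            rw [this]; group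
      have hZA : ∃ x, m * f (z1, z2) * m⁻¹ = ph f u x := by
        obtain ⟨p, q, r, t, e⟩ := hinA _ _ hz1A hz2A
        rw [← hconjmul, ← hsplit] at e
        rw [e]
        apply c.exists_ph
        rw [← e]
        calc m * f (z1, z2) * m⁻¹ * (m * f (z1, z2) * m⁻¹) =
            m * (f (z1, z2) * f (z1, z2)) * m⁻¹ := by group
          _ = 1 := by
            rw [c.wr.f_mul_f, hz1, hz2]
            have : f (1, 1) = 1 := map_one f
            rw [this]; group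
      obtain ⟨a3, ha3⟩ := hYA
      obtain ⟨a2, ha2⟩ := hZA
      have hmz : m * ph f u vz * m⁻¹ = ph f u vz := by
        rw [c.ph_vz, hm]; group
      refine c.case_a (k := m * g) (a2 := a2) (a3 := a3) ?_ ?_ ?_ ?_ ?_
      · rw [← hmz, ← hvz, hv]; group
      · rw [← ha2, ← hZ, c.ph_vz]; group
      · rw [← ha3, ← hY, c.ph_vy]; group
      · rw [c.ph_vz, c.ph_vy]
        exact hZz.trans (c.conj_nc hn1 hn2)
      · intro y hy
        obtain ⟨l, hl⟩ := isConj_iff.1 hy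
        exact SylowSp4.Extremal.exists_conj_of_central S
          (fun r hr => by rw [c.ph_vz]; exact TNotZ.z_comm c.wr hb r hr) ⟨l, hl⟩
    · -- case (c)
      have hbnc : NC (u (2 ^ (n - 1)) (2 ^ (n - 1))) b := by
        refine ⟨hab.2, ?_, ?_⟩
        · rintro rfl
          have h1 := hXv.1
          rw [mul_one] at h1
          exact ha.ne_one (mul_eq_right.1 h1.symm)
        · rintro rfl
          have h1 := hXv.1
          rw [← hb.central] at h1
          exact ha.ne (mul_right_cancel h1).symm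
      have h1 := c.case_c' hs hE hv.symm ha hbnc
      rw [c.ph_vt, c.ph_vy] at h1
      exact ⟨h1.1.trans h1.2.symm, h1.1⟩

end Ctx

end

end Cfsg.Agent.TypeLFive.WRFive
end

-- part: TypeLFive/WRMain
section
/-!
# S0511 (F) for `W` wreathed: the final result
-/

set_option autoImplicit false

namespace Cfsg.Agent.TypeLFive.WRMain

open Subgroup Cfsg.Agent.TypeLFive.Model Cfsg.Agent.TypeLFive.Facts Cfsg.Agent.TypeLFive.FrameE
open Cfsg.Agent.TypeLFive.WRWeak Cfsg.Agent.TypeLFive.EOrbit Cfsg.Agent.TypeLFive.Out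
open Cfsg.Agent.TwoFusion.QDBasic Cfsg.Agent.TwoFusion.WreathedBasic

section W

variable {W : Type*} [Group W] {n : ℕ} {u : ZMod (2 ^ n) → ZMod (2 ^ n) → W} {s : W}

theorem edata (hc : IsWCoord n u s) :
    EData (u (2 ^ (n - 1)) (2 ^ (n - 1))) (u (2 ^ (n - 1)) 0) where
  ee := (wr_u_sq_iff hc _ _).2 ⟨Or.inr rfl, Or.inl rfl⟩
  e_ne := by
    rw [Ne, hc.u_eq_one_iff]
    exact fun h => half_ne_zero n hc.one_le h.1
  e_ζ := by
    rw [Ne, hc.u_eq_iff]
    exact fun h => half_ne_zero n hc.one_le h.2.symm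

theorem e_mul_zeta (hc : IsWCoord n u s) :
    u (2 ^ (n - 1)) 0 * u (2 ^ (n - 1)) (2 ^ (n - 1)) = u 0 (2 ^ (n - 1)) := by
  rw [hc.u_mul, zero_add, ← two_mul, two_mul_half n hc.one_le]

theorem s_conj (hc : IsWCoord n u s) : s * u (2 ^ (n - 1)) 0 * s⁻¹ =
    u (2 ^ (n - 1)) 0 * u (2 ^ (n - 1)) (2 ^ (n - 1)) := by
  rw [hc.z_conj_u, e_mul_zeta hc]

theorem psi_eq (hc : IsWCoord n u s) (a b : ZMod (2 ^ n)) (h : u a b * u a b = 1) :
    ∃ k l, u a b = psi (u (2 ^ (n - 1)) (2 ^ (n - 1))) (u (2 ^ (n - 1)) 0) k l := by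
  rw [psi_cases (edata hc), e_mul_zeta hc]
  rcases (wr_u_sq_iff hc a b).1 h with ⟨rfl | rfl, rfl | rfl⟩
  · exact Or.inl hc.u_zero
  · exact Or.inr (Or.inr (Or.inr rfl))
  · exact Or.inr (Or.inr (Or.inl rfl))
  · exact Or.inr (Or.inl rfl)

theorem psi_base (hc : IsWCoord n u s) (k l : ZMod 2) :
    ∃ a b, psi (u (2 ^ (n - 1)) (2 ^ (n - 1))) (u (2 ^ (n - 1)) 0) k l = u a b := by
  rcases (psi_cases (edata hc) _).1 ⟨k, l, rfl⟩ with h | h | h | h <;> rw [h]
  · exact ⟨0, 0, hc.u_zero.symm⟩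
  · exact ⟨_, _, rfl⟩
  · exact ⟨_, _, rfl⟩
  · exact ⟨_, _, e_mul_zeta hc⟩

/-- noncentral involutions are conjugate in `W` to `d` or `s`. -/
theorem conj_d_or_s (hc : IsWCoord n u s) (p : W) (hp : p * p = 1) (hp1 : p ≠ 1)
    (hp2 : p ≠ u (2 ^ (n - 1)) (2 ^ (n - 1))) :
    (∃ a, a * p * a⁻¹ = u (2 ^ (n - 1)) 0) ∨ ∃ a, a * p * a⁻¹ = s := by
  rcases wr_inv_cases hc p hp hp1 hp2 with rfl | rfl | ⟨a, rfl⟩
  · left; exact ⟨1, by group⟩
  · left; exact ⟨s, hc.z_conj_u _ _⟩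
  · right
    refine ⟨u 0 a, ?_⟩
    rw [hc.u_conj_uz]
    rw [show a + (0 - a) = (0 : ZMod (2 ^ n)) by ring, show -a - (0 - a) = (0 : ZMod (2 ^ n)) by ring,
      hc.u_zero, one_mul]

end W

variable {G W : Type*} [Group G] [Group W] {n : ℕ} {u : ZMod (2 ^ n) → ZMod (2 ^ n) → W} {s : W}
  {f : W × W →* G} {w : G}

/-- `ρ` moves `(d, y)` to `(s, y)`. -/
theorem rho_d_s (h : IsWCoord n u s) {ρ : G} (hρ : IsRho f u s ρ) (y : W) :
    ρ * f (u (2 ^ (n - 1)) 0, y) * ρ⁻¹ = f (s, y) := by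
  have e1 := wr_half h
  have e0 := two_mul_half n h.one_le
  have h1 : f (u (2 ^ (n - 1)) 0, y) = f (u (-(2 ^ (n - 2))) (2 ^ (n - 2)), 1) *
      f (u (-(2 ^ (n - 2))) (-(2 ^ (n - 2))), y) := by
    rw [← map_mul, Prod.mk_mul_mk, one_mul, h.u_mul]
    congr 3
    · linear_combination e0 - e1
    · ring
  have h2 : f (s, y) = f (u (2 ^ (n - 2)) (2 ^ (n - 2)) * s, 1) *
      f (u (-(2 ^ (n - 2))) (-(2 ^ (n - 2))), y) := by
    rw [← map_mul, Prod.mk_mul_mk, one_mul, h.uz_mul_u]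
    congr 2
    rw [add_neg_cancel, h.u_zero, one_mul]
  rw [h1, h2]
  have h3 := hρ.comm (-(2 ^ (n - 2))) y
  calc ρ * (f (u (-(2 ^ (n - 2))) (2 ^ (n - 2)), 1) *
        f (u (-(2 ^ (n - 2))) (-(2 ^ (n - 2))), y)) * ρ⁻¹
      = (ρ * f (u (-(2 ^ (n - 2))) (2 ^ (n - 2)), 1) * ρ⁻¹) *
        (ρ * f (u (-(2 ^ (n - 2))) (-(2 ^ (n - 2))), y)) * ρ⁻¹ := by group
    _ = f (u (2 ^ (n - 2)) (2 ^ (n - 2)) * s, 1) *
        (f (u (-(2 ^ (n - 2))) (-(2 ^ (n - 2))), y) * ρ) * ρ⁻¹ := by rw [hρ.i_j, h3]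
    _ = _ := by group

/-- moving noncentral involutions of the first coordinate to `d`. -/
theorem mv {S : Subgroup G} (h : Wr S f w) (hc : IsWCoord n u s) {ρ : G} (hρ : IsRho f u s ρ)
    (p : W) (hp : p * p = 1) (hp1 : p ≠ 1) (hp2 : p ≠ u (2 ^ (n - 1)) (2 ^ (n - 1))) :
    ∃ m : G, ∀ q, m * f (p, q) * m⁻¹ = f (u (2 ^ (n - 1)) 0, q) := by
  have key : ∀ a q, f (a, 1) * f (p, q) * (f (a, 1))⁻¹ = f (a * p * a⁻¹, q) := by
    intro a q
    rw [← map_inv, Prod.inv_mk, h.f_mul_f, h.f_mul_f, inv_one, one_mul, mul_one]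
  rcases conj_d_or_s hc p hp hp1 hp2 with ⟨a, ha⟩ | ⟨a, ha⟩
  · exact ⟨f (a, 1), fun q => by rw [key, ha]⟩
  · refine ⟨ρ⁻¹ * f (a, 1), fun q => ?_⟩
    calc ρ⁻¹ * f (a, 1) * f (p, q) * (ρ⁻¹ * f (a, 1))⁻¹
        = ρ⁻¹ * (f (a, 1) * f (p, q) * (f (a, 1))⁻¹) * ρ := by group
      _ = ρ⁻¹ * f (s, q) * ρ := by rw [key, ha]
      _ = ρ⁻¹ * (ρ * f (u (2 ^ (n - 1)) 0, q) * ρ⁻¹) * ρ := by rw [rho_d_s hc hρ]
      _ = _ := by group

/-- moving noncentral involutions of the second coordinate to `d`. -/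
theorem mv2 {S : Subgroup G} (h : Wr S f w) (hc : IsWCoord n u s) {ρ : G} (hρ : IsRho f u s ρ)
    (q : W) (hq : q * q = 1) (hq1 : q ≠ 1) (hq2 : q ≠ u (2 ^ (n - 1)) (2 ^ (n - 1))) :
    ∃ m : G, ∀ p, m * f (p, q) * m⁻¹ = f (p, u (2 ^ (n - 1)) 0) := by
  obtain ⟨m, hm⟩ := mv h hc hρ q hq hq1 hq2
  refine ⟨w * m * w, fun p => ?_⟩
  have hw := h.w_inv
  calc w * m * w * f (p, q) * (w * m * w)⁻¹
      = w * (m * (w * f (p, q) * w⁻¹) * m⁻¹) * w⁻¹ := by group
    _ = _ := by rw [h.w_conj, hm, h.w_conj]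

/-- weak closure in the elementwise form -/
theorem weak' [Finite G] {S : Sylow 2 G} (h : Wr (S : Subgroup G) f w) (hc : IsWCoord n u s)
    (g : G) (hg : ∀ a b c d, g * f (u a b, u c d) * g⁻¹ ∈ (S : Subgroup G))
    (a b c d : ZMod (2 ^ n)) :
    ∃ a' b' c' d', g * f (u a b, u c d) * g⁻¹ = f (u a' b', u c' d') := by
  have h1 : (abA f hc).map (MulAut.conj g).toMonoidHom ≤ (S : Subgroup G) := by
    rintro _ ⟨x, hx, rfl⟩
    obtain ⟨a, b, c, d, rfl⟩ := (mem_abA f hc x).1 hx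
    exact hg a b c d
  have h2 := weak h hc g h1
  apply (mem_abA f hc _).1
  rw [← h2]
  exact ⟨_, f_mem_abA f hc a b c d, rfl⟩

theorem mem_normalizer_iff' [Finite G] (hc : IsWCoord n u s) (g : G) :
    g ∈ normalizer (abA f hc : Set G) ↔
      ∀ a b c d, ∃ a' b' c' d', g * f (u a b, u c d) * g⁻¹ = f (u a' b', u c' d') := by
  constructor
  · intro hg a b c d
    exact (mem_abA f hc _).1 ((Subgroup.mem_normalizer_iff.1 hg _).1 (f_mem_abA f hc a b c d))
  · intro hg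
    have hle : (abA f hc).map (MulAut.conj g).toMonoidHom ≤ abA f hc := by
      rintro _ ⟨y, hy, rfl⟩
      obtain ⟨a, b, c, d, rfl⟩ := (mem_abA f hc y).1 hy
      exact (mem_abA f hc _).2 (hg a b c d)
    have heq : (abA f hc).map (MulAut.conj g).toMonoidHom = abA f hc :=
      Subgroup.eq_of_le_of_card_ge hle
        (by rw [Subgroup.card_map_of_injective (MulAut.conj g).injective])
    rw [Subgroup.mem_normalizer_iff]
    intro y
    constructor
    · intro hy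
      rw [← heq]
      exact ⟨y, hy, rfl⟩
    · intro hy
      have h2 : g * y * g⁻¹ ∈ (abA f hc).map (MulAut.conj g).toMonoidHom := by rw [heq]; exact hy
      obtain ⟨y', hy', e⟩ := h2
      have e' : g * y' * g⁻¹ = g * y * g⁻¹ := e
      rw [← mul_left_cancel (mul_right_cancel e')]
      exact hy'

theorem S_le_normalizer [Finite G] {S : Sylow 2 G} (h : Wr (S : Subgroup G) f w)
    (hc : IsWCoord n u s) : (S : Subgroup G) ≤ normalizer (abA f hc : Set G) := by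
  intro x hx
  rw [mem_normalizer_iff' hc]
  apply weak' h hc
  intro a b c d
  exact (S : Subgroup G).mul_mem ((S : Subgroup G).mul_mem hx (h.mem _))
    ((S : Subgroup G).inv_mem hx)

/-- control of fusion in `A` -/
theorem control [Finite G] {S : Sylow 2 G} (h : Wr (S : Subgroup G) f w) (hc : IsWCoord n u s)
    (g x : G) (hx : x ∈ abA f hc) (hgx : g * x * g⁻¹ ∈ abA f hc) :
    ∃ m ∈ normalizer (abA f hc : Set G), m * x * m⁻¹ = g * x * g⁻¹ := by
  obtain ⟨m, -, hm, hm2⟩ := Control.control_weak S (abA f hc)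
    (S.isPGroup'.to_le (abA_le h hc)) (abA_comm f hc) (fun g hg => weak h hc g hg) ⊤ le_top g
    (mem_top _) x hx hgx (fun y hy => abA_comm f hc x hx y hy)
  refine ⟨m, ?_, hm2⟩
  rw [mem_normalizer_iff' hc]
  intro a b c d
  apply (mem_abA f hc _).1
  rw [← hm]
  exact ⟨_, f_mem_abA f hc a b c d, rfl⟩

/-- involutions of `A` are values of `phi`. -/
theorem phi_of_mem {S : Subgroup G} (h : Wr S f w) (hc : IsWCoord n u s) (x : G)
    (hx : x ∈ abA f hc) (hxx : x * x = 1) :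
    ∃ v, x = phi f (u (2 ^ (n - 1)) (2 ^ (n - 1))) (u (2 ^ (n - 1)) 0) v := by
  obtain ⟨a, b, c, d, rfl⟩ := (mem_abA f hc x).1 hx
  rw [h.f_mul_f, h.f_eq_one_iff, Prod.mk_eq_one] at hxx
  obtain ⟨k, l, h1⟩ := psi_eq hc a b hxx.1
  obtain ⟨k', l', h2⟩ := psi_eq hc c d hxx.2
  refine ⟨![k, l, k', l'], ?_⟩
  rw [h1, h2]
  rfl

theorem phi_mem (hc : IsWCoord n u s) (v : V) :
    phi f (u (2 ^ (n - 1)) (2 ^ (n - 1))) (u (2 ^ (n - 1)) 0) v ∈ abA f hc := by
  unfold phi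
  obtain ⟨a, b, h1⟩ := psi_base hc (v 0) (v 1)
  obtain ⟨c, d, h2⟩ := psi_base hc (v 2) (v 3)
  rw [h1, h2]
  exact f_mem_abA f hc _ _ _ _

/-- the fusion of `w` -/
theorem five [Finite G] [IsSimpleGroup G] {S : Sylow 2 G} (h : Wr (S : Subgroup G) f w)
    (hc : IsWCoord n u s) {ρ : G} (hρ : IsRho f u s ρ) :
    IsConj (f (u (2 ^ (n - 1)) (2 ^ (n - 1)), 1)) w ∧
      IsConj (f (u (2 ^ (n - 1)) (2 ^ (n - 1)), 1))
        (f (u (2 ^ (n - 1)) 0, u (2 ^ (n - 1)) 0)) := by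
  have b := wr_base hc
  refine WRFive.Ctx.main ⟨h, hc, weak' h hc, TNotZ.not_conj h b, ρ⁻¹, 1, Or.inl rfl, ?_, ?_⟩
    (Simple.index_ne_two h b)
  · intro a y
    have h1 := hρ.comm a y
    calc ρ⁻¹ * f (u a a, y) = ρ⁻¹ * (f (u a a, y) * ρ) * ρ⁻¹ := by group
      _ = ρ⁻¹ * (ρ * f (u a a, y)) * ρ⁻¹ := by rw [h1]
      _ = _ := by group
  · rw [← rho_d_s hc hρ 1]
    group

/-- the permutations induced on `E` before the pattern twist. -/
theorem frame_wr [Finite G] [IsSimpleGroup G] {S : Sylow 2 G}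
    (h : Wr (S : Subgroup G) f w) (hc : IsWCoord n u s) {ρ : G} (hρ : IsRho f u s ρ) :
    (∀ σ : Equiv.Perm (Fin 5), ∃ g ∈ normalizer (abA f hc : Set G), ∀ i,
      g * phi f (u (2 ^ (n - 1)) (2 ^ (n - 1))) (u (2 ^ (n - 1)) 0) (o1 i) * g⁻¹ =
      phi f (u (2 ^ (n - 1)) (2 ^ (n - 1))) (u (2 ^ (n - 1)) 0) (o1 (σ i))) ∨
    (∀ σ : Equiv.Perm (Fin 5), ∃ g ∈ normalizer (abA f hc : Set G), ∀ i,
      g * phi f (u (2 ^ (n - 1)) (2 ^ (n - 1))) (u (2 ^ (n - 1)) 0) (o3 i) * g⁻¹ =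
      phi f (u (2 ^ (n - 1)) (2 ^ (n - 1))) (u (2 ^ (n - 1)) 0) (o3 (σ i))) := by
  have b := wr_base hc
  have d := edata hc
  obtain ⟨hw, hdd⟩ := five h hc hρ
  have hsq : ∀ v : V, phi f (u (2 ^ (n - 1)) (2 ^ (n - 1))) (u (2 ^ (n - 1)) 0) v *
      phi f (u (2 ^ (n - 1)) (2 ^ (n - 1))) (u (2 ^ (n - 1)) 0) v = 1 := (emb h b d).sq
  have hSN := S_le_normalizer h hc
  have htA : f (u (2 ^ (n - 1)) (2 ^ (n - 1)), 1) ∈ abA f hc := by
    have := f_mem_abA f hc (2 ^ (n - 1)) (2 ^ (n - 1)) 0 0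
    rwa [hc.u_zero] at this
  apply frame h b d (normalizer (abA f hc : Set G))
  · intro g hg x
    apply phi_of_mem h hc
    · exact (Subgroup.mem_normalizer_iff.1 hg _).1 (phi_mem hc x)
    · have h1 := hsq x
      generalize phi f (u (2 ^ (n - 1)) (2 ^ (n - 1))) (u (2 ^ (n - 1)) 0) x = v at h1 ⊢
      calc g * v * g⁻¹ * (g * v * g⁻¹) = g * (v * v) * g⁻¹ := by group
        _ = 1 := by rw [h1]; group
  · exact s_conj hc
  · exact hSN (h.mem _)
  · exact hSN (h.mem _)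
  · exact hSN h.w_mem
  · exact TNotZ.not_conj h b
  · obtain ⟨g, hg⟩ := isConj_iff.1 hdd
    obtain ⟨m, hm, hm2⟩ := control h hc g _ htA (by rw [hg]; exact f_mem_abA f hc _ _ _ _)
    exact ⟨m, hm, by rw [hm2, hg]⟩
  · obtain ⟨g, p, q, hg, hp, hq, hpq, hpq2⟩ := Simple.z_fused_T h b hw
    -- move to `A`
    have h1 : ∃ m : G, ∃ p' : W, (∀ q, m * f (p, q) * m⁻¹ = f (p', q)) ∧ p' * p' = 1 ∧
        (∃ a c, p' = u a c) ∧ (p' = u (2 ^ (n - 1)) (2 ^ (n - 1)) →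
          p = u (2 ^ (n - 1)) (2 ^ (n - 1))) := by
      by_cases hp1 : p = 1
      · refine ⟨1, p, fun q => by group, hp, ⟨0, 0, by rw [hp1, hc.u_zero]⟩, fun h => h⟩
      · by_cases hp2 : p = u (2 ^ (n - 1)) (2 ^ (n - 1))
        · exact ⟨1, p, fun q => by group, hp, ⟨_, _, hp2⟩, fun h => h⟩
        · obtain ⟨m, hm⟩ := mv h hc hρ p hp hp1 hp2
          exact ⟨m, _, hm, d.ee, ⟨_, _, rfl⟩, fun h => absurd h d.e_ζ⟩
    obtain ⟨m, p', hm, hp', ⟨a, c, rfl⟩, hpz⟩ := h1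
    have h2 : ∃ m : G, ∃ q' : W, (∀ p, m * f (p, q) * m⁻¹ = f (p, q')) ∧ q' * q' = 1 ∧
        (∃ a c, q' = u a c) ∧ (q' = u (2 ^ (n - 1)) (2 ^ (n - 1)) →
          q = u (2 ^ (n - 1)) (2 ^ (n - 1))) := by
      by_cases hq1 : q = 1
      · refine ⟨1, q, fun p => by group, hq, ⟨0, 0, by rw [hq1, hc.u_zero]⟩, fun h => h⟩
      · by_cases hq2 : q = u (2 ^ (n - 1)) (2 ^ (n - 1))
        · exact ⟨1, q, fun p => by group, hq, ⟨_, _, hq2⟩, fun h => h⟩
        · obtain ⟨m, hm⟩ := mv2 h hc hρ q hq hq1 hq2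
          exact ⟨m, _, hm, d.ee, ⟨_, _, rfl⟩, fun h => absurd h d.e_ζ⟩
    obtain ⟨m', q', hm', hq', ⟨a', c', rfl⟩, hqz⟩ := h2
    have hg' : m' * m * g * f (u (2 ^ (n - 1)) (2 ^ (n - 1)), u (2 ^ (n - 1)) (2 ^ (n - 1))) *
        (m' * m * g)⁻¹ = f (u a c, u a' c') := by
      calc m' * m * g * f (u (2 ^ (n - 1)) (2 ^ (n - 1)), u (2 ^ (n - 1)) (2 ^ (n - 1))) *
            (m' * m * g)⁻¹ = m' * (m * (g * f (u (2 ^ (n - 1)) (2 ^ (n - 1)),
              u (2 ^ (n - 1)) (2 ^ (n - 1))) * g⁻¹) * m⁻¹) * m'⁻¹ := by group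
        _ = _ := by rw [hg, hm, hm']
    obtain ⟨k, hk, hk2⟩ := control h hc _ _
      (f_mem_abA f hc (2 ^ (n - 1)) (2 ^ (n - 1)) (2 ^ (n - 1)) (2 ^ (n - 1)))
      (by rw [hg']; exact f_mem_abA f hc _ _ _ _)
    rw [hg'] at hk2
    obtain ⟨x, hx⟩ := phi_of_mem h hc (f (u a c, u a' c')) (f_mem_abA f hc _ _ _ _)
      (by rw [h.f_mul_f, hp', hq']; exact map_one f)
    refine ⟨k, hk, x, by rw [hk2, hx], ?_⟩
    rintro rfl
    rw [phi_vz d, h.f_eq_iff, Prod.mk.injEq] at hx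
    exact hpq2 ⟨hpz hx.1, hqz hx.2⟩

/-- `FusWR` from the permutations. -/
theorem out_wr [Finite G] [IsSimpleGroup G] {S : Sylow 2 G}
    (h : Wr (S : Subgroup G) f w) (hc : IsWCoord n u s) {ρ : G} (hρ : IsRho f u s ρ)
    (hperm : ∀ σ : Equiv.Perm (Fin 5), ∃ g ∈ normalizer (abA f hc : Set G), ∀ i,
      g * f (zv (u (2 ^ (n - 1)) (2 ^ (n - 1))) (u (2 ^ (n - 1)) 0) i) * g⁻¹ =
      f (zv (u (2 ^ (n - 1)) (2 ^ (n - 1))) (u (2 ^ (n - 1)) 0) (σ i))) :
    FusWR (S : Subgroup G) f w u s where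
  coord := hc
  out := OutCommon.fusOut h (wr_base hc) (edata hc) (five h hc hρ).1 (mv h hc hρ)
    (fun σ => by
      obtain ⟨g, -, hg⟩ := hperm σ
      exact ⟨g, hg⟩)
  weak := weak' h hc
  permA σ := by
    obtain ⟨g, hgN, hg⟩ := hperm σ
    exact ⟨g, (mem_normalizer_iff' hc g).1 hgN, hg⟩
  faithful := WRFaith.faithful h hc
  rho := ⟨ρ, hρ⟩

/-- **(F) for `W` wreathed.** -/
theorem exists_fusWR [Finite G] [IsSimpleGroup G] {S : Sylow 2 G}
    (h : Wr (S : Subgroup G) f w) (hc : IsWCoord n u s) :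
    ∃ f' : W × W →* G, FusWR (S : Subgroup G) f' w u s ∧ f'.range = f.range := by
  have b := wr_base hc
  have d := edata hc
  have hfinW := hc.finite
  have ctx : WRho.Ctx S f w u s := ⟨h, hc, weak' h hc⟩
  obtain ⟨μ₁, hμ₁, hinj₁, -, ctx₁, -, ρ, hρ⟩ := ctx.exists_isRho (Simple.char_one h b)
  obtain ⟨f₁, hf₁⟩ : ∃ f₁, f₁ = f.comp (twistHom μ₁ hμ₁) := ⟨_, rfl⟩
  have hr₁ : f₁.range = f.range := by
    rw [hf₁]; exact Wr.comp_range (twistEquiv μ₁ hμ₁ hinj₁)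
  rw [← hf₁] at hρ ctx₁
  have h₁ := ctx₁.wr
  rcases frame_wr h₁ hc hρ with hfr | hfr
  · obtain ⟨D, hD1, hD2, hD3⟩ := CentWR.exists_det hc
    obtain ⟨μ, hμ1, hμ, hinj⟩ := CentWR.exists_mu hc 1 D hD1 hD3
    have e0 := two_mul_half n hc.one_le
    have e1 := wr_half hc
    have hD0 : D 1 = 0 := by
      have := hD1 0 0
      rwa [hc.u_zero, add_zero] at this
    have hμe : μ (u (2 ^ (n - 1)) 0) = u (2 ^ (n - 1)) (2 ^ (n - 1)) := by
      rw [hμ1, hD1, add_zero, one_mul]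
    have hμζ : μ (u (2 ^ (n - 1)) (2 ^ (n - 1))) = 1 := by
      rw [hμ1, hD1, ← two_mul, e0, mul_zero, hc.u_zero]
    have hμ0 : ∀ x, D x = 0 → μ x = 1 := by
      intro x hx
      rw [hμ1, hx, mul_zero, hc.u_zero]
    have h₂ := h₁.twist μ hμ hinj
    have hval : ∀ x, D x = 0 → (f₁.comp (twistHom μ hμ)) (x, 1) = f₁ (x, 1) := by
      intro x hx
      rw [MonoidHom.comp_apply, twistHom_apply, hμ0 x hx, map_one, mul_one, mul_one]
    have hDi : D (u (-(2 ^ (n - 2))) (2 ^ (n - 2))) = 0 := by rw [hD1]; ring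
    have hDj : D (u (2 ^ (n - 2)) (2 ^ (n - 2)) * s) = 0 := by
      rw [hD2]; linear_combination e0 - e1
    have hρ₂ : IsRho (f₁.comp (twistHom μ hμ)) u s ρ := by
      refine ⟨fun a y => ?_, ?_, ?_⟩
      · rw [MonoidHom.comp_apply, twistHom_apply, hμ1 y, hc.u_mul]
        exact hρ.comm _ _
      · rw [hval _ hDi, hval _ hDj]
        exact hρ.i_j
      · rw [hval _ hDj, hval _ (by rw [hD3, hDi, hDj, add_zero])]
        exact hρ.j_k
    refine ⟨f₁.comp (twistHom μ hμ), out_wr h₂ hc hρ₂ (fun σ => ?_), ?_⟩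
    · obtain ⟨g, hg, hg2⟩ := perm_twist b d μ hμ hμe hμζ
        (fun g => g ∈ normalizer (abA f₁ hc : Set G)) (fun σ => hfr σ) σ
      refine ⟨g, ?_, hg2⟩
      rw [mem_normalizer_iff' hc] at hg ⊢
      -- the two subgroups `A` coincide
      have hA : ∀ a b c d, ∃ a' b' c' d', (f₁.comp (twistHom μ hμ)) (u a b, u c d) =
          f₁ (u a' b', u c' d') := by
        intro a b c d
        refine ⟨a + (c + d), b + (c + d), c + (a + b), d + (a + b), ?_⟩
        rw [MonoidHom.comp_apply, twistHom_apply, hμ1, hμ1, hD1, hD1, hc.u_mul, hc.u_mul, one_mul,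
          one_mul]
      have hA' : abA (f₁.comp (twistHom μ hμ)) hc = abA f₁ hc := by
        have hle : abA (f₁.comp (twistHom μ hμ)) hc ≤ abA f₁ hc := by
          intro x hx
          obtain ⟨a, b, c, d, rfl⟩ := (mem_abA _ hc x).1 hx
          exact (mem_abA _ hc _).2 (hA a b c d)
        apply Subgroup.eq_of_le_of_card_ge hle
        rw [card_abA _ h₂.inj hc, card_abA _ h₁.inj hc]
      intro a b c d
      apply (mem_abA _ hc _).1
      rw [hA']
      have hx : (f₁.comp (twistHom μ hμ)) (u a b, u c d) ∈ abA f₁ hc := by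
        rw [← hA']; exact f_mem_abA _ hc a b c d
      obtain ⟨a', b', c', d', e⟩ := (mem_abA _ hc _).1 hx
      rw [e]
      exact (mem_abA _ hc _).2 (hg a' b' c' d')
    · rw [← hr₁]; exact Wr.comp_range (twistEquiv μ hμ hinj)
  · refine ⟨f₁, out_wr h₁ hc hρ (fun σ => ?_), hr₁⟩
    obtain ⟨g, hg, hg2⟩ := hfr σ
    refine ⟨g, hg, fun i => ?_⟩
    rw [← phi_o3 d, ← phi_o3 d, hg2]

end Cfsg.Agent.TypeLFive.WRMain
end

-- part: TypeLFive/FusGlue
section
/-!
# S0511: from the fusion output (F) to the frame `Fr` and the fusion fields of `Fr5`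
-/

set_option autoImplicit false

namespace Cfsg.Agent.TypeLFive.FusGlue

open Subgroup Cfsg.Agent.TypeLFive.Model Cfsg.Agent.TypeLFive.Facts Cfsg.Agent.TypeLFive.FrameE
open Cfsg.Agent.TypeLFive.Out Cfsg.Agent.TypeLFive.Five Cfsg.Agent.SylowLFive.Frame
open Cfsg.Agent.Lib.GoldschmidtFusion

variable {G W : Type*} [Group G] [Group W] {f : W × W →* G} {w : G} {ζ e : W}

section zv

theorem zv_sq (b : WBase ζ) (d : EData ζ e) (i : Fin 5) : zv ζ e i * zv ζ e i = 1 := by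
  have h1 := eζ_sq b d
  fin_cases i
  · change (e * ζ, ζ) * (e * ζ, ζ) = 1
    rw [Prod.mk_mul_mk, h1, b.sq]; rfl
  · change (e, ζ) * (e, ζ) = 1
    rw [Prod.mk_mul_mk, d.ee, b.sq]; rfl
  · change (ζ, e * ζ) * (ζ, e * ζ) = 1
    rw [Prod.mk_mul_mk, h1, b.sq]; rfl
  · change (ζ, e) * (ζ, e) = 1
    rw [Prod.mk_mul_mk, d.ee, b.sq]; rfl
  · change (ζ, ζ) * (ζ, ζ) = 1
    rw [Prod.mk_mul_mk, b.sq]; rfl

/-- every `zv i` has components among the values of `psi`. -/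
theorem zv_psi (d : EData ζ e) (i : Fin 5) :
    ∃ k l k' l', zv ζ e i = (psi ζ e k l, psi ζ e k' l') := by
  fin_cases i
  · exact ⟨0, 1, 1, 1, by rw [psi_01, psi_11 d]; rfl⟩
  · exact ⟨1, 0, 1, 1, by rw [psi_10, psi_11 d]; rfl⟩
  · exact ⟨1, 1, 0, 1, by rw [psi_01, psi_11 d]; rfl⟩
  · exact ⟨1, 1, 1, 0, by rw [psi_10, psi_11 d]; rfl⟩
  · exact ⟨1, 1, 1, 1, by rw [psi_11 d]; rfl⟩

theorem zv_comm (b : WBase ζ) (d : EData ζ e) (i j : Fin 5) :
    zv ζ e i * zv ζ e j = zv ζ e j * zv ζ e i := by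
  obtain ⟨k, l, k', l', h1⟩ := zv_psi (ζ := ζ) (e := e) d i
  obtain ⟨m, p, m', p', h2⟩ := zv_psi (ζ := ζ) (e := e) d j
  rw [h1, h2, Prod.mk_mul_mk, Prod.mk_mul_mk, ← psi_add b d, ← psi_add b d, ← psi_add b d,
    ← psi_add b d, add_comm k, add_comm l, add_comm k', add_comm l']

theorem zv_01 (b : WBase ζ) (d : EData ζ e) : zv ζ e 0 * zv ζ e 1 = (ζ, 1) := by
  change (e * ζ * e, ζ * ζ) = (ζ, 1)
  rw [b.sq, mul_assoc, b.central e, ← mul_assoc, d.ee, one_mul]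

theorem zv_23 (b : WBase ζ) (d : EData ζ e) : zv ζ e 2 * zv ζ e 3 = (1, ζ) := by
  change (ζ * ζ, e * ζ * e) = (1, ζ)
  rw [b.sq, mul_assoc, b.central e, ← mul_assoc, d.ee, one_mul]

theorem zv_02 (b : WBase ζ) : zv ζ e 0 * zv ζ e 2 = (e, e) := by
  change (e * ζ * ζ, ζ * (e * ζ)) = (e, e)
  rw [mul_assoc, b.sq, mul_one, b.central (e * ζ), mul_assoc, b.sq, mul_one]

theorem zv_04 (b : WBase ζ) : zv ζ e 0 * zv ζ e 4 = (e, 1) := by
  change (e * ζ * ζ, ζ * ζ) = (e, 1)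
  rw [mul_assoc, b.sq, mul_one]

theorem zv_24 (b : WBase ζ) : zv ζ e 2 * zv ζ e 4 = (1, e) := by
  change (ζ * ζ, e * ζ * ζ) = (1, e)
  rw [mul_assoc, b.sq, mul_one]

/-- the swap permutes the `zv i` by `(0 2)(1 3)`. -/
theorem zv_swap (i : Fin 5) : ((zv ζ e i).2, (zv ζ e i).1) =
    zv ζ e ((Equiv.swap 0 2 * Equiv.swap 1 3 : Equiv.Perm (Fin 5)) i) := by
  fin_cases i <;> rfl

end zv

/-- The frame. -/
def toFr (S : Subgroup G) (h : FusOut S f w ζ e) (b : WBase ζ) (d : EData ζ e) : Fr G where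
  T i j := f (zv ζ e i * zv ζ e j)
  T_self i := by rw [zv_sq b d, map_one]
  T_symm i j := by rw [zv_comm b d]
  T_mul i j k := by
    rw [← map_mul]
    congr 1
    calc zv ζ e i * zv ζ e j * (zv ζ e j * zv ζ e k)
        = zv ζ e i * (zv ζ e j * zv ζ e j) * zv ζ e k := by group
      _ = _ := by rw [zv_sq b d, mul_one]
  T_ne := by
    rw [zv_01 b d, Ne, h.wr.f_eq_one_iff, Prod.mk_eq_one]
    exact fun hh => b.ne hh.1
  perm σ := by
    obtain ⟨g, hg⟩ := h.perm σ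
    refine ⟨g, fun i j => ?_⟩
    rw [map_mul, map_mul]
    calc g * (f (zv ζ e i) * f (zv ζ e j)) * g⁻¹
        = (g * f (zv ζ e i) * g⁻¹) * (g * f (zv ζ e j) * g⁻¹) := by group
      _ = _ := by rw [hg, hg]

theorem toFr_T {S : Subgroup G} (h : FusOut S f w ζ e) (b : WBase ζ) (d : EData ζ e)
    (i j : Fin 5) : (toFr S h b d).T i j = f (zv ζ e i * zv ζ e j) := rfl

theorem T_01 {S : Subgroup G} (h : FusOut S f w ζ e) (b : WBase ζ) (d : EData ζ e) :
    (toFr S h b d).T 0 1 = f (ζ, 1) := by rw [toFr_T, zv_01 b d]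

theorem T_23 {S : Subgroup G} (h : FusOut S f w ζ e) (b : WBase ζ) (d : EData ζ e) :
    (toFr S h b d).T 2 3 = f (1, ζ) := by rw [toFr_T, zv_23 b d]

/-- the moves -/
def Moves (f : W × W →* G) (ζ e : W) : Prop :=
  ∀ p : W, p * p = 1 → p ≠ 1 → p ≠ ζ → ∃ m : G, m * f (ζ, 1) = f (ζ, 1) * m ∧
    m * f (1, ζ) = f (1, ζ) * m ∧ ∀ q, m * f (p, q) * m⁻¹ = f (e, q)

theorem Moves.swap {S : Subgroup G} (h : Wr S f w) (hm : Moves f ζ e) (q : W) (hq : q * q = 1)
    (hq1 : q ≠ 1) (hqζ : q ≠ ζ) : ∃ m : G, m * f (ζ, 1) = f (ζ, 1) * m ∧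
    m * f (1, ζ) = f (1, ζ) * m ∧ ∀ p, m * f (p, q) * m⁻¹ = f (p, e) := by
  obtain ⟨m, h1, h2, h3⟩ := hm q hq hq1 hqζ
  refine ⟨w * m * w⁻¹, ?_, ?_, fun p => ?_⟩
  · rw [← h.w_conj 1 ζ]
    calc w * m * w⁻¹ * (w * f (1, ζ) * w⁻¹) = w * (m * f (1, ζ)) * w⁻¹ := by group
      _ = w * (f (1, ζ) * m) * w⁻¹ := by rw [h2]
      _ = _ := by group
  · rw [← h.w_conj ζ 1]
    calc w * m * w⁻¹ * (w * f (ζ, 1) * w⁻¹) = w * (m * f (ζ, 1)) * w⁻¹ := by group
      _ = w * (f (ζ, 1) * m) * w⁻¹ := by rw [h1]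
      _ = _ := by group
  · have hw := h.w_conj' p q
    calc w * m * w⁻¹ * f (p, q) * (w * m * w⁻¹)⁻¹
        = w * (m * (w⁻¹ * f (p, q) * w) * m⁻¹) * w⁻¹ := by group
      _ = w * (m * (w * f (p, q) * w) * m⁻¹) * w⁻¹ := by rw [h.w_inv]
      _ = w * (m * f (q, p) * m⁻¹) * w⁻¹ := by rw [hw]
      _ = f (p, e) := by rw [h3, h.w_conj]

/-- an involution of `T` is moved into `E` by an element centralising `t` and `t'`. -/
theorem move_both {S : Subgroup G} (h : Wr S f w) (hm : Moves f ζ e) (p q : W)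
    (hp : p * p = 1) (hq : q * q = 1) : ∃ m : G, m * f (ζ, 1) = f (ζ, 1) * m ∧
    m * f (1, ζ) = f (1, ζ) * m ∧ ∃ p' q', m * f (p, q) * m⁻¹ = f (p', q') ∧
      (p' = 1 ∨ p' = ζ ∨ p' = e) ∧ (q' = 1 ∨ q' = ζ ∨ q' = e) := by
  have h1 : ∃ m : G, m * f (ζ, 1) = f (ζ, 1) * m ∧ m * f (1, ζ) = f (1, ζ) * m ∧
      ∃ p', (∀ q, m * f (p, q) * m⁻¹ = f (p', q)) ∧ (p' = 1 ∨ p' = ζ ∨ p' = e) := by
    by_cases hp1 : p = 1
    · exact ⟨1, by group, by group, p, fun q => by group, Or.inl hp1⟩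
    · by_cases hp2 : p = ζ
      · exact ⟨1, by group, by group, p, fun q => by group, Or.inr (Or.inl hp2)⟩
      · obtain ⟨m, a1, a2, a3⟩ := hm p hp hp1 hp2
        exact ⟨m, a1, a2, e, a3, Or.inr (Or.inr rfl)⟩
  have h2 : ∃ m : G, m * f (ζ, 1) = f (ζ, 1) * m ∧ m * f (1, ζ) = f (1, ζ) * m ∧
      ∃ q', (∀ p, m * f (p, q) * m⁻¹ = f (p, q')) ∧ (q' = 1 ∨ q' = ζ ∨ q' = e) := by
    by_cases hq1 : q = 1
    · exact ⟨1, by group, by group, q, fun p => by group, Or.inl hq1⟩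
    · by_cases hq2 : q = ζ
      · exact ⟨1, by group, by group, q, fun p => by group, Or.inr (Or.inl hq2)⟩
      · obtain ⟨m, a1, a2, a3⟩ := Moves.swap h hm q hq hq1 hq2
        exact ⟨m, a1, a2, e, a3, Or.inr (Or.inr rfl)⟩
  obtain ⟨m, a1, a2, p', a3, hp'⟩ := h1
  obtain ⟨m', b1, b2, q', b3, hq'⟩ := h2
  refine ⟨m' * m, ?_, ?_, p', q', ?_, hp', hq'⟩
  · rw [mul_assoc, a1, ← mul_assoc, b1, mul_assoc]
  · rw [mul_assoc, a2, ← mul_assoc, b2, mul_assoc]
  · calc m' * m * f (p, q) * (m' * m)⁻¹ = m' * (m * f (p, q) * m⁻¹) * m'⁻¹ := by group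
      _ = _ := by rw [a3, b3]

/-- `w` is conjugate to `t` inside `C_G(z)`. -/
theorem conj_w_z [Finite G] {S : Sylow 2 G} (h : Wr (S : Subgroup G) f w) (b : WBase ζ)
    (hw : IsConj (f (ζ, 1)) w) : ∃ g, g * w * g⁻¹ = f (ζ, 1) ∧
      g * f (ζ, ζ) * g⁻¹ = f (ζ, ζ) := by
  obtain ⟨g0, hg0⟩ := isConj_iff.1 hw.symm
  let R : Subgroup G := (S : Subgroup G) ⊓ centralizer ({w} : Set G)
  have hR : IsPGroup 2 R := S.isPGroup'.to_le inf_le_left
  have hRle : R.map (MulAut.conj g0).toMonoidHom ≤ centralizer ({f (ζ, 1)} : Set G) := by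
    rintro _ ⟨r, hr, rfl⟩
    rw [mem_centralizer_singleton_iff]
    have h1 := mem_centralizer_singleton_iff.1 (Subgroup.mem_inf.1 hr).2
    change g0 * r * g0⁻¹ * f (ζ, 1) = f (ζ, 1) * (g0 * r * g0⁻¹)
    rw [← hg0]
    calc g0 * r * g0⁻¹ * (g0 * w * g0⁻¹) = g0 * (r * w) * g0⁻¹ := by group
      _ = g0 * (w * r) * g0⁻¹ := by rw [h1]
      _ = _ := by group
  obtain ⟨m, hm, hmD⟩ := exists_conj_le_in (p := 2) (S.isPGroup'.to_le h.range_le)
    (Control.not_dvd_relIndex_t h b) hRle (hR.map _)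
  rw [Control.map_conj_mul] at hmD
  have hm1 := mem_centralizer_singleton_iff.1 hm
  have hk : _root_.Cfsg.Agent.TypeLFive.Five.Ext (S : Subgroup G) f w (m * g0) ζ 1 := by
    refine ⟨?_, fun r hr hrw => ?_⟩
    · calc m * g0 * w * (m * g0)⁻¹ = m * (g0 * w * g0⁻¹) * m⁻¹ := by group
        _ = f (ζ, 1) * m * m⁻¹ := by rw [hg0, hm1]
        _ = _ := by group
    · exact h.range_le (hmD ⟨r, Subgroup.mem_inf.2 ⟨hr, mem_centralizer_singleton_iff.2 hrw⟩, rfl⟩)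
  refine ⟨m * g0, hk.eq, (hk.case_t h b 1 (by rw [one_mul])).1⟩

/-- The generators of `E` as a subgroup. -/
theorem mem_closure {S : Subgroup G} (h : FusOut S f w ζ e) (b : WBase ζ) (d : EData ζ e)
    (p q : W) (hp : p = 1 ∨ p = ζ ∨ p = e) (hq : q = 1 ∨ q = ζ ∨ q = e) :
    f (p, q) ∈ Subgroup.closure {y | ∃ i j, y = (toFr S h b d).T i j} := by
  set K := Subgroup.closure {y | ∃ i j, y = (toFr S h b d).T i j} with hK
  have hT : ∀ i j, f (zv ζ e i * zv ζ e j) ∈ K := fun i j =>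
    Subgroup.subset_closure ⟨i, j, rfl⟩
  have h1 : f (p, 1) ∈ K := by
    rcases hp with rfl | rfl | rfl
    · have : f ((1 : W), (1 : W)) = 1 := map_one f
      rw [this]; exact K.one_mem
    · rw [← zv_01 b d]; exact hT 0 1
    · rw [← zv_04 b]; exact hT 0 4
  have h2 : f (1, q) ∈ K := by
    rcases hq with rfl | rfl | rfl
    · have : f ((1 : W), (1 : W)) = 1 := map_one f
      rw [this]; exact K.one_mem
    · rw [← zv_23 b d]; exact hT 2 3
    · rw [← zv_24 b]; exact hT 2 4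
  have h3 := K.mul_mem h1 h2
  rwa [h.wr.f_mul_f, mul_one, one_mul] at h3

/-- The fusion fields of `Fr5`. -/
structure Fields (S : Sylow 2 G) (F : Fr G) : Prop where
  ne : ∀ g, g * F.T 0 1 * g⁻¹ ≠ F.T 0 1 * F.T 2 3
  inv_C : ∀ u, orderOf u = 2 → u * F.T 0 1 = F.T 0 1 * u → ∃ c, c * F.T 0 1 = F.T 0 1 * c ∧
    c * u * c⁻¹ ∈ Subgroup.closure {y | ∃ i j, y = F.T i j}
  inv_Cz : ∀ u, orderOf u = 2 → u * (F.T 0 1 * F.T 2 3) = (F.T 0 1 * F.T 2 3) * u →
    ∃ c, c * (F.T 0 1 * F.T 2 3) = (F.T 0 1 * F.T 2 3) * c ∧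
    c * u * c⁻¹ ∈ Subgroup.closure {y | ∃ i j, y = F.T i j}
  S_le : ∀ s ∈ S, s ∈ Subgroup.closure ({c | c * F.T 0 1 = F.T 0 1 * c} ∪ {n | F.Ind n})
  inv_S : ∀ u ∈ S, orderOf u = 2 → ∃ s ∈ S, ∃ i j, i ≠ j ∧
    (s * u * s⁻¹) * F.T i j = F.T i j * (s * u * s⁻¹)

theorem fields [Finite G] {S : Sylow 2 G} (h : FusOut (S : Subgroup G) f w ζ e) (b : WBase ζ)
    (d : EData ζ e) (hm : Moves f ζ e) : Fields S (toFr (S : Subgroup G) h b d) := by
  have hT01 := T_01 h b d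
  have hT23 := T_23 h b d
  have hz : f (ζ, 1) * f (1, ζ) = f (ζ, ζ) := by rw [h.wr.f_mul_f, mul_one, one_mul]
  have hsq : ∀ u : G, orderOf u = 2 → u * u = 1 := by
    intro u hu
    rw [← pow_two, ← hu, pow_orderOf_eq_one]
  have hzp : ∀ u : G, orderOf u = 2 → IsPGroup 2 (Subgroup.zpowers u) := by
    intro u hu
    apply IsPGroup.of_card (n := 1)
    rw [Nat.card_zpowers, hu, pow_one]
  have hconj_sq : ∀ u c : G, u * u = 1 → c * u * c⁻¹ * (c * u * c⁻¹) = 1 := by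
    intro u c hu
    calc c * u * c⁻¹ * (c * u * c⁻¹) = c * (u * u) * c⁻¹ := by group
      _ = 1 := by rw [hu]; group
  refine ⟨?_, ?_, ?_, ?_, ?_⟩
  · intro g hg
    rw [hT01, hT23, hz] at hg
    exact h.not_conj (isConj_iff.2 ⟨g, hg⟩)
  · intro u hu hut
    rw [hT01] at hut ⊢
    have hle : Subgroup.zpowers u ≤ centralizer ({f (ζ, 1)} : Set G) := by
      rw [Subgroup.zpowers_le, mem_centralizer_singleton_iff]
      exact hut
    obtain ⟨c, hc, hcT⟩ := exists_conj_le_in (p := 2) (S.isPGroup'.to_le h.wr.range_le)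
      (Control.not_dvd_relIndex_t h.wr b) hle (hzp u hu)
    obtain ⟨⟨p, q⟩, hpq⟩ := hcT ⟨u, Subgroup.mem_zpowers u, rfl⟩
    have hpq' : c * u * c⁻¹ = f (p, q) := hpq.symm
    have h1 := hconj_sq u c (hsq u hu)
    rw [hpq', h.wr.f_mul_f, h.wr.f_eq_one_iff, Prod.mk_eq_one] at h1
    obtain ⟨m, m1, -, p', q', m3, hp', hq'⟩ := move_both h.wr hm p q h1.1 h1.2
    refine ⟨m * c, ?_, ?_⟩
    · have h2 := mem_centralizer_singleton_iff.1 hc
      rw [mul_assoc, h2, ← mul_assoc, m1, mul_assoc]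
    · have e1 : m * c * u * (m * c)⁻¹ = f (p', q') := by
        calc m * c * u * (m * c)⁻¹ = m * (c * u * c⁻¹) * m⁻¹ := by group
          _ = _ := by rw [hpq', m3]
      rw [e1]
      exact mem_closure h b d p' q' hp' hq'
  · intro u hu huz
    rw [hT01, hT23, hz] at huz ⊢
    have hle : Subgroup.zpowers u ≤ centralizer ({f (ζ, ζ)} : Set G) := by
      rw [Subgroup.zpowers_le, mem_centralizer_singleton_iff]
      exact huz
    obtain ⟨c, hc, hcT⟩ := exists_conj_le_in (p := 2) S.isPGroup'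
      (Control.not_dvd_relIndex_z S _ (fun r hr => TNotZ.z_comm h.wr b r hr)) hle (hzp u hu)
    have hcS : c * u * c⁻¹ ∈ (S : Subgroup G) := hcT ⟨u, Subgroup.mem_zpowers u, rfl⟩
    have hcz := mem_centralizer_singleton_iff.1 hc
    have h1 := hconj_sq u c (hsq u hu)
    rcases h.wr.cases _ hcS with ⟨p, q, hpq⟩ | ⟨p, q, hpq⟩
    · rw [hpq, h.wr.f_mul_f, h.wr.f_eq_one_iff, Prod.mk_eq_one] at h1
      obtain ⟨m, m1, m2, p', q', m3, hp', hq'⟩ := move_both h.wr hm p q h1.1 h1.2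
      refine ⟨m * c, ?_, ?_⟩
      · have m4 : m * f (ζ, ζ) = f (ζ, ζ) * m := by
          rw [← hz, ← mul_assoc, m1, mul_assoc, m2, mul_assoc]
        rw [mul_assoc, hcz, ← mul_assoc, m4, mul_assoc]
      · have e1 : m * c * u * (m * c)⁻¹ = f (p', q') := by
          calc m * c * u * (m * c)⁻¹ = m * (c * u * c⁻¹) * m⁻¹ := by group
            _ = _ := by rw [hpq, m3]
        rw [e1]
        exact mem_closure h b d p' q' hp' hq'
    · rw [hpq, h.wr.fw_sq_eq_one_iff] at h1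
      subst h1
      obtain ⟨g, g1, g2⟩ := conj_w_z h.wr b h.conj_w
      have h2 := h.wr.f_conj_w p 1
      rw [inv_one, mul_one, one_mul] at h2
      refine ⟨g * (f (p, 1))⁻¹ * c, ?_, ?_⟩
      · have h3 := TNotZ.z_comm h.wr b _ (h.wr.mem (p, 1))
        have h3' : (f (p, 1))⁻¹ * f (ζ, ζ) = f (ζ, ζ) * (f (p, 1))⁻¹ := by
          calc (f (p, 1))⁻¹ * f (ζ, ζ) = (f (p, 1))⁻¹ * (f (ζ, ζ) * f (p, 1)) * (f (p, 1))⁻¹ := by
                group
            _ = (f (p, 1))⁻¹ * (f (p, 1) * f (ζ, ζ)) * (f (p, 1))⁻¹ := by rw [h3]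
            _ = _ := by group
        have h4 : g * f (ζ, ζ) = f (ζ, ζ) * g := by
          calc g * f (ζ, ζ) = (g * f (ζ, ζ) * g⁻¹) * g := by group
            _ = _ := by rw [g2]
        calc g * (f (p, 1))⁻¹ * c * f (ζ, ζ) = g * (f (p, 1))⁻¹ * (c * f (ζ, ζ)) := by group
          _ = g * ((f (p, 1))⁻¹ * f (ζ, ζ)) * c := by rw [hcz]; group
          _ = (g * f (ζ, ζ)) * (f (p, 1))⁻¹ * c := by rw [h3']; group
          _ = _ := by rw [h4]; group
      · have e1 : g * (f (p, 1))⁻¹ * c * u * (g * (f (p, 1))⁻¹ * c)⁻¹ = f (ζ, 1) := by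
          calc g * (f (p, 1))⁻¹ * c * u * (g * (f (p, 1))⁻¹ * c)⁻¹
              = g * ((f (p, 1))⁻¹ * (c * u * c⁻¹) * f (p, 1)) * g⁻¹ := by group
            _ = g * ((f (p, 1))⁻¹ * (f (p, 1) * w * (f (p, 1))⁻¹) * f (p, 1)) * g⁻¹ := by
                rw [hpq, h2]
            _ = g * w * g⁻¹ := by group
            _ = _ := g1
        rw [e1]
        exact mem_closure h b d ζ 1 (Or.inr (Or.inl rfl)) (Or.inl rfl)
  · intro s hs
    have hfc : ∀ p, f p ∈ Subgroup.closure ({c | c * (toFr (S : Subgroup G) h b d).T 0 1 =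
        (toFr (S : Subgroup G) h b d).T 0 1 * c} ∪ {n | (toFr (S : Subgroup G) h b d).Ind n}) := by
      intro p
      apply Subgroup.subset_closure
      left
      change f p * (toFr (S : Subgroup G) h b d).T 0 1 = (toFr (S : Subgroup G) h b d).T 0 1 * f p
      rw [hT01]
      exact TNotZ.t_comm h.wr b p
    have hwc : w ∈ Subgroup.closure ({c | c * (toFr (S : Subgroup G) h b d).T 0 1 =
        (toFr (S : Subgroup G) h b d).T 0 1 * c} ∪ {n | (toFr (S : Subgroup G) h b d).Ind n}) := by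
      apply Subgroup.subset_closure
      right
      refine ⟨Equiv.swap 0 2 * Equiv.swap 1 3, fun i j => ?_⟩
      rw [toFr_T, toFr_T, ← zv_swap, ← zv_swap]
      exact h.wr.w_conj (zv ζ e i * zv ζ e j).1 (zv ζ e i * zv ζ e j).2
    rcases h.wr.cases s hs with ⟨p, q, rfl⟩ | ⟨p, q, rfl⟩
    · exact hfc _
    · exact Subgroup.mul_mem _ (hfc _) hwc
  · intro u hu hu2
    have h1 := hsq u hu2
    rcases h.wr.cases u hu with ⟨p, q, rfl⟩ | ⟨p, q, rfl⟩
    · refine ⟨1, (S : Subgroup G).one_mem, 0, 1, by decide, ?_⟩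
      rw [hT01, one_mul, inv_one, mul_one]
      exact TNotZ.t_comm h.wr b _
    · rw [h.wr.fw_sq_eq_one_iff] at h1
      subst h1
      have h2 := h.wr.f_conj_w p 1
      rw [inv_one, mul_one, one_mul] at h2
      refine ⟨(f (p, 1))⁻¹, (S : Subgroup G).inv_mem (h.wr.mem _), 0, 2, by decide, ?_⟩
      have e1 : (f (p, 1))⁻¹ * (f (p, p⁻¹) * w) * ((f (p, 1))⁻¹)⁻¹ = w := by
        rw [← h2]; group
      rw [e1, toFr_T, zv_02 b, h.wr.w_f]

/-- the moves in the semidihedral case -/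
theorem moves_sd {n : ℕ} {u : ZMod (2 ^ n) → W} {y : W} {S : Subgroup G}
    (h : FusSD S f w u y) : Moves f (u (2 ^ (n - 1))) y := by
  intro p hp hp1 hp2
  have b := sd_base h.coord
  obtain ⟨a, ha⟩ := SDFive.conj_y h.coord p hp hp1 hp2
  refine ⟨f (a, 1), TNotZ.t_comm h.out.wr b _, ?_, fun q => ?_⟩
  · rw [h.out.wr.f_comm_f_iff]
    exact ⟨by rw [one_mul, mul_one], by rw [one_mul, mul_one]⟩
  · rw [← map_inv, Prod.inv_mk, h.out.wr.f_mul_f, h.out.wr.f_mul_f, ha, inv_one, one_mul, mul_one]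

/-- the moves in the wreathed case -/
theorem moves_wr {n : ℕ} {u : ZMod (2 ^ n) → ZMod (2 ^ n) → W} {s : W} {S : Subgroup G}
    (h : FusWR S f w u s) : Moves f (u (2 ^ (n - 1)) (2 ^ (n - 1))) (u (2 ^ (n - 1)) 0) := by
  intro p hp hp1 hp2
  have b := wr_base h.coord
  obtain ⟨ρ, hρ⟩ := h.rho
  have hwr := h.out.wr
  have c1 : ∀ a : W, f (a, 1) * f (u (2 ^ (n - 1)) (2 ^ (n - 1)), 1) =
      f (u (2 ^ (n - 1)) (2 ^ (n - 1)), 1) * f (a, 1) := fun a => TNotZ.t_comm hwr b _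
  have c2 : ∀ a : W, f (a, 1) * f (1, u (2 ^ (n - 1)) (2 ^ (n - 1))) =
      f (1, u (2 ^ (n - 1)) (2 ^ (n - 1))) * f (a, 1) := by
    intro a
    rw [hwr.f_comm_f_iff]
    exact ⟨by rw [one_mul, mul_one], by rw [one_mul, mul_one]⟩
  have key : ∀ a q, f (a, 1) * f (p, q) * (f (a, 1))⁻¹ = f (a * p * a⁻¹, q) := by
    intro a q
    rw [← map_inv, Prod.inv_mk, hwr.f_mul_f, hwr.f_mul_f, inv_one, one_mul, mul_one]
  have hρc : ∀ a y, ρ⁻¹ * f (u a a, y) = f (u a a, y) * ρ⁻¹ := by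
    intro a y
    have h1 := hρ.comm a y
    calc ρ⁻¹ * f (u a a, y) = ρ⁻¹ * (f (u a a, y) * ρ) * ρ⁻¹ := by group
      _ = ρ⁻¹ * (ρ * f (u a a, y)) * ρ⁻¹ := by rw [h1]
      _ = _ := by group
  rcases WRMain.conj_d_or_s h.coord p hp hp1 hp2 with ⟨a, ha⟩ | ⟨a, ha⟩
  · exact ⟨f (a, 1), c1 a, c2 a, fun q => by rw [key, ha]⟩
  · refine ⟨ρ⁻¹ * f (a, 1), ?_, ?_, fun q => ?_⟩
    · rw [mul_assoc, c1, ← mul_assoc, hρc, mul_assoc]
    · have h0 : f ((1 : W), u (2 ^ (n - 1)) (2 ^ (n - 1))) =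
        f (u 0 0, u (2 ^ (n - 1)) (2 ^ (n - 1))) := by rw [h.coord.u_zero]
      rw [mul_assoc, c2, ← mul_assoc, h0, hρc, mul_assoc]
    · calc ρ⁻¹ * f (a, 1) * f (p, q) * (ρ⁻¹ * f (a, 1))⁻¹
          = ρ⁻¹ * (f (a, 1) * f (p, q) * (f (a, 1))⁻¹) * ρ := by group
        _ = ρ⁻¹ * f (s, q) * ρ := by rw [key, ha]
        _ = ρ⁻¹ * (ρ * f (u (2 ^ (n - 1)) 0, q) * ρ⁻¹) * ρ := by
            rw [WRMain.rho_d_s h.coord hρ]
        _ = _ := by group

/-- the frame, semidihedral case -/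
def frSD {n : ℕ} {u : ZMod (2 ^ n) → W} {y : W} {S : Subgroup G} (h : FusSD S f w u y) : Fr G :=
  toFr S h.out (sd_base h.coord) (SDMain.edata h.coord)

theorem fieldsSD [Finite G] {n : ℕ} {u : ZMod (2 ^ n) → W} {y : W} {S : Sylow 2 G}
    (h : FusSD (S : Subgroup G) f w u y) : Fields S (frSD h) :=
  fields h.out (sd_base h.coord) (SDMain.edata h.coord) (moves_sd h)

/-- the frame, wreathed case -/
def frWR {n : ℕ} {u : ZMod (2 ^ n) → ZMod (2 ^ n) → W} {s : W} {S : Subgroup G}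
    (h : FusWR S f w u s) : Fr G :=
  toFr S h.out (wr_base h.coord) (WRMain.edata h.coord)

theorem fieldsWR [Finite G] {n : ℕ} {u : ZMod (2 ^ n) → ZMod (2 ^ n) → W} {s : W}
    {S : Sylow 2 G} (h : FusWR (S : Subgroup G) f w u s) : Fields S (frWR h) :=
  fields h.out (wr_base h.coord) (WRMain.edata h.coord) (moves_wr h)

end Cfsg.Agent.TypeLFive.FusGlue
end

-- part: TypeLFive/CentOut
section
/-!
# The output of the centraliser analysis (C) of S0511
-/

set_option autoImplicit false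

namespace Cfsg.Agent.TypeLFive.CentOut

open Subgroup Cfsg.Agent.TypeLFive.CentAbs Cfsg.Agent.TypeLFive.CentData
  Cfsg.Agent.TypeLFive.CentFiveApp Cfsg.Agent.TypeLFive.JIdent Cfsg.Agent.TypeLFive.QUniq
  Cfsg.Agent.TypeLFive.CentFiveJ

universe v

/-- The identification theorem for simple groups with quasi-dihedral or wreathed Sylow 2-subgroups. -/
def IdThm : Prop := ∀ (J : Type v) [Group J] [Finite J] [IsSimpleGroup J] (P : Sylow 2 J),
  Cfsg.IsQuasiDihedral (P : Subgroup J) ∨ Cfsg.IsWreathed (P : Subgroup J) → JId J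

/-- Identification of `J`. -/
theorem exists_jData_of_cHyp {X : Type v} [Group X] [Finite X] {T : Sylow 2 X}
    {W1 W2 Q1 : Subgroup X} (h : CHyp T W1 W2 Q1) (hId : IdThm.{v}) :
    ∃ (F₀ : Type) (_ : Field F₀) (_ : Fintype F₀) (p : ℕ), JData ↥(normalClosure (W2 : Set X)) F₀ p := by
  obtain ⟨hs, -⟩ := h.simple_J
  obtain ⟨P, hP⟩ := h.exists_sylow_J
  have e : ↥W2 ≃* ↥(P : Subgroup ↥(normalClosure (W2 : Set X))) := by
    rw [hP]
    exact (Subgroup.subgroupOfEquivOfLe h.le_J).symm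
  have hType : Cfsg.IsQuasiDihedral (P : Subgroup ↥(normalClosure (W2 : Set X))) ∨
      Cfsg.IsWreathed (P : Subgroup ↥(normalClosure (W2 : Set X))) := by
    rcases h.type with h1 | h1
    · exact Or.inl (TwoFusion.SylowTypeTransfer.isQuasiDihedral_of_mulEquiv e h1)
    · exact Or.inr (TwoFusion.SylowTypeTransfer.isWreathed_of_mulEquiv e h1)
  exact exists_jData' (hId _ P hType)

/-- **Output of (C)**, from `CHyp`. -/
theorem out_of_cHyp {G : Type v} {W : Type*} [Group G] [Finite G] [Group W] {f : W × W →* G}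
    {w : G} {Q : Subgroup W} {ζ : W} (hinj : Function.Injective f) (h2W : IsPGroup 2 W)
    (hw : ∀ x y, w * f (x, y) * w⁻¹ = f (y, x)) (hζ1 : ζ ≠ 1) (hζ2 : ζ * ζ = 1)
    (hζc : ∀ x, ζ * x = x * ζ) (hQn : Q.Normal) (hQL : QLike Q)
    {X : Type v} [Group X] [Finite X] {T : Sylow 2 X} {W1 W2 Q1 : Subgroup X} {C : Subgroup G}
    (hC : ∀ g, g ∈ C ↔ g * f (ζ, 1) = f (ζ, 1) * g)
    (φ : ↥C →* X) (hφ : Function.Surjective φ) (hk : Odd (Nat.card φ.ker))
    (h : CHyp T W1 W2 Q1) (hW2 : ((P2 f ⊤).subgroupOf C).map φ = W2)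
    (hQ1 : ((P1 f Q).subgroupOf C).map φ = Q1) (hId : IdThm.{v}) :
    ∃ (F₀ : Type) (_ : Field F₀) (_ : Fintype F₀) (p : ℕ),
      JData ↥(normalClosure (W2 : Set X)) F₀ p ∧
      (3 < Fintype.card F₀ → Nonempty (↥(normalClosure (Q1 : Set X)) ≃*
        Matrix.SpecialLinearGroup (Fin 2) F₀)) ∧
      (Fintype.card F₀ = 3 → normalClosure (Q1 : Set X) = Q1) := by
  obtain ⟨F₀, i1, i2, p, hJ⟩ := exists_jData_of_cHyp h hId
  refine ⟨F₀, i1, i2, p, hJ, ?_⟩
  exact app hinj h2W hw hζ1 hζ2 hζc hQn hQL hC φ hφ hk h hW2 hQ1 hJ.odd (slFact_of_yIso hJ.yiso)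

end Cfsg.Agent.TypeLFive.CentOut
end

-- part: TypeLFive/CentSDTools
section
/-!
# Sylow 2-subgroups of subgroups, and odd order elements acting on 2-groups
-/

set_option autoImplicit false

namespace Cfsg.Agent.TypeLFive.CentSDTools

open Subgroup Cfsg.Agent.Lib.GoldschmidtFusion

variable {G : Type*} [Group G] [Finite G]

/-- `U` is a Sylow 2-subgroup of the subgroup `N`. -/
structure SylIn (U N : Subgroup G) : Prop where
  le : U ≤ N
  two : IsPGroup 2 U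
  odd : ¬ 2 ∣ U.relIndex N

namespace SylIn

variable {U N : Subgroup G}

omit [Finite G] in
theorem mono (h : SylIn U N) {N' : Subgroup G} (hU : U ≤ N') (hN : N' ≤ N) : SylIn U N' := by
  refine ⟨hU, h.two, fun hd => h.odd ?_⟩
  rw [← relIndex_mul_relIndex U N' N hU hN]
  exact hd.mul_right _

theorem conj_le (h : SylIn U N) {D : Subgroup G} (hD : D ≤ N) (hD2 : IsPGroup 2 D) :
    ∃ n ∈ N, ∀ x ∈ D, n * x * n⁻¹ ∈ U := by
  obtain ⟨n, hn, hle⟩ := exists_conj_le_in h.two h.odd hD hD2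
  exact ⟨n, hn, fun x hx => hle (conj_mem_map_conj hx n)⟩

theorem card_le (h : SylIn U N) {D : Subgroup G} (hD : D ≤ N) (hD2 : IsPGroup 2 D) :
    Nat.card D ≤ Nat.card U := by
  obtain ⟨n, hn, hle⟩ := exists_conj_le_in h.two h.odd hD hD2
  rw [← card_map_conj D n]
  exact Subgroup.card_le_of_le hle

/-- A 2-subgroup of `N` of maximal order is a Sylow subgroup. -/
theorem of_card_le (hU : U ≤ N) (h2 : IsPGroup 2 U)
    (hc : ∀ D : Subgroup G, D ≤ N → IsPGroup 2 D → U ≤ D → Nat.card D ≤ Nat.card U) : SylIn U N := by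
  obtain ⟨R, hUR, hRN, hR, hRi⟩ := exists_sylow_in hU h2
  have h1 := Subgroup.eq_of_le_of_card_ge hUR (hc R hRN hR hUR)
  subst h1
  exact ⟨hU, h2, hRi⟩

theorem exists_ge {D : Subgroup G} (hD : D ≤ N) (h2 : IsPGroup 2 D) : ∃ R, D ≤ R ∧ SylIn R N := by
  obtain ⟨R, hUR, hRN, hR, hRi⟩ := exists_sylow_in hD h2
  exact ⟨R, hUR, hRN, hR, hRi⟩

omit [Finite G] in
theorem conj_conj {g x y : G} : g * (x * y * x⁻¹) * g⁻¹ = g * x * y * (g * x)⁻¹ := by group

/-- Transport of a 2-group of `C_N(x)` into the Sylow subgroup `U` when `x` is conjugate to an element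
centralised by `U`. -/
theorem move (h : SylIn U N) {x x' c : G} (hx' : ∀ a ∈ U, a * x' = x' * a) (hc : c ∈ N)
    (hcx : c * x * c⁻¹ = x') {R : Subgroup G} (hR : R ≤ N) (hR2 : IsPGroup 2 R)
    (hRx : ∀ a ∈ R, a * x = x * a) :
    ∃ m ∈ N, m * x * m⁻¹ = x' ∧ ∀ a ∈ R, m * a * m⁻¹ ∈ U := by
  have h1 : SylIn U (N ⊓ centralizer ({x'} : Set G)) :=
    h.mono (le_inf h.le fun a ha => mem_centralizer_singleton_iff.2 (hx' a ha)) inf_le_left
  have h2 : R.map (MulAut.conj c).toMonoidHom ≤ N ⊓ centralizer ({x'} : Set G) := by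
    rintro _ ⟨a, ha, rfl⟩
    have hm1 : c * a * c⁻¹ ∈ N := N.mul_mem (N.mul_mem hc (hR ha)) (N.inv_mem hc)
    refine mem_inf.2 ⟨hm1, mem_centralizer_singleton_iff.2 ?_⟩
    rw [← hcx]
    change c * a * c⁻¹ * (c * x * c⁻¹) = c * x * c⁻¹ * (c * a * c⁻¹)
    have e1 : c * a * c⁻¹ * (c * x * c⁻¹) = c * (a * x) * c⁻¹ := by group
    have e2 : c * x * c⁻¹ * (c * a * c⁻¹) = c * (x * a) * c⁻¹ := by group
    rw [e1, e2, hRx a ha]
  obtain ⟨d, hd, hle⟩ := h1.conj_le h2 (hR2.map _)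
  refine ⟨d * c, mul_mem hd.1 hc, ?_, ?_⟩
  · have h3 := mem_centralizer_singleton_iff.1 hd.2
    rw [← conj_conj, hcx, h3, mul_inv_cancel_right]
  · intro a ha
    have := hle _ (conj_mem_map_conj ha c)
    rwa [conj_conj] at this

/-- The same with a Sylow subgroup `U` of `C_N(x')`. -/
theorem move' {x x' c : G} (h : SylIn U (N ⊓ centralizer ({x'} : Set G))) (hc : c ∈ N)
    (hcx : c * x * c⁻¹ = x') {R : Subgroup G} (hR : R ≤ N) (hR2 : IsPGroup 2 R)
    (hRx : ∀ a ∈ R, a * x = x * a) :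
    ∃ m ∈ N, m * x * m⁻¹ = x' ∧ ∀ a ∈ R, m * a * m⁻¹ ∈ U := by
  have h2 : R.map (MulAut.conj c).toMonoidHom ≤ N ⊓ centralizer ({x'} : Set G) := by
    rintro _ ⟨a, ha, rfl⟩
    have hm1 : c * a * c⁻¹ ∈ N := N.mul_mem (N.mul_mem hc (hR ha)) (N.inv_mem hc)
    refine mem_inf.2 ⟨hm1, mem_centralizer_singleton_iff.2 ?_⟩
    rw [← hcx]
    change c * a * c⁻¹ * (c * x * c⁻¹) = c * x * c⁻¹ * (c * a * c⁻¹)
    have e1 : c * a * c⁻¹ * (c * x * c⁻¹) = c * (a * x) * c⁻¹ := by group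
    have e2 : c * x * c⁻¹ * (c * a * c⁻¹) = c * (x * a) * c⁻¹ := by group
    rw [e1, e2, hRx a ha]
  obtain ⟨d, hd, hle⟩ := h.conj_le h2 (hR2.map _)
  refine ⟨d * c, mul_mem hd.1 hc, ?_, ?_⟩
  · have h3 := mem_centralizer_singleton_iff.1 hd.2
    rw [← conj_conj, hcx, h3, mul_inv_cancel_right]
  · intro a ha
    have := hle _ (conj_mem_map_conj ha c)
    rwa [conj_conj] at this

/-- An element `m` with `m U m⁻¹ ≤ U` normalises `U`. -/
theorem conj_inv_mem {U : Subgroup G} {m : G} (hm : ∀ a ∈ U, m * a * m⁻¹ ∈ U) {a : G} (ha : a ∈ U) :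
    m⁻¹ * a * m ∈ U := by
  have hle : U.map (MulAut.conj m).toMonoidHom ≤ U := by
    rintro _ ⟨a, ha, rfl⟩
    exact hm a ha
  have heq := Subgroup.eq_of_le_of_card_ge hle (card_map_conj U m).ge
  rw [← heq] at ha
  exact mem_map_conj.1 ha

theorem exists_mul (h : SylIn U N) (H : Subgroup G)
    (hn : ∀ g ∈ N, ∀ a ∈ H, g * a * g⁻¹ ∈ H) (hodd : ∀ g ∈ N, Odd (orderOf g) → g ∈ H) {g : G}
    (hg : g ∈ N) : ∃ τ ∈ U, ∃ a ∈ H, g = τ * a := by
  classical
  set H' := H.subgroupOf N with hH'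
  set U' := U.subgroupOf N with hU'
  have hH'n : H'.Normal := ⟨fun a ha x => hn x x.2 a ha⟩
  have h1 : IsPGroup 2 (N ⧸ H') := by
    intro q
    obtain ⟨x, rfl⟩ := QuotientGroup.mk_surjective q
    refine ⟨(orderOf (x : G)).factorization 2, ?_⟩
    rw [← QuotientGroup.mk_pow, QuotientGroup.eq_one_iff]
    refine hodd _ (N.pow_mem x.2 _) ?_
    have hpos : 0 < orderOf (x : G) := orderOf_pos _
    have hco : N.subtype (x ^ 2 ^ (orderOf (x : G)).factorization 2) =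
        (x : G) ^ 2 ^ (orderOf (x : G)).factorization 2 := rfl
    rw [hco, orderOf_pow_of_dvd (by positivity) (Nat.ordProj_dvd _ 2)]
    exact Nat.odd_iff.2 (by
      have := Nat.not_dvd_ordCompl Nat.prime_two hpos.ne'
      omega)
  have h2 : (U' ⊔ H').index = 1 := by
    have h3 : (U' ⊔ H').index ∣ U'.index := index_dvd_of_le le_sup_left
    have h4 : (U' ⊔ H').index ∣ H'.index := index_dvd_of_le le_sup_right
    obtain ⟨k, hk⟩ := (IsPGroup.iff_card (p := 2)).1 h1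
    rw [← index_eq_card] at hk
    rw [hk] at h4
    obtain ⟨j, -, hj⟩ := (Nat.dvd_prime_pow Nat.prime_two).1 h4
    rcases j with _ | j
    · simpa only [_root_.Subgroup.index_eq_one, _root_.pow_zero] using hj
    · exfalso
      apply h.odd
      change 2 ∣ U'.index
      refine Dvd.dvd.trans ?_ h3
      rw [hj]
      exact dvd_pow_self 2 (by omega)
  rw [index_eq_one] at h2
  have h5 : (⟨g, hg⟩ : N) ∈ U' ⊔ H' := by rw [h2]; trivial
  rw [← SetLike.mem_coe, Subgroup.mul_normal] at h5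
  obtain ⟨a, ha, b, hb, hab⟩ := h5
  exact ⟨a, ha, b, hb, (congrArg Subtype.val hab).symm⟩

omit [Finite G] in
/-- `U` as a Sylow subgroup of the group `N`. -/
theorem exists_sylow (h : SylIn U N) : ∃ P : Sylow 2 N, (P : Subgroup N) = U.subgroupOf N := by
  have h1 : IsPGroup 2 (U.subgroupOf N) :=
    h.two.of_equiv (Subgroup.subgroupOfEquivOfLe h.le).symm
  exact ⟨h1.toSylow h.odd, rfl⟩

/-- Transfer into `U / K`, `K` of index two in the Sylow 2-subgroup `U`. -/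
theorem transfer (h : SylIn U N) (K : Subgroup G) (hK : K.relIndex U = 2) :
    ∃ V : N →* ℤˣ, ∀ (x : G) (hx : x ∈ U),
      (∀ (k : ℕ), ∀ g ∈ N, g * x ^ k * g⁻¹ ∈ U → (g * x ^ k * g⁻¹ ∈ K ↔ x ^ k ∈ K)) →
        (V ⟨x, h.le hx⟩ = 1 ↔ x ∈ K) := by
  obtain ⟨P, hP⟩ := h.exists_sylow
  have h1 : (K.subgroupOf N).relIndex (P : Subgroup N) = 2 := by
    rw [hP, relIndex_subgroupOf h.le]
    exact hK
  obtain ⟨V, hV⟩ := SylowSp4.Extremal.exists_transfer P (K.subgroupOf N) h1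
  refine ⟨V, fun x hx hk => ?_⟩
  have h2 := hV ⟨x, h.le hx⟩ (by rw [hP]; exact hx) (by
    intro k g hg
    rw [hP] at hg
    exact hk k g g.2 hg)
  exact h2

end SylIn

/-! ### Odd order elements -/

omit [Finite G] in
/-- `g x g⁻¹ = a x` with `a` a 2-element centralised by the element `g` of odd order forces `a = 1`. -/
theorem eq_one_of_odd {g a x : G} (hg : Odd (orderOf g)) (hx : g * x * g⁻¹ = a * x) (ha : g * a = a * g)
    {k : ℕ} (hk : a ^ 2 ^ k = 1) : a = 1 := by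
  have h1 : ∀ m : ℕ, g ^ m * x * (g ^ m)⁻¹ = a ^ m * x := by
    intro m
    induction m with
    | zero => simp
    | succ m ih =>
      have e : g ^ (m + 1) * x * (g ^ (m + 1))⁻¹ = g * (g ^ m * x * (g ^ m)⁻¹) * g⁻¹ := by
        rw [pow_succ']; group
      have h2 : g * a ^ m = a ^ m * g := (Commute.pow_right ha m : Commute g (a ^ m))
      rw [e, ih]
      have e2 : g * (a ^ m * x) * g⁻¹ = (g * a ^ m) * x * g⁻¹ := by group
      have e3 : a ^ m * g * x * g⁻¹ = a ^ m * (g * x * g⁻¹) := by group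
      rw [e2, h2, e3, hx, pow_succ, mul_assoc]
  have h2 := h1 (orderOf g)
  rw [pow_orderOf_eq_one, one_mul, inv_one, mul_one] at h2
  have h3 : a ^ orderOf g = 1 := by
    have := mul_eq_right.1 h2.symm
    exact this
  have h4 : orderOf a ∣ 1 := by
    have h5 : Nat.gcd (orderOf g) (2 ^ k) = 1 := (Nat.Coprime.pow_right k (Nat.coprime_two_right.2 hg))
    rw [← h5]
    exact Nat.dvd_gcd (orderOf_dvd_of_pow_eq_one h3) (orderOf_dvd_of_pow_eq_one hk)
  exact orderOf_eq_one_iff.1 (Nat.dvd_one.1 h4)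

/-- An odd order element normalising a cyclic 2-group centralises it. -/
theorem commute_of_odd_cyclic {g x : G} (hg : Odd (orderOf g)) {k : ℕ} (hx : orderOf x = 2 ^ k)
    (hgx : g * x * g⁻¹ ∈ zpowers x) : g * x = x * g := by
  have hle : (zpowers x).map (MulAut.conj g).toMonoidHom ≤ zpowers x := by
    rw [MonoidHom.map_zpowers, zpowers_le]
    exact hgx
  have heq := Subgroup.eq_of_le_of_card_ge hle (card_map_conj _ g).ge
  have hgN : g ∈ normalizer (zpowers x : Set G) := mem_normalizer_iff_map_conj.2 heq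
  have hcard : Nat.card (zpowers x) = 2 ^ k := by rw [Nat.card_zpowers, hx]
  have hA := TwoFusion.CyclicAut.isPGroup_mulAut (C := zpowers x) k hcard
  set F := (zpowers x).normalizerMonoidHom with hF
  obtain ⟨j, hj⟩ := hA (F ⟨g, hgN⟩)
  have h1 : F ⟨g, hgN⟩ ^ orderOf g = 1 := by
    rw [← map_pow]
    have : (⟨g, hgN⟩ : normalizer (zpowers x : Set G)) ^ orderOf g = 1 := by
      apply Subtype.ext
      rw [SubmonoidClass.coe_pow, pow_orderOf_eq_one]
      rfl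
    rw [this, map_one]
  have h2 : F ⟨g, hgN⟩ = 1 := by
    have h4 : orderOf (F ⟨g, hgN⟩) ∣ 1 := by
      have h5 : Nat.gcd (orderOf g) (2 ^ j) = 1 := (Nat.Coprime.pow_right j (Nat.coprime_two_right.2 hg))
      rw [← h5]
      exact Nat.dvd_gcd (orderOf_dvd_of_pow_eq_one h1) (orderOf_dvd_of_pow_eq_one hj)
    exact orderOf_eq_one_iff.1 (Nat.dvd_one.1 h4)
  have h3 : (F ⟨g, hgN⟩ ⟨x, mem_zpowers x⟩ : G) = x := by
    rw [h2]; rfl
  have h4 : (F ⟨g, hgN⟩ ⟨x, mem_zpowers x⟩ : G) = g * x * g⁻¹ := rfl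
  rw [h4] at h3
  exact mul_inv_eq_iff_eq_mul.1 h3

end Cfsg.Agent.TypeLFive.CentSDTools
end

-- part: TypeLFive/CentGlue
section
/-!
# From `CData` to `CHyp` for `X = C_G(t) / O(C_G(t))`

`phi D : W × W →* X` is injective, its range is a Sylow 2-subgroup `T` of `X`, `fusion`: conjugation in `X` of
elements of `T` lifts to `C_G(t)`, `chyp`: the hypotheses `CHyp` hold for `T`, `W1 = phi (W × 1)`,
`W2 = phi (1 × W)`, `Q1 = phi (Q × 1)`.
-/

set_option autoImplicit false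

namespace Cfsg.Agent.TypeLFive.CentGlue

open Subgroup CentData CentAbs CentSDTools

variable {G W : Type*} [Group G] [Group W] {f : W × W →* G} {Q : Subgroup W} {ζ : W}

/-- `C_G(t)`. -/
abbrev Ct (f : W × W →* G) (ζ : W) : Subgroup G := centralizer ({f (ζ, 1)} : Set G)

/-- `C_G(t) / O(C_G(t))`. -/
abbrev XX (f : W × W →* G) (ζ : W) := ↥(Ct f ζ) ⧸ Cfsg.oddCore ↥(Ct f ζ)

theorem mem_Ct (D : CData f Q ζ) (p : W × W) : f p ∈ Ct f ζ := by
  rw [mem_centralizer_singleton_iff, ← map_mul, ← map_mul]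
  congr 1
  exact Prod.ext (D.ζ_center p.1).symm (by simp)

/-- `f` as a homomorphism to `C_G(t)`. -/
def lft (D : CData f Q ζ) : W × W →* ↥(Ct f ζ) := f.codRestrict _ (mem_Ct D)

@[simp] theorem coe_lft (D : CData f Q ζ) (p : W × W) : (lft D p : G) = f p := rfl

/-- The coordinates of the Sylow 2-subgroup of `C_G(t) / O(C_G(t))`. -/
def phi (D : CData f Q ζ) : W × W →* XX f ζ := (QuotientGroup.mk' _).comp (lft D)

theorem phi_apply (D : CData f Q ζ) (p : W × W) :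
    phi D p = QuotientGroup.mk' (Cfsg.oddCore ↥(Ct f ζ)) ⟨f p, mem_Ct D p⟩ := rfl

theorem twoP (D : CData f Q ζ) (p : W × W) : ∃ k : ℕ, p ^ 2 ^ k = 1 := by
  obtain ⟨a, b⟩ := p
  obtain ⟨k, hk⟩ := D.twoW a
  obtain ⟨l, hl⟩ := D.twoW b
  refine ⟨k + l, ?_⟩
  rw [Prod.pow_mk, pow_add, pow_mul, hk, one_pow, mul_comm, pow_mul, hl, one_pow]
  rfl

section

variable [Finite G]

theorem odd_core (D : CData f Q ζ) : (Nat.card ↥(Cfsg.oddCore ↥(Ct f ζ))).Coprime 2 :=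
  have := D.finW
  Lib.Cores.pPrimeCore_coprime 2

theorem phi_injective (D : CData f Q ζ) : Function.Injective (phi D) := by
  rw [injective_iff_map_eq_one]
  intro p hp
  have h1 : lft D p ∈ Cfsg.oddCore ↥(Ct f ζ) := (QuotientGroup.eq_one_iff _).1 hp
  obtain ⟨k, hk⟩ := twoP D p
  have h2 : orderOf (lft D p) ∣ 2 ^ k := by
    rw [orderOf_dvd_iff_pow_eq_one, ← map_pow, hk, map_one]
  have h3 : orderOf (lft D p) ∣ Nat.card ↥(Cfsg.oddCore ↥(Ct f ζ)) := Subgroup.orderOf_dvd_natCard _ h1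
  have h4 : orderOf (lft D p) = 1 :=
    Nat.dvd_one.1 ((Nat.Coprime.pow_right k (odd_core D)).gcd_eq_one ▸ Nat.dvd_gcd h3 h2)
  have h5 : f p = 1 := congrArg Subtype.val (orderOf_eq_one_iff.1 h4)
  rw [← map_one f] at h5
  exact D.inj h5

/-- `T` is a Sylow 2-subgroup of `C_G(t)`. -/
theorem exists_sylow_C (D : CData f Q ζ) : ∃ P : Sylow 2 ↥(Ct f ζ), (P : Subgroup ↥(Ct f ζ)) = (lft D).range := by
  have : Fact (Nat.Prime 2) := ⟨Nat.prime_two⟩
  have hr2 : IsPGroup 2 f.range := by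
    rintro ⟨_, p, rfl⟩
    obtain ⟨k, hk⟩ := twoP D p
    refine ⟨k, Subtype.ext ?_⟩
    change f p ^ 2 ^ k = 1
    rw [← map_pow, hk, map_one]
  have hrC : f.range ≤ Ct f ζ := by
    rintro _ ⟨p, rfl⟩
    exact mem_Ct D p
  obtain ⟨R, hR, hRs⟩ := SylIn.exists_ge hrC hr2
  have h1 := D.sylow_t R hRs.two hR (fun r hr => mem_centralizer_singleton_iff.1 (hRs.le hr))
  rw [h1] at hRs
  obtain ⟨P, hP⟩ := hRs.exists_sylow
  refine ⟨P, hP.trans ?_⟩
  ext x
  rw [mem_subgroupOf]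
  constructor
  · rintro ⟨p, hp⟩
    exact ⟨p, Subtype.ext hp⟩
  · rintro ⟨p, rfl⟩
    exact ⟨p, rfl⟩

/-- A Sylow 2-subgroup of `X`. -/
theorem exists_sylow (D : CData f Q ζ) : ∃ T : Sylow 2 (XX f ζ), (T : Subgroup (XX f ζ)) = (phi D).range := by
  have : Fact (Nat.Prime 2) := ⟨Nat.prime_two⟩
  obtain ⟨P, hP⟩ := exists_sylow_C D
  refine ⟨P.mapSurjective (QuotientGroup.mk'_surjective _), ?_⟩
  rw [Sylow.coe_mapSurjective, hP, phi, MonoidHom.range_comp]

/-- Fusion in `X` lifts to `C_G(t)`. -/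
theorem fusion (D : CData f Q ζ) (p : W × W) (g : XX f ζ) (hg : g * phi D p * g⁻¹ ∈ (phi D).range) :
    ∃ c : ↥(Ct f ζ), QuotientGroup.mk' _ c = g ∧ ∃ p' : W × W, (c : G) * f p * (c : G)⁻¹ = f p' ∧
      g * phi D p * g⁻¹ = phi D p' := by
  obtain ⟨P, hP⟩ := exists_sylow_C D
  obtain ⟨d, rfl⟩ := QuotientGroup.mk'_surjective _ g
  set O := Cfsg.oddCore ↥(Ct f ζ) with hO
  have hOn : O.Normal := Lib.Cores.pPrimeCore_normal 2
  set x : ↥(Ct f ζ) := d * lft D p * d⁻¹ with hx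
  have hxT : x ∈ (P : Subgroup ↥(Ct f ζ)) ⊔ O := by
    have h1 : QuotientGroup.mk' O x ∈ ((lft D).range).map (QuotientGroup.mk' O) := by
      rw [← MonoidHom.range_comp]; exact hg
    obtain ⟨t, ht, htx⟩ := h1
    rw [QuotientGroup.mk'_eq_mk'] at htx
    obtain ⟨z, hz, hzt⟩ := htx
    rw [← hzt]
    exact mul_mem (mem_sup_left (by rw [hP]; exact ht)) (mem_sup_right hz)
  have hS : SylIn (P : Subgroup ↥(Ct f ζ)) ((P : Subgroup ↥(Ct f ζ)) ⊔ O) := by
    have : Fact (Nat.Prime 2) := ⟨Nat.prime_two⟩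
    exact ⟨le_sup_left, P.isPGroup', fun h2 => P.not_dvd_index (h2.trans (relIndex_dvd_index_of_le le_sup_left))⟩
  have hx2 : IsPGroup 2 (zpowers x) := by
    obtain ⟨k, hk⟩ := twoP D p
    rw [hx]
    rintro ⟨y, hy⟩
    obtain ⟨i, rfl⟩ := mem_zpowers_iff.1 hy
    refine ⟨k, Subtype.ext ?_⟩
    have h1 : (d * lft D p * d⁻¹) ^ 2 ^ k = 1 := by
      rw [conj_pow, ← map_pow, hk, map_one, mul_one, mul_inv_cancel]
    change ((d * lft D p * d⁻¹) ^ i) ^ 2 ^ k = 1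
    rw [← zpow_natCast, ← zpow_mul, mul_comm, zpow_mul, zpow_natCast, h1, one_zpow]
  obtain ⟨m, hm, hmx⟩ := hS.conj_le (D := zpowers x) (by rwa [zpowers_le]) hx2
  rw [mem_sup_of_normal_right] at hm
  obtain ⟨a, ha, o, ho, rfl⟩ := hm
  have h2 := hmx x (mem_zpowers x)
  have h3 : o * x * o⁻¹ ∈ (P : Subgroup ↥(Ct f ζ)) := by
    have h4 := mul_mem (mul_mem (inv_mem ha) h2) ha
    have e : a⁻¹ * (a * o * x * (a * o)⁻¹) * a = o * x * o⁻¹ := by group
    rwa [e] at h4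
  rw [hP] at h3
  obtain ⟨p', hp'⟩ := h3
  have ho1 : QuotientGroup.mk' O o = 1 := (QuotientGroup.eq_one_iff o).2 ho
  have hmk : QuotientGroup.mk' O (o * d) = QuotientGroup.mk' O d := by
    rw [map_mul, ho1, one_mul]
  refine ⟨o * d, hmk, p', ?_, ?_⟩
  · have h5 := congrArg Subtype.val hp'
    rw [coe_lft] at h5
    rw [h5, hx]
    push_cast
    rw [coe_lft]
    group
  · have h5 := congrArg (QuotientGroup.mk' O) hp'
    change phi D p' = _ at h5
    rw [h5, hx, map_mul, map_mul, map_inv, ho1, inv_one, one_mul, mul_one, map_mul, map_mul, map_inv]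
    rfl

/-- `W1`. -/
def W1 (D : CData f Q ζ) : Subgroup (XX f ζ) := ((⊤ : Subgroup W).prod ⊥).map (phi D)

/-- `W2`. -/
def W2 (D : CData f Q ζ) : Subgroup (XX f ζ) := ((⊥ : Subgroup W).prod ⊤).map (phi D)

/-- `Q1`. -/
def Q1 (D : CData f Q ζ) : Subgroup (XX f ζ) := (Q.prod ⊥).map (phi D)

/-- `Q2`. -/
def Q2 (D : CData f Q ζ) : Subgroup (XX f ζ) := ((⊥ : Subgroup W).prod Q).map (phi D)

omit [Finite G] in
theorem mem_W1 (D : CData f Q ζ) {x : XX f ζ} : x ∈ W1 D ↔ ∃ a, x = phi D (a, 1) := by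
  constructor
  · rintro ⟨⟨a, b⟩, ⟨-, hb⟩, rfl⟩
    have hb1 : b = 1 := hb
    exact ⟨a, by rw [hb1]⟩
  · rintro ⟨a, rfl⟩
    exact ⟨(a, 1), ⟨trivial, rfl⟩, rfl⟩

omit [Finite G] in
theorem mem_W2 (D : CData f Q ζ) {x : XX f ζ} : x ∈ W2 D ↔ ∃ b, x = phi D (1, b) := by
  constructor
  · rintro ⟨⟨a, b⟩, ⟨ha, -⟩, rfl⟩
    have ha1 : a = 1 := ha
    exact ⟨b, by rw [ha1]⟩
  · rintro ⟨b, rfl⟩
    exact ⟨(1, b), ⟨rfl, trivial⟩, rfl⟩

omit [Finite G] in
theorem mem_Q1 (D : CData f Q ζ) {x : XX f ζ} : x ∈ Q1 D ↔ ∃ a ∈ Q, x = phi D (a, 1) := by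
  constructor
  · rintro ⟨⟨a, b⟩, ⟨ha, hb⟩, rfl⟩
    have hb1 : b = 1 := hb
    exact ⟨a, ha, by rw [hb1]⟩
  · rintro ⟨a, ha, rfl⟩
    exact ⟨(a, 1), ⟨ha, rfl⟩, rfl⟩

/-- `W2` is isomorphic to `W`. -/
noncomputable def equivW2 (D : CData f Q ζ) : W ≃* ↥(W2 D) :=
  MulEquiv.ofBijective
    (((phi D).comp (MonoidHom.inr W W)).codRestrict (W2 D) (fun b => (mem_W2 D).2 ⟨b, rfl⟩))
    ⟨by
      intro a b hab
      have h1 : phi D (1, a) = phi D (1, b) := congrArg Subtype.val hab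
      exact (Prod.mk.inj (phi_injective D h1)).2, by
      rintro ⟨x, hx⟩
      obtain ⟨b, rfl⟩ := (mem_W2 D).1 hx
      exact ⟨b, rfl⟩⟩

theorem type_W2 (D : CData f Q ζ) : Cfsg.IsQuasiDihedral (W2 D) ∨ Cfsg.IsWreathed (W2 D) := by
  rcases D.type with h | h
  · exact Or.inl (TwoFusion.SylowTypeTransfer.isQuasiDihedral_of_mulEquiv (equivW2 D) h)
  · exact Or.inr (TwoFusion.SylowTypeTransfer.isWreathed_of_mulEquiv (equivW2 D) h)

theorem clQ (D : CData f Q ζ) : Cfsg.IsStronglyClosed (Q1 D) (phi D).range := by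
  refine ⟨?_, ?_⟩
  · rintro _ ⟨p, -, rfl⟩
    exact ⟨p, rfl⟩
  · intro x hx g hg
    obtain ⟨a, ha, rfl⟩ := (mem_Q1 D).1 hx
    obtain ⟨c, -, ⟨p, q⟩, hc, hgp⟩ := fusion D (a, 1) g hg
    obtain ⟨hp, hq⟩ := D.clQ c (mem_centralizer_singleton_iff.1 c.2) a ha p q hc
    subst hq
    rw [hgp]
    exact (mem_Q1 D).2 ⟨p, hp, rfl⟩

theorem clW (D : CData f Q ζ) : Cfsg.IsStronglyClosed (W2 D) (phi D).range := by
  refine ⟨?_, ?_⟩
  · rintro _ ⟨p, -, rfl⟩
    exact ⟨p, rfl⟩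
  · intro x hx g hg
    obtain ⟨b, rfl⟩ := (mem_W2 D).1 hx
    obtain ⟨c, -, ⟨p, q⟩, hc, hgp⟩ := fusion D (1, b) g hg
    have hp := D.clW c (mem_centralizer_singleton_iff.1 c.2) b p q hc
    subst hp
    rw [hgp]
    exact (mem_W2 D).2 ⟨q, rfl⟩

theorem chyp_of_kj (D : CData f Q ζ) (T : Sylow 2 (XX f ζ)) (hT : (T : Subgroup (XX f ζ)) = (phi D).range)
    (hkj : ∀ x ∈ normalClosure (Q1 D : Set (XX f ζ)), ∀ y ∈ normalClosure (W2 D : Set (XX f ζ)),
      x * y = y * x) : CHyp T (W1 D) (W2 D) (Q1 D) where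
  core := Lib.Cores.pPrimeCore_quotient_pPrimeCore 2
  comm := by
    intro x hx y hy
    obtain ⟨a, rfl⟩ := (mem_W1 D).1 hx
    obtain ⟨b, rfl⟩ := (mem_W2 D).1 hy
    rw [← map_mul, ← map_mul, Prod.mk_mul_mk, Prod.mk_mul_mk, one_mul, mul_one, one_mul, mul_one]
  leT := by
    rw [hT]
    rintro _ ⟨p, -, rfl⟩
    exact ⟨p, rfl⟩
  fac := by
    rw [hT]
    rintro _ ⟨⟨a, b⟩, rfl⟩
    refine ⟨_, (mem_W1 D).2 ⟨a, rfl⟩, _, (mem_W2 D).2 ⟨b, rfl⟩, ?_⟩
    rw [← map_mul, Prod.mk_mul_mk, one_mul, mul_one]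
  inf := by
    intro x hx hy
    obtain ⟨a, rfl⟩ := (mem_W1 D).1 hx
    obtain ⟨b, hb⟩ := (mem_W2 D).1 hy
    have h1 := (Prod.mk.inj (phi_injective D hb)).1
    subst h1
    exact map_one (phi D)
  leW := by
    intro x hx
    obtain ⟨a, -, rfl⟩ := (mem_Q1 D).1 hx
    exact (mem_W1 D).2 ⟨a, rfl⟩
  clQ := by rw [hT]; exact clQ D
  clW := by rw [hT]; exact clW D
  centQ := by
    obtain ⟨c, hc⟩ := D.centQ
    refine ⟨phi D (c, 1), ?_⟩
    intro x hx hxc
    obtain ⟨a, rfl⟩ := (mem_W1 D).1 hx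
    have h1 := hc a (fun q hq => by
      have h2 := hxc _ ((mem_Q1 D).2 ⟨q, hq, rfl⟩)
      rw [← map_mul, ← map_mul] at h2
      exact (Prod.mk.inj (phi_injective D h2)).1)
    obtain ⟨k, hk⟩ := mem_zpowers_iff.1 h1
    refine mem_zpowers_iff.2 ⟨k, ?_⟩
    rw [← map_zpow]
    congr 1
    exact Prod.ext hk (one_zpow k)
  quoQ := by
    obtain ⟨v, hv⟩ := D.quoQ
    refine ⟨phi D (v, 1), (mem_W1 D).2 ⟨v, rfl⟩, ?_⟩
    intro x hx
    obtain ⟨a, rfl⟩ := (mem_W1 D).1 hx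
    obtain ⟨i, hi⟩ := hv a
    refine ⟨i, (mem_Q1 D).2 ⟨_, hi, ?_⟩⟩
    rw [← map_zpow, ← map_mul]
    congr 1
    refine Prod.ext rfl ?_
    change (1 : W) ^ i * 1 = 1
    rw [one_zpow, one_mul]
  aut := by
    intro g hg hn x hx
    refine Classification.QDW.AutSylow.comm_of_normalize (W2 D) (type_W2 D) ?_ hg x hx
    rw [mem_normalizer_iff]
    exact hn
  type := type_W2 D
  gen := by
    intro H hH x hx
    obtain ⟨b, rfl⟩ := (mem_W2 D).1 hx
    have h1 := D.gen (H.comap ((phi D).comp (MonoidHom.inr W W))) (by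
      intro c hc x y hxy
      have hcm : c ∈ Ct f ζ := mem_centralizer_singleton_iff.2 hc
      have h2 : QuotientGroup.mk' (Cfsg.oddCore ↥(Ct f ζ)) ⟨c, hcm⟩ * phi D (1, x) *
          (QuotientGroup.mk' (Cfsg.oddCore ↥(Ct f ζ)) ⟨c, hcm⟩)⁻¹ = phi D (1, y) := by
        rw [phi_apply, phi_apply, ← map_inv, ← map_mul, ← map_mul]
        congr 1
        exact Subtype.ext hxy
      have h3 := hH _ ((mem_W2 D).2 ⟨x, rfl⟩) (QuotientGroup.mk' (Cfsg.oddCore ↥(Ct f ζ)) ⟨c, hcm⟩)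
        (by rw [h2]; exact (mem_W2 D).2 ⟨y, rfl⟩)
      rw [h2] at h3
      rw [mem_comap, map_mul, map_inv]
      exact h3)
    have h2 : b ∈ H.comap ((phi D).comp (MonoidHom.inr W W)) := by rw [h1]; trivial
    exact h2
  kj := hkj

end

end Cfsg.Agent.TypeLFive.CentGlue
end

private theorem dce_2bab1834997b : _root_.True := by
  try have : _root_.True := by simp only [_root_.Cfsg.Agent.TwoFusion.WreathedBasic.IsWCoord.base.congr_simp]
  try have : _root_.True := by simp only [_root_.Cfsg.Agent.TypeLFive.WRho.Ctx.B.eq_1]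
  try have : _root_.True := by simp only [_root_.Cfsg.Agent.TypeLFive.EOrbit.vy.eq_1]
  try have : _root_.True := by simp only [_root_.Cfsg.Agent.TypeLFive.EOrbit.v1.eq_1]
  try have : _root_.True := by simp only [_root_.Cfsg.Agent.TypeLFive.EOrbit.vt.eq_1]
  try have : _root_.True := by simp only [_root_.Cfsg.Agent.TypeLFive.WRFive.cz.eq_1]
  try have : _root_.True := by simp only [_root_.Cfsg.Agent.TypeLFive.WRFive.ph.eq_1]
  try have : _root_.True := by simp only [_root_.Cfsg.Agent.TypeLFive.EOrbit.vz.eq_1]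
  try have : _root_.True := by simp only [_root_.Cfsg.Agent.TypeLFive.EOrbit.vt2.eq_1]
  try have : _root_.True := by simp only [_root_.Cfsg.Agent.TypeLFive.CentGlue.lft.congr_simp]
  try have : _root_.True := by simp only [_root_.Cfsg.Agent.TypeLFive.CentGlue.phi.eq_1]
  exact _root_.True.intro
end
end
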